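/-
Semilinear maps of a six-dimensional unitary space over four elements, by codes.
-/
import Cfsg.Agent.Lib.SUSixSub.Main

set_option autoImplicit false
set_option maxRecDepth 30000
set_option linter.style.haveILetI false

namespace CfsgLib.Fi24Q

open Matrix CfsgLib.G24 CfsgLib.SUSixSub Equiv

/-- The space. -/
abbrev V := Fin 6 → K

/-- The hermitian form. -/
abbrev hV (u v : V) : K := Cfsg.hermForm 6 K 2 u v

/-- The exchange of the first two coordinates. -/
def sw (i : Fin 6) : Fin 6 := if i = 0 then 1 else if i = 1 then 0 else i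

theorem sw_sw : ∀ i, sw (sw i) = i := by decide

theorem cjK_cjK : ∀ a : K, cjK (cjK a) = a := by decide

theorem cjK_add : ∀ a b : K, cjK (a + b) = cjK a + cjK b := by decide

theorem cjK_mul : ∀ a b : K, cjK (a * b) = cjK a * cjK b := by decide

/-- The semilinear map. -/
def sgV (v : V) : V := fun i => cjK (v (sw i))

theorem sgV_sgV (v : V) : sgV (sgV v) = v := funext fun i => by simp only [sgV, sw_sw, cjK_cjK]

/-- The semilinear map as a permutation. -/
def Sg : Perm V := ⟨sgV, sgV, sgV_sgV, sgV_sgV⟩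

theorem Sg_sq : Sg * Sg = 1 := Equiv.ext sgV_sgV

/-- The linear maps as permutations. -/
noncomputable def lin : Γ →* Perm V :=
  MonoidHom.mk' (fun g => ⟨fun v => gm g *ᵥ v, fun v => gm g⁻¹ *ᵥ v,
    fun v => by simp only [mulVec_mulVec, ← gm_mul, inv_mul_cancel, gm_one, one_mulVec],
    fun v => by simp only [mulVec_mulVec, ← gm_mul, mul_inv_cancel, gm_one, one_mulVec]⟩)
    fun a b => Equiv.ext fun v => by
      show gm (a * b) *ᵥ v = gm a *ᵥ (gm b *ᵥ v)
      rw [gm_mul, mulVec_mulVec]

theorem lin_apply (g : Γ) (v : V) : lin g v = gm g *ᵥ v := rfl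

theorem lin_injective : Function.Injective lin := fun a b h => gm_inj
  (Matrix.ext_of_mulVec_single fun j => (lin_apply a _).symm.trans
    ((congrArg (fun p : Perm V => p (Pi.single j 1)) h).trans (lin_apply b _)))

/-- A code of a map: a matrix and a flag. -/
abbrev Elt := M6 × Bool

/-- The semilinear map on rows. -/
def sgR (v : R6) : R6 := SUSixSub.mk fun i => cjK (rowV v (sw i))

/-- The map of a code on rows. -/
def actE (E : Elt) (v : R6) : R6 := mulV E.1 (bif E.2 then sgR v else v)

/-- The map of a code. -/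
def mapE (E : Elt) (v : V) : V := mat6 E.1 *ᵥ (bif E.2 then sgV v else v)

theorem rowV_sgR (v : R6) : rowV (sgR v) = sgV (rowV v) := by
  funext i
  rw [sgR, rowV, get_mk]
  rfl

theorem rowV_actE (E : Elt) (v : R6) : rowV (actE E v) = mapE E (rowV v) := by
  obtain ⟨A, b⟩ := E
  cases b
  · exact mulV_eq A v
  · show rowV (mulV A (sgR v)) = _
    rw [mulV_eq, rowV_sgR]
    rfl

/-- The twisted matrix. -/
def swC (A : M6) : M6 := ofF fun i k => cjK (mat6 A (sw i) (sw k))

/-- The product of codes. -/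
def mulE (E F : Elt) : Elt := (mulM E.1 (bif E.2 then swC F.1 else F.1), Bool.xor E.2 F.2)

theorem sgV_mulVec (A : M6) (v : V) : sgV (mat6 A *ᵥ v) = mat6 (swC A) *ᵥ sgV v := by
  funext i
  simp only [sgV, Matrix.mulVec, dotProduct, Fin.sum_univ_six, swC, mat6_ofF, cjK_add, cjK_mul]
  rw [show sw (0 : Fin 6) = 1 from rfl, show sw (1 : Fin 6) = 0 from rfl, show sw (2 : Fin 6) = 2 from rfl,
    show sw (3 : Fin 6) = 3 from rfl, show sw (4 : Fin 6) = 4 from rfl, show sw (5 : Fin 6) = 5 from rfl]
  ring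

theorem mapE_mul (E F : Elt) (v : V) : mapE (mulE E F) v = mapE E (mapE F v) := by
  obtain ⟨A, a⟩ := E
  obtain ⟨B, b⟩ := F
  cases a <;> cases b <;>
    simp only [mapE, mulE, cond_true, cond_false, Bool.xor_false, Bool.false_xor, Bool.xor_true, Bool.not_false,
      Bool.not_true, mat6_mul, sgV_mulVec, ← Matrix.mulVec_mulVec, sgV_sgV]

/-- Equality of codes. -/
def beqE (E F : Elt) : Bool := beqM E.1 F.1 && (E.2 == F.2)

theorem mapE_congr {E F : Elt} (h : beqE E F = true) : mapE E = mapE F := by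
  simp only [beqE, Bool.and_eq_true, beq_iff_eq] at h
  funext v
  rw [mapE, mapE, of_beqM h.1, h.2]

/-- A code from numbers. -/
def eN (n : ℕ) (b : Bool) : Elt := (ofN n, b)

/-- The identity. -/
def oneE : Elt := (oneM, false)

theorem mapE_one (v : V) : mapE oneE v = v := by
  show mat6 oneM *ᵥ v = v
  rw [mat6_one, one_mulVec]

/-- The permutation of a code. -/
noncomputable def pe (E : Elt) : Perm V := lin (el E.1) * (bif E.2 then Sg else 1)

theorem pe_apply {E : Elt} (h : okM E.1 = true) (v : V) : pe E v = mapE E v := by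
  obtain ⟨A, b⟩ := E
  have hA : gm (el A) = mat6 A := gm_el h
  cases b <;> simp only [pe, mapE, Perm.mul_apply, cond_true, cond_false, lin_apply, hA] <;> rfl

/-- A permutation with a code. -/
def IsE (p : Perm V) (E : Elt) : Prop := ∀ v, p v = mapE E v

theorem IsE.mul {p q : Perm V} {E F : Elt} (hp : IsE p E) (hq : IsE q F) : IsE (p * q) (mulE E F) := fun v => by
  rw [Perm.mul_apply, hq, hp, mapE_mul]

theorem isE_one : IsE 1 oneE := fun v => (mapE_one v).symm

theorem isE_Sg : IsE Sg (oneM, true) := fun v => by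
  show sgV v = mat6 oneM *ᵥ sgV v
  rw [mat6_one, one_mulVec]

theorem isE_lin {g : Γ} {A : M6} (h : gm g = mat6 A) : IsE (lin g) (A, false) := fun v => by
  rw [lin_apply, h]
  rfl

theorem IsE.eq {p q : Perm V} {E F : Elt} (hp : IsE p E) (hq : IsE q F) (h : beqE E F = true) : p = q :=
  Equiv.ext fun v => by rw [hp, hq, mapE_congr h]

/-- The number of a digit. -/
def digK : K → ℕ
  | .o => 0
  | .i => 1
  | .w => 2
  | .v => 3

/-- The number of a row. -/
def cdR (v : R6) : ℕ := digK (rowV v 0) + 4 * (digK (rowV v 1) + 4 * (digK (rowV v 2) + 4 * (digK (rowV v 3) +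
  4 * (digK (rowV v 4) + 4 * digK (rowV v 5)))))

/-- The number of a vector. -/
def cdV (v : V) : ℕ := digK (v 0) + 4 * (digK (v 1) + 4 * (digK (v 2) + 4 * (digK (v 3) +
  4 * (digK (v 4) + 4 * digK (v 5)))))

/-- The vector of a number. -/
def vecN (n : ℕ) : V := rowV (rowN n)

theorem cdV_rowV (v : R6) : cdV (rowV v) = cdR v := rfl

theorem digK_lt : ∀ a : K, digK a < 4 := by decide

theorem cdV_lt (v : V) : cdV v < 4096 := by
  have h := fun i => digK_lt (v i)
  have := h 0; have := h 1; have := h 2; have := h 3; have := h 4; have := h 5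
  unfold cdV
  omega

theorem codes_ok : ((List.range 4096).all fun n => Nat.beq (cdR (rowN n)) n) = true := by decide +kernel

theorem cdV_vecN {n : ℕ} (h : n < 4096) : cdV (vecN n) = n :=
  Nat.eq_of_beq_eq_true (List.all_eq_true.mp codes_ok n (List.mem_range.mpr h))

theorem card_V : Nat.card V = 4096 := by
  rw [Nat.card_fun, Nat.card_eq_fintype_card, Nat.card_eq_fintype_card, Fintype.card_fin, K.card_eq]
  norm_num

theorem vecN_cdV (v : V) : vecN (cdV v) = v := by
  have hbij : Function.Bijective fun n : Fin 4096 => vecN n := by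
    refine (Nat.bijective_iff_injective_and_card _).mpr ⟨fun a b h => Fin.ext ?_, by rw [card_V, Nat.card_fin]⟩
    rw [← cdV_vecN a.2, ← cdV_vecN b.2]
    exact congrArg cdV h
  obtain ⟨n, rfl⟩ := hbij.2 v
  show vecN (cdV (vecN n)) = _
  rw [cdV_vecN n.2]

theorem cdV_inj {u v : V} (h : cdV u = cdV v) : u = v := by rw [← vecN_cdV u, h, vecN_cdV]

/-- The image of a number. -/
def img (E : Elt) (n : ℕ) : ℕ := cdR (actE E (rowN n))

theorem img_spec (E : Elt) (n : ℕ) : cdV (mapE E (vecN n)) = img E n := by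
  rw [vecN, ← rowV_actE, cdV_rowV]
  rfl

theorem IsE.img_eq {p : Perm V} {E : Elt} (hp : IsE p E) (n : ℕ) : cdV (p (vecN n)) = img E n := by
  rw [hp, img_spec]

theorem IsE.apply_vecN {p : Perm V} {E : Elt} (hp : IsE p E) (n : ℕ) : p (vecN n) = vecN (img E n) := by
  rw [← hp.img_eq, vecN_cdV]

/-- The set of a mask. -/
def inM (m : ℕ) : Set V := {v | m.testBit (cdV v) = true}

theorem mem_inM {m : ℕ} {v : V} : v ∈ inM m ↔ m.testBit (cdV v) = true := Iff.rfl

/-- The mask of a list. -/
def maskOf : List ℕ → ℕ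
  | [] => 0
  | x :: l => 2 ^ x ||| maskOf l

theorem testBit_maskOf : ∀ (l : List ℕ) (n : ℕ), (maskOf l).testBit n = true ↔ n ∈ l
  | [], n => by simp [maskOf]
  | x :: l, n => by
    simp only [maskOf, Nat.testBit_or, Bool.or_eq_true, testBit_maskOf l n, List.mem_cons, Nat.testBit_two_pow,
      decide_eq_true_eq]
    exact ⟨fun h => h.imp_left Eq.symm, fun h => h.imp_left Eq.symm⟩

/-- A list and its mask. -/
def maskOK (l : List ℕ) (m : ℕ) : Bool := Nat.beq (maskOf l) m && l.all fun x => Nat.blt x 4096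

theorem mem_of_maskOK {l : List ℕ} {m : ℕ} (h : maskOK l m = true) {v : V} : v ∈ inM m ↔ cdV v ∈ l := by
  simp only [maskOK, Bool.and_eq_true] at h
  rw [mem_inM, ← Nat.eq_of_beq_eq_true h.1, testBit_maskOf]

theorem vecN_mem {l : List ℕ} {m : ℕ} (h : maskOK l m = true) {n : ℕ} (hn : n ∈ l) : vecN n ∈ inM m := by
  have h2 := h
  simp only [maskOK, Bool.and_eq_true, List.all_eq_true, Nat.blt_eq] at h2
  rw [mem_of_maskOK h, cdV_vecN (h2.2 n hn)]
  exact hn

/-- A map carries a listed set into a mask. -/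
def moveOK (E : Elt) (l : List ℕ) (m : ℕ) : Bool := l.all fun x => m.testBit (img E x)

theorem move_mem {p : Perm V} {E : Elt} (hp : IsE p E) {l : List ℕ} {m m' : ℕ} (h : maskOK l m = true)
    (hm : moveOK E l m' = true) {v : V} (hv : v ∈ inM m) : p v ∈ inM m' := by
  rw [← vecN_cdV v, mem_inM, hp.img_eq]
  exact List.all_eq_true.mp hm _ ((mem_of_maskOK h).mp hv)

/-- A fingerprint of a code. -/
def fp (E : Elt) : ℕ := [1, 4, 16, 64, 256, 1024, 2].foldl (fun a n => 4096 * a + img E n) 0

theorem fp_congr {p : Perm V} {E F : Elt} (hE : IsE p E) (hF : IsE p F) : fp E = fp F := by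
  have h : ∀ n, img E n = img F n := fun n => (hE.img_eq n).symm.trans (hF.img_eq n)
  simp only [fp, h]

end CfsgLib.Fi24Q
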