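/-
Boolean checks for the data of Lib/Fi24Q/Data.lean.
-/
import Cfsg.Agent.Lib.Fi24Q.Model
import Cfsg.Agent.Lib.Fi24Q.Data

set_option autoImplicit false
set_option maxRecDepth 30000

namespace CfsgLib.Fi24Q

open CfsgLib.G24 CfsgLib.SUSixSub

/-- The value of the form on a number. -/
def qN (n : ℕ) : K := dot (rowV (rowN n)) fun i => cjK (rowV (rowN n) i)

/-- The form on two numbers. -/
def hN (a b : ℕ) : K := dot (rowV (rowN a)) fun i => cjK (rowV (rowN b) i)

/-- The sum of two numbers. -/
def addN (a b : ℕ) : ℕ := cdR (SUSixSub.mk fun i => K.addK (rowV (rowN a) i) (rowV (rowN b) i))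

/-- The first vector. -/
def tN : ℕ := 5

/-- The second vector. -/
def uN : ℕ := 85

/-- One node of a tree of images under linear maps. -/
def treeAt (gs : List ℕ) (t : List (ℕ × ℕ × ℕ)) (root k : ℕ) : Bool :=
  let e := t.getD k (0, 0, 0)
  (Nat.beq k 0 && Nat.beq e.1 root) ||
    (Nat.blt e.2.1 k && Nat.blt e.2.2 gs.length &&
      Nat.beq (img (eN (gs.getD e.2.2 0) false) (t.getD e.2.1 (0, 0, 0)).1) e.1)

/-- A tree of images under linear maps. -/
def treeB (gs : List ℕ) (t : List (ℕ × ℕ × ℕ)) (root : ℕ) : Bool :=
  (List.range t.length).all (treeAt gs t root)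

/-- Two lists of listed sets matched by a permutation. -/
def setsB (E : Elt) (ls : List (List ℕ)) (ms p : List ℕ) : Bool :=
  (List.range ls.length).all fun i => Nat.blt (p.getD i 0) ls.length &&
    moveOK E (ls.getD i []) (ms.getD (p.getD i 0) 0)

/-- The codes of the maps that are not in the group: two scalings of a coordinate, with or without
the transposition and with or without the Frobenius map. -/
def badA : List Elt :=
  [K.w, K.v].flatMap fun c => [false, true].flatMap fun b => [false, true].map fun t =>
    (ofF fun i k => if (if t then sw i else i) = k then (if i = 0 then c else .i) else .o, b)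

/-- A list of linear words. -/
def wordsB (L gs : List ℕ) (ws : List (List (ℕ × ℕ))) : Bool :=
  Nat.beq gs.length ws.length && (List.range gs.length).all fun j =>
    okM (ofN (gs.getD j 0)) && wordOK L (ws.getD j []) (gs.getD j 0)

/-- A code with a word. -/
def recB (e : (ℕ × Bool) × List (ℕ × ℕ)) : Bool := okM (ofN e.1.1) && wordOK gensA e.2 e.1.1

/-- The code of a recorded element. -/
def recE (e : ℕ × Bool) : Elt := eN e.1 e.2

/-- The code of a listed element. -/
def elS (k : ℕ) : Elt := recE (sEls.getD k ((0, false), 0, 0)).1

/-- The code of a listed involution. -/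
def invE (a : ℕ) : Elt := elS (invs.getD a 0)

/-- The product of two commuting involutions among the listed ones; 127 if they do not commute. -/
def mulI (a b : ℕ) : ℕ := ((invMul.getD a 0) >>> (7 * b)) % 128

/-- An entry of a table of extensions. -/
def nextI (rows : List ℕ) (i c : ℕ) : ℕ := ((rows.getD i 0) >>> (9 * c)) % 512

/-- The involutions generated by a list. -/
def spanI : List ℕ → List ℕ
  | [] => []
  | x :: l => let s := spanI l; x :: s ++ s.map fun y => mulI x y

/-- One step of extensions. -/
def stepB (src : List (List ℕ)) (dst : List (List ℕ)) (rows : List ℕ) : Bool :=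
  (List.range src.length).all fun i =>
    let g := src.getD i []
    let s := spanI g
    (List.range invs.length).all fun c => g.any (fun x => Nat.beq (mulI x c) 127) || s.any (Nat.beq c) ||
      (let t := spanI (c :: g)
       Nat.blt (nextI rows i c) dst.length && (dst.getD (nextI rows i c) []).all fun y => t.any (Nat.beq y))

/-- A row of the table of products. -/
def invRowB (a : ℕ) : Bool :=
  let A := invE a
  (List.range 71).all fun b => Nat.beq a b ||
    (if Nat.beq (mulI a b) 127 then !beqM (mulE A (invE b)).1 (mulE (invE b) A).1
     else Nat.blt (mulI a b) 71 && beqE (mulE A (invE b)) (invE (mulI a b)))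

/-- The images of the two halves. -/
def halves (qs : List ℕ) (hi : Bool) : List ℕ :=
  (List.range 64).map fun x =>
    let n := bif hi then 64 * x else x
    qs.foldl (fun s a => 4096 * s + addN (img (invE a) n) n) 0

/-- The common fixed vectors. -/
def fixL (qs : List ℕ) : List ℕ :=
  let A := halves qs false
  let B := halves qs true
  (List.range 64).flatMap fun j =>
    let b := B.getD j 0
    (((List.range 64).filter fun i => Nat.beq (A.getD i 0) b)).map fun i => i + 64 * j

end CfsgLib.Fi24Q
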