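/-
Tools for reading the checks: the form, sets of vectors, trees and words.
-/
import Cfsg.Agent.Lib.Fi24Q.Defs

set_option autoImplicit false
set_option maxRecDepth 30000
set_option linter.style.haveILetI false

namespace CfsgLib.Fi24Q

open Matrix CfsgLib.G24 CfsgLib.SUSixSub Equiv

theorem hV_eq (u v : V) : hV u v = dot u fun i => cjK (v i) := by
  rw [dot_eq]
  simp only [hV, Cfsg.hermForm, dotProduct, cjK_eq]

theorem hN_eq (a b : ℕ) : hN a b = hV (vecN a) (vecN b) := (hV_eq _ _).symm

theorem qN_eq (n : ℕ) : qN n = hV (vecN n) (vecN n) := (hV_eq _ _).symm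

theorem beqK_refl : ∀ a : K, beqK a a = true := by decide

theorem beqK_iff (a b : K) : beqK a b = true ↔ a = b :=
  ⟨beqK_eq a b, fun h => h ▸ beqK_refl a⟩

theorem hV_swap (u v : V) : cjK (hV u v) = hV v u := by
  simp only [hV, Cfsg.hermForm, Fin.sum_univ_six, cjK_add, cjK_mul, ← cjK_eq, cjK_cjK]
  ring

theorem hV_lin (g : Γ) (u v : V) : hV (lin g u) (lin g v) = hV u v := g.2 u v

theorem hV_Sg (u v : V) : hV (Sg u) (Sg v) = cjK (hV u v) := by
  show hV (sgV u) (sgV v) = _
  simp only [hV, Cfsg.hermForm, Fin.sum_univ_six, cjK_add, cjK_mul, sgV, ← cjK_eq, cjK_cjK]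
  rw [show sw (0 : Fin 6) = 1 from rfl, show sw (1 : Fin 6) = 0 from rfl, show sw (2 : Fin 6) = 2 from rfl,
    show sw (3 : Fin 6) = 3 from rfl, show sw (4 : Fin 6) = 4 from rfl, show sw (5 : Fin 6) = 5 from rfl]
  ring

theorem vecN_add (a b : ℕ) : vecN a + vecN b = vecN (addN a b) := by
  refine cdV_inj ?_
  have h : cdV (vecN a + vecN b) = addN a b := by
    rw [addN, ← cdV_rowV]
    congr 1
    funext i
    rw [rowV, get_mk]
    rfl
  rw [← h, vecN_cdV]

theorem vecN_zero : vecN 0 = 0 := by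
  funext i
  fin_cases i <;> rfl

theorem vecN_inj {a b : ℕ} (ha : a < 4096) (hb : b < 4096) (h : vecN a = vecN b) : a = b := by
  rw [← cdV_vecN ha, h, cdV_vecN hb]

theorem mapE_add (E : Elt) (u v : V) : mapE E (u + v) = mapE E u + mapE E v := by
  obtain ⟨A, b⟩ := E
  cases b
  · exact Matrix.mulVec_add _ _ _
  · show mat6 A *ᵥ sgV (u + v) = _
    rw [show sgV (u + v) = sgV u + sgV v from funext fun i => cjK_add _ _]
    exact Matrix.mulVec_add _ _ _

theorem IsE.map_add {p : Perm V} {E : Elt} (hp : IsE p E) (u v : V) : p (u + v) = p u + p v := by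
  rw [hp, hp, hp, mapE_add]

/-- Maps with the same flag and the same values have the same matrix. -/
theorem beqM_of_map {E F : Elt} (hb : E.2 = F.2) (h : mapE E = mapE F) : beqM E.1 F.1 = true := by
  have e : mat6 E.1 = mat6 F.1 := by
    refine Matrix.ext_of_mulVec_single fun j => ?_
    have h1 := congrFun h (bif E.2 then sgV (Pi.single j 1) else Pi.single j 1)
    simp only [mapE, ← hb] at h1
    cases hE : E.2 <;> simp only [hE, cond_true, cond_false, sgV_sgV] at h1 <;> exact h1
  simp only [beqM, List.all_eq_true, e]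
  exact fun i _ k _ => beqK_refl _

/-- Elements with a word lie in the group. -/
theorem mem_word {n : ℕ} {w : List (ℕ × ℕ)} (hn : okM (ofN n) = true) (hw : wordOK gensA w n = true) :
    elN n ∈ K0 := by
  refine mem_of_wordOK okA.1 (fun a ha => ?_) hn hw
  obtain ⟨j, hj, rfl⟩ := List.getElem_of_mem ha
  have hj2 : j < 2 := okA.2 ▸ hj
  rw [← List.getD_eq_getElem gensA 0 hj]
  exact gensA_mem ⟨j, hj2⟩

theorem isE_elN {n : ℕ} (hn : okM (ofN n) = true) : IsE (lin (elN n)) (eN n false) := isE_lin (gm_elN hn)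

/-- The element of a code. -/
noncomputable def peN (e : ℕ × Bool) : Perm V := lin (elN e.1) * (if e.2 then Sg else 1)

theorem isE_peN {e : ℕ × Bool} (hn : okM (ofN e.1) = true) : IsE (peN e) (recE e) := by
  obtain ⟨n, b⟩ := e
  cases b
  · simp only [peN, Bool.false_eq_true, if_false, mul_one]
    exact isE_elN hn
  · simp only [peN, if_true]
    intro v
    rw [Perm.mul_apply, isE_elN hn (Sg v)]
    rfl

theorem wordsB_spec {L gs : List ℕ} {ws : List (List (ℕ × ℕ))} (h : wordsB L gs ws = true) {j : ℕ}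
    (hj : j < gs.length) : okM (ofN (gs.getD j 0)) = true ∧ wordOK L (ws.getD j []) (gs.getD j 0) = true := by
  simp only [wordsB, Bool.and_eq_true, List.all_eq_true, List.mem_range] at h
  exact h.2 j hj

/-- Trees of images are orbits. -/
theorem tree_reach {gs : List ℕ} {t : List (ℕ × ℕ × ℕ)} {root : ℕ} (h : treeB gs t root = true)
    (hgs : ∀ j < gs.length, okM (ofN (gs.getD j 0)) = true) {H : Subgroup (Perm V)}
    (hH : ∀ j < gs.length, lin (elN (gs.getD j 0)) ∈ H) {n : ℕ} (hn : n ∈ t.map fun e => e.1) :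
    ∃ g ∈ H, g (vecN root) = vecN n := by
  obtain ⟨e, he, rfl⟩ := List.mem_map.mp hn
  obtain ⟨k, hk, rfl⟩ := List.getElem_of_mem he
  rw [← List.getD_eq_getElem t (0, 0, 0) hk]
  clear hn he
  induction k using Nat.strong_induction_on with
  | _ k ih =>
    have hc := List.all_eq_true.mp h k (List.mem_range.mpr hk)
    simp only [treeAt, Bool.or_eq_true, Bool.and_eq_true, Nat.blt_eq] at hc
    rcases hc with ⟨-, hc⟩ | ⟨⟨hp, hj⟩, hc⟩
    · refine ⟨1, one_mem H, ?_⟩
      rw [Nat.eq_of_beq_eq_true hc]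
      rfl
    · obtain ⟨g, hg, e⟩ := ih _ hp (hp.trans hk)
      refine ⟨_, mul_mem (hH _ hj) hg, ?_⟩
      rw [Perm.mul_apply, e, (isE_elN (hgs _ hj)).apply_vecN, Nat.eq_of_beq_eq_true hc]

/-- The number of members of a mask. -/
def countM (m : ℕ) : ℕ := ((List.range 4096).filter fun n => m.testBit n).length

theorem ncard_inM (m : ℕ) : (inM m).ncard = countM m := by
  have e : inM m = ↑(((List.range 4096).filter fun n => m.testBit n).toFinset.image vecN) := by
    ext v
    simp only [mem_inM, Finset.coe_image, Set.mem_image, List.coe_toFinset, Set.mem_setOf_eq, List.mem_filter,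
      List.mem_range]
    constructor
    · exact fun h => ⟨cdV v, ⟨cdV_lt v, h⟩, vecN_cdV v⟩
    · rintro ⟨n, ⟨hn, h⟩, rfl⟩
      rwa [cdV_vecN hn]
  rw [e, Set.ncard_coe_finset, Finset.card_image_of_injOn, List.toFinset_card_of_nodup, countM]
  · exact List.Nodup.filter _ List.nodup_range
  · intro a ha b hb
    simp only [List.coe_toFinset, Set.mem_setOf_eq, List.mem_filter, List.mem_range] at ha hb
    exact vecN_inj ha.1 hb.1

theorem image_eq_of_move {p : Perm V} {E : Elt} (hp : IsE p E) {l : List ℕ} {m m' : ℕ} (h : maskOK l m = true)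
    (hm : moveOK E l m' = true) (hc : countM m = countM m') : p '' inM m = inM m' :=
  Set.eq_of_subset_of_ncard_le (by rintro _ ⟨v, hv, rfl⟩; exact move_mem hp h hm hv)
    (by rw [Set.ncard_image_of_injective _ p.injective, ncard_inM, ncard_inM, hc]) (Set.toFinite _)

/-- The set with a number in a list of masks. -/
def secL {k : ℕ} (ms : List ℕ) (i : Fin k) : Set V := inM (ms.getD i.val 0)

/-- A permutation acting on listed sets. -/
def Acts {k : ℕ} (ms : List ℕ) (p : Perm V) (π : Fin k → Fin k) : Prop := ∀ i, p '' secL ms i = secL ms (π i)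

theorem Acts.mul {k : ℕ} {ms : List ℕ} {p q : Perm V} {π σ : Fin k → Fin k} (hp : Acts ms p π) (hq : Acts ms q σ) :
    Acts ms (p * q) (π ∘ σ) := fun i => by
  rw [Perm.coe_mul, Set.image_comp, hq, hp]
  rfl

theorem acts_one {k : ℕ} (ms : List ℕ) : Acts (k := k) ms (1 : Perm V) id := fun i => by
  rw [Perm.coe_one, Set.image_id]
  rfl

theorem Acts.unique {k : ℕ} {ms : List ℕ} (hinj : Function.Injective (secL (k := k) ms)) {p : Perm V}
    {π σ : Fin k → Fin k} (hp : Acts ms p π) (hq : Acts ms p σ) : π = σ :=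
  funext fun i => hinj ((hp i).symm.trans (hq i))

/-- A list of positions as a map. -/
def posF {k : ℕ} (hk : 0 < k) (p : List ℕ) (i : Fin k) : Fin k := ⟨p.getD i.val 0 % k, Nat.mod_lt _ hk⟩

theorem acts_of_setsB {k : ℕ} (hk : 0 < k) {E : Elt} {ls : List (List ℕ)} {ms p : List ℕ} {c : ℕ} {g : Perm V}
    (hg : IsE g E) (hlen : ls.length = k) (hok : ∀ i < k, maskOK (ls.getD i []) (ms.getD i 0) = true)
    (hc : ∀ i < k, countM (ms.getD i 0) = c) (h : setsB E ls ms p = true) :
    Acts ms g (posF hk p) ∧ ∀ i : Fin k, p.getD i.val 0 < k := by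
  simp only [setsB, List.all_eq_true, List.mem_range, Bool.and_eq_true, Nat.blt_eq, hlen] at h
  refine ⟨fun i => ?_, fun i => (h i i.2).1⟩
  have hi := h i i.2
  show g '' inM _ = inM _
  simp only [posF, Nat.mod_eq_of_lt hi.1]
  exact image_eq_of_move hg (hok i i.2) hi.2 ((hc i i.2).trans (hc _ hi.1).symm)

end CfsgLib.Fi24Q
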