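/-
An elementary group of order 4096 with a fixed-point-free element of order three and an invariant
alternating form is the unitary space.
-/
import Cfsg.Agent.Lib.Aschbacher.UnitaryPair
import Cfsg.Agent.Lib.Fi24Q.Sets

set_option autoImplicit false
set_option linter.style.haveILetI false
set_option linter.unusedSectionVars false

namespace CfsgLib.Fi24Q

open Matrix CfsgLib.G24 CfsgLib.SUSixSub

/-- The bit as a scalar. -/
def bitK (a : ZMod 2) : K := if a = 0 then 0 else 1

theorem bitK_add : ∀ a b : ZMod 2, bitK (a + b) = bitK a + bitK b := by decide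

/-- The scalar with two bits. -/
def pairK (a b : ZMod 2) : K := bitK a + bitK b * K.w

theorem pairK_add : ∀ a a' b b' : ZMod 2, pairK (a + a') (b + b') = pairK a b + pairK a' b' := by decide

theorem pairK_cj : ∀ a b : ZMod 2, cjK (pairK a b) = pairK (a + b) b := by decide

theorem pairK_zero : ∀ a b : ZMod 2, pairK a b = 0 ↔ a = 0 ∧ b = 0 := by decide

/-- The data of the form. -/
structure GForm (W : Type*) [CommGroup W] where
  sq : ∀ w : W, w * w = 1
  om : MulAut W
  rel : ∀ w : W, w * om w * om (om w) = 1
  B : W → W → ZMod 2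
  add : ∀ a b c, B (a * b) c = B a c + B b c
  symm : ∀ a b, B a b = B b a
  inv : ∀ a b, B (om a) (om b) = B a b
  alt : ∀ a, B a a = 0
  nd : ∀ a, (∀ b, B a b = 0) → a = 1

namespace GForm

variable {W : Type*} [CommGroup W] (F : GForm W)

/-- The scalar action. -/
def sm : K → W → W
  | .o, _ => 1
  | .i, w => w
  | .w, w => F.om w
  | .v, w => F.om (F.om w)

theorem om_om (w : W) : F.om (F.om w) = w * F.om w := by
  have h := F.rel w
  rw [← mul_eq_one_iff_inv_eq.mp h, inv_eq_of_mul_eq_one_right (F.sq (w * F.om w))]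

theorem om_three (w : W) : F.om (F.om (F.om w)) = w := by
  rw [F.om_om, F.om_om, mul_left_comm, F.sq, mul_one]

theorem sm_add (a b : K) (w : W) : F.sm (a + b) w = F.sm a w * F.sm b w := by
  have s1 := F.sq w
  have s2 := F.sq (F.om w)
  have s3 := F.sq (w * F.om w)
  cases a <;> cases b <;> (try simp only [show (K.o + K.o) = K.o from rfl, show (K.i + K.i) = K.o from rfl,
    show (K.w + K.w) = K.o from rfl, show (K.v + K.v) = K.o from rfl, show (K.o + K.i) = K.i from rfl,
    show (K.i + K.o) = K.i from rfl, show (K.o + K.w) = K.w from rfl, show (K.w + K.o) = K.w from rfl,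
    show (K.o + K.v) = K.v from rfl, show (K.v + K.o) = K.v from rfl, show (K.i + K.w) = K.v from rfl,
    show (K.w + K.i) = K.v from rfl, show (K.i + K.v) = K.w from rfl, show (K.v + K.i) = K.w from rfl,
    show (K.w + K.v) = K.i from rfl, show (K.v + K.w) = K.i from rfl, sm, F.om_om, one_mul, mul_one, s1, s2, s3])
  · rw [← mul_assoc, s1, one_mul]
  · exact mul_comm _ _
  · rw [← mul_left_comm, s2, mul_one]
  · rw [mul_comm w (F.om w), mul_assoc, s1, mul_one]
  · rw [mul_assoc, s2, mul_one]

theorem sm_mul (a b : K) (w : W) : F.sm (a * b) w = F.sm a (F.sm b w) := by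
  cases a <;> cases b <;> first
    | rfl
    | exact (map_one F.om).symm
    | exact ((congrArg F.om (map_one F.om)).trans (map_one F.om)).symm
    | exact (F.om_three w).symm
    | exact (congrArg F.om (F.om_three w)).symm

/-- The vector space structure. -/
@[reducible] def mod : Module K (Additive W) where
  smul a w := Additive.ofMul (F.sm a (Additive.toMul w))
  one_smul _ := rfl
  mul_smul a b w := congrArg Additive.ofMul (F.sm_mul a b _)
  smul_zero a := by cases a <;> first | rfl | exact congrArg Additive.ofMul (map_one F.om) | exact congrArg Additive.ofMul ((congrArg F.om (map_one F.om)).trans (map_one F.om))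
  smul_add a u v := by cases a <;> first | exact congrArg Additive.ofMul (one_mul (1 : W)).symm | rfl | exact congrArg Additive.ofMul (map_mul F.om _ _) | exact congrArg Additive.ofMul ((congrArg F.om (map_mul F.om _ _)).trans (map_mul F.om _ _))
  add_smul a b w := congrArg Additive.ofMul (F.sm_add a b _)
  zero_smul _ := rfl

/-- The hermitian form. -/
def h (u v : W) : K := pairK (F.B (F.om (F.om u)) v) (F.B u v)

theorem B_one (v : W) : F.B 1 v = 0 := by
  have h := F.add 1 1 v
  rw [one_mul] at h
  exact left_eq_add.mp h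

theorem h_add (u u' v : W) : F.h (u * u') v = F.h u v + F.h u' v := by
  simp only [h, map_mul, F.add, pairK_add]

theorem B_om2 (u v : W) : F.B (F.om (F.om u)) v = F.B u v + F.B (F.om u) v := by rw [F.om_om, F.add]

theorem B_left (u v : W) : F.B (F.om u) v = F.B u (F.om (F.om v)) := by
  conv_lhs => rw [← F.om_three v]
  exact F.inv _ _

theorem h_swap (u v : W) : cjK (F.h u v) = F.h v u := by
  simp only [h, pairK_cj, F.B_om2]
  rw [F.symm v u, F.symm (F.om v) u,
    show F.B u (F.om v) = F.B u v + F.B (F.om u) v by rw [F.symm u (F.om v), F.B_left, F.symm, F.B_om2]]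
  generalize F.B u v = a
  generalize F.B (F.om u) v = b
  revert a b; decide

theorem h_sm (k : K) (u v : W) : F.h (F.sm k u) v = k * F.h u v := by
  cases k
  · simp only [sm, h, map_one, F.B_one]; exact (zero_mul _).symm
  · exact (one_mul _).symm
  · simp only [sm, h]
    rw [F.om_three, F.B_om2]
    generalize F.B u v = a
    generalize F.B (F.om u) v = b
    revert a b; decide
  · simp only [sm, h]
    rw [F.om_three, F.B_om2]
    generalize F.B u v = a
    generalize F.B (F.om u) v = b
    revert a b; decide

/-- Coordinates for which the form is the standard one. -/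
theorem exists_coord [Finite W] (hc : Nat.card W = 4096) :
    ∃ φ : W ≃ V, (∀ a b, φ (a * b) = φ a + φ b) ∧ (∀ a, φ (F.om a) = K.w • φ a) ∧
      ∀ a b, hV (φ a) (φ b) = F.h a b := by
  classical
  letI := F.mod
  haveI : Module.Finite K (Additive W) := Module.Finite.of_finite
  have hd : Module.finrank K (Additive W) = 6 := by
    have hh := Module.natCard_eq_pow_finrank (K := K) (V := Additive W)
    rw [Nat.card_eq_fintype_card (α := K), K.card_eq, ← Nat.card_congr Additive.ofMul, hc,
      show (4096 : ℕ) = 4 ^ 6 by norm_num] at hh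
    exact (Nat.pow_right_injective (by norm_num) hh).symm
  let b := (Module.finBasis K (Additive W)).reindex (finCongr hd)
  let σ : K ≃+* K :=
    { toFun := cjK, invFun := cjK, left_inv := cjK_cjK, right_inv := cjK_cjK,
      map_mul' := cjK_mul, map_add' := cjK_add }
  let H : Additive W →ₗ[K] Additive W →ₛₗ[σ.toRingHom] K :=
    { toFun := fun u =>
        { toFun := fun v => F.h u.toMul v.toMul
          map_add' := fun v v' => by
            show F.h u.toMul (v.toMul * v'.toMul) = _
            rw [← F.h_swap, F.h_add, cjK_add, F.h_swap, F.h_swap]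
          map_smul' := fun k v => by
            show F.h u.toMul (F.sm k v.toMul) = cjK k * _
            rw [← F.h_swap, F.h_sm, cjK_mul, F.h_swap] }
      map_add' := fun u u' => LinearMap.ext fun v => F.h_add _ _ _
      map_smul' := fun k u => LinearMap.ext fun v => F.h_sm k _ _ }
  let G : Matrix (Fin 6) (Fin 6) K := fun i j => H (b i) (b j)
  have expand : ∀ u v, H u v = (b.repr u : Fin 6 → K) ⬝ᵥ (G *ᵥ fun j => cjK (b.repr v j)) := fun u v => by
    conv_lhs => rw [← b.sum_repr u, ← b.sum_repr v]
    simp only [map_sum, LinearMap.sum_apply, map_smul, LinearMap.smul_apply, LinearMap.map_smulₛₗ, smul_eq_mul,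
      dotProduct, Matrix.mulVec, Finset.mul_sum]
    rw [Finset.sum_comm]
    refine Finset.sum_congr rfl fun i _ => Finset.sum_congr rfl fun j _ => ?_
    show _ = _ * (H (b i) (b j) * _)
    rw [show σ.toRingHom (b.repr v j) = cjK (b.repr v j) from rfl]
    ring
  have hG : IsUnit G := by
    refine Matrix.mulVec_injective_iff_isUnit.mp ?_
    suffices h0 : ∀ x, G *ᵥ x = 0 → x = 0 from fun x y e =>
      sub_eq_zero.mp (h0 _ (by rw [Matrix.mulVec_sub]; exact sub_eq_zero.mpr e))
    intro x hx
    let v : Additive W := ∑ j, cjK (x j) • b j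
    have hr : (fun j => cjK (b.repr v j)) = x := funext fun j => by
      rw [b.repr_sum_self, cjK_cjK]
    have hv : v.toMul = 1 := F.nd _ fun u => by
      have e := expand (Additive.ofMul u) v
      rw [hr, hx, dotProduct_zero] at e
      have e2 : F.h u v.toMul = 0 := e
      have e3 := ((pairK_zero _ _).mp e2).2
      rwa [F.symm] at e3
    have hv0 : v = 0 := hv
    rw [← hr, hv0]
    funext j
    simp only [map_zero, Finsupp.coe_zero, Pi.zero_apply]
    rfl
  obtain ⟨C, hC⟩ := CfsgLib.Aschbacher.exists_orthonormal (σ := σ)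
    (fun e => absurd (RingEquiv.congr_fun e K.w) (by decide)) cjK_cjK hG
    (by ext i j; exact (F.h_swap _ _).symm)
  let φ : Additive W ≃ₗ[K] V := b.equivFun.trans
    (Matrix.toLinearEquiv' ((C⁻¹ : GL (Fin 6) K) : Matrix (Fin 6) (Fin 6) K) (C⁻¹).invertible)
  refine ⟨(Additive.ofMul).trans φ.toEquiv, fun a b => φ.map_add _ _, fun a => φ.map_smul K.w (Additive.ofMul a),
    fun u v => ?_⟩
  have hy : ∀ u : Additive W, (b.repr u : Fin 6 → K) = (C : Matrix (Fin 6) (Fin 6) K) *ᵥ φ u := fun u => by
    show _ = (C : Matrix (Fin 6) (Fin 6) K) *ᵥ (((C⁻¹ : GL (Fin 6) K) : Matrix (Fin 6) (Fin 6) K) *ᵥ b.equivFun u)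
    rw [Matrix.mulVec_mulVec, Units.mul_inv, Matrix.one_mulVec, Module.Basis.equivFun_apply]
  have e := expand (Additive.ofMul u) (Additive.ofMul v)
  rw [hy] at e
  have hs : (fun j => cjK (b.repr (Additive.ofMul v) j)) =
      (C : Matrix (Fin 6) (Fin 6) K).map σ *ᵥ fun j => cjK (φ (Additive.ofMul v) j) := by
    funext j
    rw [hy]
    exact RingHom.map_mulVec σ.toRingHom _ _ j
  rw [hs, Matrix.dotProduct_mulVec, Matrix.dotProduct_mulVec, ← Matrix.mulVec_transpose,
    ← Matrix.mulVec_transpose, Matrix.mulVec_mulVec, Matrix.mulVec_mulVec] at e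
  refine ((hV_eq _ _).trans ?_).trans e.symm
  rw [dot_eq, show ((C : Matrix (Fin 6) (Fin 6) K).map σ)ᵀ * Gᵀ * (C : Matrix (Fin 6) (Fin 6) K) = 1 by
    have := congrArg Matrix.transpose hC
    rw [Matrix.transpose_mul, Matrix.transpose_mul, Matrix.transpose_transpose, Matrix.transpose_one,
      ← Matrix.mul_assoc] at this
    exact this, Matrix.one_mulVec]
  rfl

end GForm

end CfsgLib.Fi24Q
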