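/-
Witnesses that no non-trivial two-group of permutations of the six sets is normal (generated).
-/
import Mathlib

set_option autoImplicit false

namespace CfsgLib.Fi24Q

/-- A conjugator, the conjugate and the order of the product. -/
def sixWit : List (ℕ × ℕ × ℕ) := [
  (0, 0, 1), (0, 1, 5), (3, 32, 5), (0, 3, 5), (1, 5, 5), (1, 46, 5), (0, 6, 5), (0, 7, 5),
  (0, 8, 5), (0, 9, 5), (0, 10, 5), (0, 11, 5), (0, 12, 5), (0, 13, 5), (0, 14, 5), (1, 18, 5),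
  (0, 16, 5), (0, 17, 5), (1, 100, 5), (1, 20, 5), (1, 21, 5), (1, 23, 5), (0, 22, 5), (1, 26, 5),
  (0, 24, 5), (0, 25, 5), (1, 19, 5), (0, 27, 5), (0, 28, 5), (0, 29, 5), (0, 30, 5), (3, 34, 5),
  (2, 89, 5), (1, 36, 5), (2, 92, 5), (0, 35, 5), (1, 40, 5), (3, 31, 5), (1, 41, 5), (0, 39, 5),
  (1, 44, 5), (1, 177, 5), (0, 42, 5), (0, 43, 5), (1, 181, 5), (0, 45, 5), (1, 48, 5), (1, 50, 5),
  (1, 51, 5), (0, 49, 5), (1, 54, 5), (1, 4, 5), (0, 52, 5), (0, 53, 5), (1, 58, 5), (0, 55, 5),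
  (0, 56, 5), (1, 64, 3), (1, 65, 5), (1, 67, 3), (0, 60, 5), (1, 227, 3), (0, 62, 5), (1, 190, 5),
  (1, 230, 3), (1, 47, 5), (1, 231, 3), (1, 168, 3), (0, 68, 5), (1, 73, 5), (0, 70, 5), (0, 71, 5),
  (0, 72, 5), (1, 76, 5), (0, 74, 5), (0, 75, 5), (1, 82, 5), (0, 77, 5), (0, 78, 5), (0, 79, 5),
  (0, 80, 5), (1, 90, 3), (1, 91, 5), (0, 83, 5), (0, 84, 5), (0, 85, 5), (1, 95, 3), (0, 87, 5),
  (0, 88, 5), (1, 276, 5), (1, 277, 3), (1, 69, 5), (1, 278, 5), (0, 93, 5), (0, 94, 5), (1, 280, 3),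
  (0, 96, 5), (0, 97, 5), (0, 98, 5), (0, 99, 5), (1, 104, 5), (0, 101, 5), (0, 102, 5), (0, 103, 3),
  (1, 110, 5), (0, 105, 3), (0, 106, 5), (0, 107, 3), (0, 108, 5), (0, 109, 3), (1, 15, 5), (0, 111, 3),
  (0, 112, 3), (0, 113, 5), (0, 114, 3), (0, 115, 3), (0, 116, 5), (0, 117, 3), (0, 118, 3), (0, 119, 3),
  (0, 120, 3), (0, 121, 5), (0, 122, 3), (0, 123, 3), (0, 124, 3), (0, 125, 5), (0, 126, 3), (1, 306, 5),
  (0, 128, 3), (0, 129, 5), (0, 130, 3), (0, 131, 5), (0, 132, 5), (0, 133, 5), (0, 134, 3), (0, 135, 5),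
  (0, 136, 3), (0, 137, 5), (0, 138, 5), (0, 139, 5), (0, 140, 3), (0, 141, 5), (0, 142, 5), (0, 143, 3),
  (0, 144, 5), (0, 145, 5), (0, 146, 5), (0, 147, 5), (0, 148, 5), (0, 149, 3), (0, 150, 5), (0, 151, 3),
  (0, 152, 5), (0, 153, 5), (0, 154, 5), (0, 155, 5), (0, 156, 3), (0, 157, 5), (0, 158, 5), (0, 159, 5),
  (0, 160, 3), (1, 57, 3), (0, 162, 5), (2, 73, 3), (0, 164, 5), (0, 165, 5), (0, 166, 5), (0, 167, 5),
  (1, 238, 3), (0, 169, 3), (0, 170, 5), (0, 171, 5), (0, 172, 5), (0, 173, 5), (0, 174, 5), (0, 175, 3),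
  (2, 82, 3), (1, 63, 5), (0, 178, 3), (0, 179, 5), (0, 180, 5), (1, 33, 5), (0, 182, 3), (0, 183, 5),
  (0, 184, 3), (0, 185, 5), (0, 186, 5), (0, 187, 5), (0, 188, 3), (0, 189, 5), (1, 38, 5), (0, 191, 5),
  (0, 192, 3), (0, 193, 5), (0, 194, 5), (0, 195, 5), (0, 196, 3), (1, 210, 5), (0, 198, 5), (0, 199, 5),
  (0, 200, 5), (0, 201, 5), (0, 202, 3), (2, 224, 5), (0, 204, 5), (0, 205, 5), (2, 177, 3), (0, 207, 5),
  (0, 208, 3), (0, 209, 5), (1, 224, 5), (0, 211, 5), (0, 212, 5), (0, 213, 5), (0, 214, 5), (0, 215, 3),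
  (1, 310, 5), (2, 190, 3), (0, 218, 5), (0, 219, 5), (2, 197, 5), (0, 221, 5), (0, 222, 3), (0, 223, 5),
  (1, 247, 5), (0, 225, 5), (0, 226, 3), (1, 233, 3), (0, 228, 5), (0, 229, 3), (1, 235, 3), (1, 236, 3),
  (0, 232, 3), (1, 242, 3), (0, 234, 3), (1, 161, 3), (1, 248, 3), (2, 265, 3), (1, 251, 3), (0, 239, 3),
  (0, 240, 3), (2, 267, 5), (1, 254, 3), (0, 243, 3), (0, 244, 3), (0, 245, 3), (0, 246, 3), (1, 259, 5),
  (1, 260, 3), (0, 249, 3), (3, 273, 5), (1, 59, 3), (0, 252, 3), (3, 217, 3), (1, 61, 3), (1, 265, 5),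
  (0, 256, 3), (1, 267, 5), (0, 258, 3), (1, 197, 5), (1, 66, 3), (0, 261, 3), (3, 299, 5), (3, 308, 3),
  (0, 264, 5), (1, 296, 5), (0, 266, 3), (1, 345, 5), (0, 268, 3), (0, 269, 3), (0, 270, 3), (0, 271, 3),
  (0, 272, 5), (2, 255, 3), (2, 257, 5), (0, 275, 5), (1, 282, 5), (1, 284, 3), (1, 286, 5), (0, 279, 5),
  (1, 289, 3), (1, 291, 5), (1, 293, 5), (0, 283, 3), (1, 295, 3), (0, 285, 3), (1, 290, 5), (1, 89, 5),
  (0, 288, 3), (1, 300, 3), (1, 301, 5), (1, 127, 5), (0, 292, 5), (1, 287, 5), (0, 294, 3), (1, 81, 3),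
  (1, 216, 5), (0, 297, 3), (1, 303, 5), (2, 356, 5), (1, 86, 3), (1, 92, 5), (1, 309, 5), (1, 314, 5),
  (0, 304, 3), (3, 348, 3), (1, 321, 5), (0, 307, 3), (3, 220, 3), (1, 355, 5), (1, 255, 5), (0, 311, 3),
  (0, 312, 3), (0, 313, 5), (1, 357, 5), (0, 315, 5), (0, 316, 5), (3, 352, 3), (0, 318, 3), (0, 319, 3),
  (3, 253, 3), (1, 281, 5), (0, 322, 3), (0, 323, 5), (0, 324, 3), (3, 305, 3), (0, 326, 3), (0, 327, 3),
  (2, 306, 5), (0, 329, 3), (0, 330, 3), (0, 331, 3), (0, 332, 3), (0, 333, 3), (2, 357, 5), (0, 335, 5),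
  (0, 336, 3), (0, 337, 5), (0, 338, 5), (0, 339, 5), (0, 340, 5), (1, 350, 5), (2, 359, 5), (0, 343, 3),
  (0, 344, 5), (1, 341, 5), (0, 346, 5), (0, 347, 5), (2, 291, 5), (0, 349, 5), (1, 257, 5), (0, 351, 5),
  (3, 176, 3), (0, 353, 5), (0, 354, 5), (1, 356, 5), (1, 358, 5), (1, 359, 5), (1, 302, 5), (1, 298, 5)]

end CfsgLib.Fi24Q
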