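/-
Checks of the orbits and of the six sets.
-/
import Cfsg.Agent.Lib.Fi24Q.Defs
import Cfsg.Agent.Lib.Fi24Q.DataWit

set_option autoImplicit false
set_option maxRecDepth 30000
set_option maxHeartbeats 4000000

namespace CfsgLib.Fi24Q

open CfsgLib.G24 CfsgLib.SUSixSub

theorem orbA_ok : treeB gensA orbA tN = true ∧ orbA.length = 378 ∧ maskOK (orbA.map fun e => e.1) maskA = true := by
  decide +kernel

theorem orbA_inv : (gensA.all fun g => moveOK (eN g false) (orbA.map fun e => e.1) maskA) = true ∧
    moveOK (oneM, true) (orbA.map fun e => e.1) maskA = true := by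
  decide +kernel

theorem orbB_part0 : (List.range' 0 426).all (treeAt gensA orbB uN) = true := by
  decide +kernel

theorem orbB_part1 : (List.range' 426 426).all (treeAt gensA orbB uN) = true := by
  decide +kernel

theorem orbB_part2 : (List.range' 852 426).all (treeAt gensA orbB uN) = true := by
  decide +kernel

theorem orbB_part3 : (List.range' 1278 423).all (treeAt gensA orbB uN) = true := by
  decide +kernel

theorem orbB_tail : orbB.length = 1701 ∧ maskOK (orbB.map fun e => e.1) maskB = true := by
  decide +kernel

theorem orbB_ok : treeB gensA orbB uN = true ∧ orbB.length = 1701 ∧ maskOK (orbB.map fun e => e.1) maskB = true := by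
  refine ⟨List.all_eq_true.mpr fun k hk => ?_, orbB_tail.1, orbB_tail.2⟩
  rw [List.mem_range, orbB_tail.1] at hk
  have h0 := List.all_eq_true.mp orbB_part0 k
  have h1 := List.all_eq_true.mp orbB_part1 k
  have h2 := List.all_eq_true.mp orbB_part2 k
  have h3 := List.all_eq_true.mp orbB_part3 k
  simp only [List.mem_range'_1] at h0 h1 h2 h3
  rcases (by omega : k < 426 ∨ (426 ≤ k ∧ k < 852) ∨ (852 ≤ k ∧ k < 1278) ∨ (1278 ≤ k ∧ k < 1701)) with h | h | h | h
  · exact h0 ⟨Nat.zero_le k, by omega⟩
  · exact h1 ⟨h.1, by omega⟩
  · exact h2 ⟨h.1, by omega⟩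
  · exact h3 ⟨h.1, by omega⟩

theorem orbits_cover : ((List.range 4096).all fun n =>
    (maskA.testBit n || maskB.testBit n) == (!Nat.beq n 0 && beqK (qN n) .o) &&
      !(maskA.testBit n && maskB.testBit n)) = true := by
  decide +kernel

theorem badA_out : (badA.all fun E => okM (ofN tauN) && (orbA.any fun e => !maskA.testBit (img E e.1))) = true ∧
    badA.length = 8 := by
  decide +kernel

theorem six_ok : sixL.length = 6 ∧ sixM.length = 6 ∧
    ((List.range 6).all fun i => maskOK (sixL.getD i []) (sixM.getD i 0) && !(sixL.getD i []).isEmpty &&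
      (List.range i).all fun j => Nat.beq (Nat.land (sixM.getD i 0) (sixM.getD j 0)) 0) = true := by
  decide +kernel

theorem xGens_ok : wordsB gensA xGens xWords = true ∧ xGens.length = 2 ∧
    (xGens.all fun g => Nat.beq (img (eN g false) uN) uN) = true ∧
    ((List.range 2).all fun j => setsB (eN (xGens.getD j 0) false) sixL sixM (xPerm.getD j [])) = true := by
  decide +kernel

theorem kern_ok : (kern.all fun e => okM (ofN e.1) && wordOK xGens e.2 e.1 &&
      setsB (eN e.1 false) sixL sixM [0, 1, 2, 3, 4, 5]) = true ∧ kern.length = 16 ∧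
    ((List.range 16).all fun i => (List.range i).all fun j =>
      !beqM (ofN (kern.getD i (0, [])).1) (ofN (kern.getD j (0, [])).1)) = true ∧
    ((List.range 16).all fun i => beqE (mulE (eN (kern.getD i (0, [])).1 false) (eN (kern.getD i (0, [])).1 false)) oneE &&
      (List.range 16).all fun j =>
      beqE (mulE (eN (kern.getD i (0, [])).1 false) (eN (kern.getD j (0, [])).1 false))
        (mulE (eN (kern.getD j (0, [])).1 false) (eN (kern.getD i (0, [])).1 false))) = true := by
  decide +kernel

theorem eElt_ok : recB ((eElt.1, true), eElt.2) = true ∧ Nat.beq (img (eN eElt.1 true) uN) uN = true ∧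
    setsB (eN eElt.1 true) sixL sixM [0, 1, 2, 3, 4, 5] = true ∧
    beqE (mulE (eN eElt.1 true) (eN eElt.1 true)) oneE = true ∧
    ((List.range 16).all fun i => beqE (mulE (eN (kern.getD i (0, [])).1 false) (eN eElt.1 true))
      (mulE (eN eElt.1 true) (eN (kern.getD i (0, [])).1 false))) = true := by
  decide +kernel

end CfsgLib.Fi24Q
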