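/-
Sizes of the listed sets.
-/
import Cfsg.Agent.Lib.Fi24Q.Sets

set_option autoImplicit false
set_option maxRecDepth 30000
set_option maxHeartbeats 4000000

namespace CfsgLib.Fi24Q

theorem counts_ok : Nat.beq (countM maskA) 378 = true ∧ Nat.beq (countM maskB) 1701 = true ∧
    Nat.beq (countM maskC) 135 = true := by
  decide +kernel

theorem six_count : ((List.range 6).all fun i => Nat.beq (countM (sixM.getD i 0)) 16 &&
    (List.range i).all fun j => !Nat.beq (sixM.getD i 0) (sixM.getD j 0)) = true := by
  decide +kernel

theorem line_count : ((List.range 27).all fun i => Nat.beq (countM (lineM.getD i 0)) 15 &&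
    (List.range i).all fun j => !Nat.beq (lineM.getD i 0) (lineM.getD j 0)) = true := by
  decide +kernel

end CfsgLib.Fi24Q
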