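/-
The two orbits on singular vectors.
-/
import Cfsg.Agent.Lib.Fi24Q.ChecksA
import Cfsg.Agent.Lib.Fi24Q.ChecksF

set_option autoImplicit false
set_option maxRecDepth 30000
set_option linter.style.haveILetI false

namespace CfsgLib.Fi24Q

open Matrix CfsgLib.G24 CfsgLib.SUSixSub Equiv

attribute [local irreducible] orbA orbB maskA maskB gensA

/-- The subgroup of linear maps. -/
noncomputable def KL : Subgroup (Perm V) := K0.map lin

theorem card_KL : Nat.card KL = 9797760 := by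
  rw [KL, Subgroup.card_map_of_injective lin_injective, card_K0]

theorem gens_mem (j : ℕ) (hj : j < gensA.length) : lin (elN (gensA.getD j 0)) ∈ KL :=
  Subgroup.mem_map_of_mem _ (gensA_mem ⟨j, okA.2 ▸ hj⟩)

theorem gens_okM (j : ℕ) (hj : j < gensA.length) : okM (ofN (gensA.getD j 0)) = true := by
  rw [List.getD_eq_getElem _ _ hj]
  exact List.all_eq_true.mp okA.1 _ (List.getElem_mem hj)

theorem lin_zero (g : Γ) : lin g 0 = 0 := (lin_apply g 0).trans (Matrix.mulVec_zero _)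

theorem cdV_zero : cdV (0 : V) = 0 := rfl

theorem vecN_ne_zero {n : ℕ} (hn : n < 4096) (h : n ≠ 0) : vecN n ≠ 0 := fun e => h (by
  rw [← cdV_vecN hn, e, cdV_zero])

theorem qN_cdV (v : V) : qN (cdV v) = hV v v := by rw [qN_eq, vecN_cdV]

/-- Singular non-zero vectors lie in exactly one of the two sets. -/
theorem sing_iff (v : V) : (v ∈ inM maskA ∨ v ∈ inM maskB) ↔ v ≠ 0 ∧ hV v v = 0 := by
  have h := List.all_eq_true.mp orbits_cover (cdV v) (List.mem_range.mpr (cdV_lt v))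
  simp only [Bool.and_eq_true, beq_iff_eq] at h
  rw [mem_inM, mem_inM, ← Bool.or_eq_true, h.1, Bool.and_eq_true, qN_cdV, beqK_iff, Bool.not_eq_true',
    ← Bool.not_eq_true, Nat.beq_eq]
  refine ⟨fun hh => ⟨fun e => hh.1 (by rw [e, cdV_zero]), hh.2⟩, fun hh => ⟨fun e => hh.1 ?_, hh.2⟩⟩
  rw [← vecN_cdV v, e, vecN_zero]

theorem not_both (v : V) : ¬ (v ∈ inM maskA ∧ v ∈ inM maskB) := by
  have h := List.all_eq_true.mp orbits_cover (cdV v) (List.mem_range.mpr (cdV_lt v))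
  simp only [Bool.and_eq_true, Bool.not_eq_true'] at h
  rw [mem_inM, mem_inM]
  intro hh
  rw [hh.1, hh.2] at h
  simp at h

/-- The first vector. -/
def t0 : V := vecN tN

/-- The second vector. -/
def u0 : V := vecN uN

theorem ncard_A : (inM maskA).ncard = 378 := by rw [ncard_inM, Nat.eq_of_beq_eq_true counts_ok.1]

theorem ncard_B : (inM maskB).ncard = 1701 := by rw [ncard_inM, Nat.eq_of_beq_eq_true counts_ok.2.1]

theorem reach_A {v : V} (hv : v ∈ inM maskA) : ∃ g ∈ KL, g t0 = v := by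
  obtain ⟨g, hg, e⟩ := tree_reach orbA_ok.1 gens_okM gens_mem ((mem_of_maskOK orbA_ok.2.2).mp hv)
  exact ⟨g, hg, by rw [← vecN_cdV v]; exact e⟩

theorem reach_B {v : V} (hv : v ∈ inM maskB) : ∃ g ∈ KL, g u0 = v := by
  obtain ⟨g, hg, e⟩ := tree_reach orbB_ok.1 gens_okM gens_mem ((mem_of_maskOK orbB_ok.2.2).mp hv)
  exact ⟨g, hg, by rw [← vecN_cdV v]; exact e⟩

theorem t0_mem : t0 ∈ inM maskA := vecN_mem orbA_ok.2.2 (by
  refine List.mem_map.mpr ⟨orbA.getD 0 (0, 0, 0), ?_, ?_⟩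
  · rw [List.getD_eq_getElem _ _ (by rw [orbA_ok.2.1]; norm_num)]
    exact List.getElem_mem _
  · have h := List.all_eq_true.mp orbA_ok.1 0 (List.mem_range.mpr (by rw [orbA_ok.2.1]; norm_num))
    simp only [treeAt, Bool.or_eq_true, Bool.and_eq_true, Nat.blt_eq, Nat.not_lt_zero, false_and, or_false] at h
    exact Nat.eq_of_beq_eq_true h.2)

theorem u0_mem : u0 ∈ inM maskB := vecN_mem orbB_ok.2.2 (by
  refine List.mem_map.mpr ⟨orbB.getD 0 (0, 0, 0), ?_, ?_⟩
  · rw [List.getD_eq_getElem _ _ (by rw [orbB_ok.2.1]; norm_num)]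
    exact List.getElem_mem _
  · have h := List.all_eq_true.mp orbB_ok.1 0 (List.mem_range.mpr (by rw [orbB_ok.2.1]; norm_num))
    simp only [treeAt, Bool.or_eq_true, Bool.and_eq_true, Nat.blt_eq, Nat.not_lt_zero, false_and, or_false] at h
    exact Nat.eq_of_beq_eq_true h.2)

theorem KL_A {g : Perm V} (hg : g ∈ KL) : ∀ v ∈ inM maskA, g v ∈ inM maskA := by
  obtain ⟨k, hk, rfl⟩ := hg
  refine Subgroup.closure_induction (p := fun x _ => ∀ v ∈ inM maskA, lin x v ∈ inM maskA) ?_ ?_ ?_ ?_ hk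
  · rintro _ ⟨j, rfl⟩ v hv
    refine move_mem (isE_elN (gens_okM j.val (by rw [okA.2]; exact j.2))) orbA_ok.2.2 ?_ hv
    exact List.all_eq_true.mp orbA_inv.1 _ (by
      rw [List.getD_eq_getElem gensA 0 (by rw [okA.2]; exact j.2)]; exact List.getElem_mem _)
  · intro v hv
    rwa [map_one, Perm.coe_one, id]
  · intro x y _ _ hx hy v hv
    rw [map_mul, Perm.mul_apply]
    exact hx _ (hy v hv)
  · intro x _ hx v hv
    have hsurj : lin x '' inM maskA = inM maskA :=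
      Set.eq_of_subset_of_ncard_le (by rintro _ ⟨w, hw, rfl⟩; exact hx w hw)
        (by rw [Set.ncard_image_of_injective _ (lin x).injective]) (Set.toFinite _)
    obtain ⟨w, hw, e⟩ := hsurj.symm ▸ hv
    rw [map_inv, Perm.inv_def, ← e, Equiv.symm_apply_apply]
    exact hw

/-- A group of maps: the linear subgroup and one further involution. -/
structure Rng (H : Subgroup (Perm V)) (R : Perm V) : Prop where
  le : KL ≤ H
  mem : R ∈ H
  sq : R * R = 1
  out : R ∉ KL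
  split : ∀ p ∈ H, p ∈ KL ∨ p * R ∈ KL
  t_fix : R t0 = t0
  u_fix : R u0 = u0
  invA : ∀ p ∈ H, ∀ v ∈ inM maskA, p v ∈ inM maskA
  qR : ∀ v, hV (R v) (R v) = hV v v
  zR : R 0 = 0

namespace Rng

variable {H : Subgroup (Perm V)} {R : Perm V} (hH : Rng H R)
include hH

theorem card : Nat.card H = 19595520 := by
  have hi : (KL.subgroupOf H).index = 2 := by
    refine Subgroup.index_eq_two_iff.mpr ⟨⟨R, hH.mem⟩, fun b => ?_⟩
    rw [Subgroup.mem_subgroupOf, Subgroup.mem_subgroupOf, Subgroup.coe_mul]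
    rcases hH.split _ b.2 with h | h
    · refine Or.inr ⟨h, fun h2 => hH.out ?_⟩
      simpa using mul_mem (inv_mem h) h2
    · refine Or.inl ⟨h, fun h2 => hH.out ?_⟩
      simpa using mul_mem (inv_mem h2) h
  have h := (KL.subgroupOf H).card_mul_index
  rw [hi, Nat.card_congr (Subgroup.subgroupOfEquivOfLe hH.le).toEquiv, card_KL] at h
  omega

theorem q_inv {p : Perm V} (hp : p ∈ H) (v : V) : hV (p v) (p v) = hV v v ∧ p 0 = 0 := by
  rcases hH.split p hp with ⟨k, -, e⟩ | ⟨k, -, e⟩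
  · rw [← e]
    exact ⟨hV_lin k v v, lin_zero k⟩
  · rw [show p = lin k * R by rw [e, mul_assoc, hH.sq, mul_one], Perm.mul_apply, Perm.mul_apply, hV_lin, hH.qR,
      hH.zR, lin_zero]
    exact ⟨rfl, rfl⟩

theorem invB {p : Perm V} (hp : p ∈ H) {v : V} (hv : v ∈ inM maskB) : p v ∈ inM maskB := by
  obtain ⟨h1, h2⟩ := (sing_iff v).mp (Or.inr hv)
  refine ((sing_iff (p v)).mpr ⟨fun e => h1 (p.injective (e.trans (hH.q_inv hp v).2.symm)), ?_⟩).resolve_left fun hA => ?_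
  · rw [(hH.q_inv hp v).1, h2]
  · refine not_both v ⟨?_, hv⟩
    have := hH.invA _ (inv_mem hp) _ hA
    rwa [Perm.inv_def, Equiv.symm_apply_apply] at this

end Rng

/-- The stabiliser of a vector. -/
def stV (H : Subgroup (Perm V)) (x : V) : Subgroup (Perm V) := H ⊓ MulAction.stabilizer (Perm V) x

theorem mem_stV {H : Subgroup (Perm V)} {x : V} {p : Perm V} : p ∈ stV H x ↔ p ∈ H ∧ p x = x := Iff.rfl

theorem card_stV_mul {H : Subgroup (Perm V)} {x : V} {S : Set V} (hS : ∀ v, v ∈ S ↔ ∃ p ∈ H, p x = v) :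
    Nat.card (stV H x) * S.ncard = Nat.card H := by
  have h := (MulAction.stabilizer H x).card_mul_index
  rw [MulAction.index_stabilizer] at h
  rw [← h]
  congr 1
  · exact Nat.card_congr ⟨fun p => ⟨⟨p.1, p.2.1⟩, p.2.2⟩, fun p => ⟨p.1.1, p.1.2, p.2⟩, fun _ => rfl, fun _ => rfl⟩
  · congr 1
    ext v
    rw [hS, MulAction.mem_orbit_iff]
    exact ⟨fun ⟨p, hp, e⟩ => ⟨⟨p, hp⟩, e⟩, fun ⟨p, e⟩ => ⟨p.1, p.2, e⟩⟩

namespace Rng

variable {H : Subgroup (Perm V)} {R : Perm V} (hH : Rng H R)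
include hH

theorem orbit_A (v : V) : v ∈ inM maskA ↔ ∃ p ∈ H, p t0 = v :=
  ⟨fun hv => let ⟨g, hg, e⟩ := reach_A hv; ⟨g, hH.le hg, e⟩, fun ⟨_, hp, e⟩ => e ▸ hH.invA _ hp _ t0_mem⟩

theorem orbit_B (v : V) : v ∈ inM maskB ↔ ∃ p ∈ H, p u0 = v :=
  ⟨fun hv => let ⟨g, hg, e⟩ := reach_B hv; ⟨g, hH.le hg, e⟩, fun ⟨_, hp, e⟩ => e ▸ hH.invB hp u0_mem⟩

theorem card_stA : Nat.card (stV H t0) = 51840 := by
  have h := card_stV_mul hH.orbit_A
  rw [ncard_A, hH.card] at h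
  omega

theorem card_stB : Nat.card (stV H u0) = 11520 := by
  have h := card_stV_mul hH.orbit_B
  rw [ncard_B, hH.card] at h
  omega

theorem transitive_A {v w : V} (hv : v ∈ inM maskA) (hw : w ∈ inM maskA) : ∃ p ∈ H, p v = w := by
  obtain ⟨p, hp, rfl⟩ := (hH.orbit_A v).mp hv
  obtain ⟨q, hq, rfl⟩ := (hH.orbit_A w).mp hw
  exact ⟨q * p⁻¹, mul_mem hq (inv_mem hp), by rw [Perm.mul_apply, Perm.inv_def, Equiv.symm_apply_apply]⟩

theorem transitive_B {v w : V} (hv : v ∈ inM maskB) (hw : w ∈ inM maskB) : ∃ p ∈ H, p v = w := by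
  obtain ⟨p, hp, rfl⟩ := (hH.orbit_B v).mp hv
  obtain ⟨q, hq, rfl⟩ := (hH.orbit_B w).mp hw
  exact ⟨q * p⁻¹, mul_mem hq (inv_mem hp), by rw [Perm.mul_apply, Perm.inv_def, Equiv.symm_apply_apply]⟩

end Rng

end CfsgLib.Fi24Q
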