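/-
Semilinear isometries normalising the standard subgroup.
-/
import Cfsg.Agent.Lib.Fi24Q.Orbits
import Cfsg.Agent.Lib.SUSixSub.Local
import Cfsg.Agent.Lib.SUSixSub.Frame

set_option autoImplicit false
set_option linter.style.haveILetI false

namespace CfsgLib.Fi24Q

open Matrix CfsgLib.G24 CfsgLib.SUSixSub Equiv

attribute [local irreducible] maskA gensA tauN

theorem Sg_smul (k : K) (v : V) : Sg (k • v) = cjK k • Sg v := funext fun _ => cjK_mul _ _

theorem Sg_add (u v : V) : Sg (u + v) = Sg u + Sg v := funext fun _ => cjK_add _ _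

theorem Sg_inv : Sg⁻¹ = Sg := inv_eq_of_mul_eq_one_right Sg_sq

theorem Sg_Sg (v : V) : Sg (Sg v) = v := sgV_sgV v

/-- The linear isometries. -/
structure IsIso (p : Perm V) : Prop where
  add : ∀ u v, p (u + v) = p u + p v
  smul : ∀ (k : K) v, p (k • v) = k • p v
  form : ∀ u v, hV (p u) (p v) = hV u v

/-- The semilinear isometries. -/
def IsSemi (p : Perm V) : Prop := IsIso (p * Sg)

theorem isIso_one : IsIso 1 := ⟨fun _ _ => rfl, fun _ _ => rfl, fun _ _ => rfl⟩

theorem IsIso.mul {p q : Perm V} (hp : IsIso p) (hq : IsIso q) : IsIso (p * q) where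
  add u v := by rw [Perm.mul_apply, hq.add, hp.add]; rfl
  smul k v := by rw [Perm.mul_apply, hq.smul, hp.smul]; rfl
  form u v := by rw [Perm.mul_apply, Perm.mul_apply, hp.form, hq.form]

theorem IsIso.inv {p : Perm V} (hp : IsIso p) : IsIso p⁻¹ where
  add u v := p.injective (by rw [hp.add]; simp)
  smul k v := p.injective (by rw [hp.smul]; simp)
  form u v := by rw [← hp.form]; simp

theorem isIso_lin (g : Γ) : IsIso (lin g) :=
  ⟨fun u v => by simp only [lin_apply, Matrix.mulVec_add], fun k v => by simp only [lin_apply, Matrix.mulVec_smul], hV_lin g⟩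

theorem IsIso.sgConj {p : Perm V} (hp : IsIso p) : IsIso (Sg * p * Sg) where
  add u v := by simp only [Perm.mul_apply, Sg_add, hp.add]
  smul k v := by simp only [Perm.mul_apply, Sg_smul, hp.smul, cjK_cjK]
  form u v := by simp only [Perm.mul_apply, hV_Sg, hp.form, cjK_cjK]

theorem isSemi_Sg : IsSemi Sg := by rw [IsSemi, Sg_sq]; exact isIso_one

theorem IsSemi.smul {p : Perm V} (hp : IsSemi p) (k : K) (v : V) : p (k • v) = cjK k • p v := by
  have h := IsIso.smul hp (cjK k) (Sg v)
  simp only [Perm.mul_apply, Sg_smul, cjK_cjK, Sg_Sg] at h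
  exact h

theorem IsSemi.add {p : Perm V} (hp : IsSemi p) (u v : V) : p (u + v) = p u + p v := by
  have h := IsIso.add hp (Sg u) (Sg v)
  simp only [Perm.mul_apply, Sg_add, Sg_Sg] at h
  exact h

theorem IsSemi.form {p : Perm V} (hp : IsSemi p) (u v : V) : hV (p u) (p v) = cjK (hV u v) := by
  have h := IsIso.form hp (Sg u) (Sg v)
  simp only [Perm.mul_apply, hV_Sg, Sg_Sg] at h
  exact h

theorem IsIso.mul_semi {p q : Perm V} (hp : IsIso p) (hq : IsSemi q) : IsSemi (p * q) := by
  rw [IsSemi, mul_assoc]; exact hp.mul hq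

theorem IsSemi.mul_iso {p q : Perm V} (hp : IsSemi p) (hq : IsIso q) : IsSemi (p * q) := by
  rw [IsSemi, show p * q * Sg = p * Sg * (Sg * q * Sg) by simp only [mul_assoc]; rw [← mul_assoc Sg Sg, Sg_sq, one_mul]]
  exact IsIso.mul hp hq.sgConj

/-- The matrix of a map. -/
def mtx (p : Perm V) : Matrix (Fin 6) (Fin 6) K := fun i k => p (Pi.single k 1) i

theorem mtx_spec {p : Perm V} (hp : IsIso p) (v : V) : p v = mtx p *ᵥ v := by
  let L : V →ₗ[K] V := { toFun := p, map_add' := hp.add, map_smul' := hp.smul }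
  have e : (LinearMap.toMatrix' L) = mtx p := by
    ext i k
    rw [LinearMap.toMatrix'_apply]
    rfl
  rw [← e, LinearMap.toMatrix'_mulVec]
  rfl

/-- The determinant of a map. -/
def detP (p : Perm V) : K := (mtx p).det

theorem detP_mul {p q : Perm V} (hp : IsIso p) (hq : IsIso q) : detP (p * q) = detP p * detP q := by
  rw [detP, detP, detP, ← Matrix.det_mul]
  congr 1
  refine Matrix.ext_of_mulVec_single fun j => ?_
  rw [← mtx_spec (hp.mul hq), ← Matrix.mulVec_mulVec, ← mtx_spec hq, ← mtx_spec hp]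
  rfl

theorem mtx_lin (g : Γ) : mtx (lin g) = gm g :=
  Matrix.ext_of_mulVec_single fun j => by rw [← mtx_spec (isIso_lin g), lin_apply]

theorem detP_lin (g : Γ) : detP (lin g) = 1 := by rw [detP, mtx_lin]; exact g.1.2

theorem detP_one : detP 1 = 1 := by rw [← map_one lin, detP_lin]

theorem detP_inv {p : Perm V} (hp : IsIso p) : detP p * detP p⁻¹ = 1 := by
  rw [← detP_mul hp hp.inv, mul_inv_cancel, detP_one]

theorem detP_sgConj {p : Perm V} (hp : IsIso p) : detP (Sg * p * Sg) = cjK (detP p) := by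
  let e : Fin 6 ≃ Fin 6 := ⟨sw, sw, sw_sw, sw_sw⟩
  let f : K →+* K := ⟨⟨⟨cjK, rfl⟩, cjK_mul⟩, rfl, cjK_add⟩
  have h : mtx (Sg * p * Sg) = ((mtx p).map f).submatrix e e := by
    ext i k
    show cjK (p (sgV (Pi.single k 1)) (sw i)) = cjK (p (Pi.single (sw k) 1) (sw i))
    have hs : sgV (Pi.single k 1 : V) = Pi.single (sw k) 1 := by
      funext j
      simp only [sgV, Pi.single_apply]
      by_cases hj : j = sw k
      · subst hj; rw [sw_sw, if_pos rfl, if_pos rfl]; rfl
      · rw [if_neg hj, if_neg (fun h => hj (by rw [← h, sw_sw]))]; rfl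
    rw [hs]
  rw [detP, h, Matrix.det_submatrix_equiv_self, ← RingHom.mapMatrix_apply, ← RingHom.map_det]
  rfl

theorem exists_lin {p : Perm V} (hp : IsIso p) (hd : detP p = 1) : ∃ g, lin g = p := by
  refine ⟨⟨⟨mtx p, hd⟩, fun u v => ?_⟩, Equiv.ext fun v => ?_⟩
  · show hV (mtx p *ᵥ u) (mtx p *ᵥ v) = hV u v
    rw [← mtx_spec hp, ← mtx_spec hp, hp.form]
  · exact (mtx_spec hp v).symm

theorem cj_norm : ∀ u : K, u ≠ 0 → u * cjK u = 1 := by decide

/-- The scaling of the first coordinate. -/
def scl (u : Kˣ) : Perm V where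
  toFun v := fun i => (if i = 0 then (u : K) else 1) * v i
  invFun v := fun i => (if i = 0 then ((u⁻¹ : Kˣ) : K) else 1) * v i
  left_inv v := funext fun i => by dsimp only; split <;> simp [← mul_assoc]
  right_inv v := funext fun i => by dsimp only; split <;> simp [← mul_assoc]

theorem scl_iso (u : Kˣ) : IsIso (scl u) where
  add a b := funext fun i => mul_add _ _ _
  smul k v := funext fun i => mul_left_comm _ _ _
  form a b := by
    simp only [hV, Cfsg.hermForm, ← cjK_eq]
    refine Finset.sum_congr rfl fun i _ => ?_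
    show (if i = 0 then (u : K) else 1) * a i * cjK ((if i = 0 then (u : K) else 1) * b i) = _
    rw [cjK_mul, mul_mul_mul_comm, cj_norm _ (by split <;> simp), one_mul]

theorem mtx_scl (u : Kˣ) : mtx (scl u) = Matrix.diagonal fun i => if i = 0 then (u : K) else 1 := by
  ext i k
  show _ * (Pi.single k 1 : V) i = _
  rw [Matrix.diagonal_apply, Pi.single_apply, mul_ite, mul_one, mul_zero]

theorem detP_scl (u : Kˣ) : detP (scl u) = u := by
  rw [detP, mtx_scl, Matrix.det_diagonal, Fin.prod_univ_six]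
  simp

theorem IsIso.decomp {p : Perm V} (hp : IsIso p) : ∃ (u : Kˣ) (g : Γ), p = lin g * scl u := by
  have h := detP_inv hp
  let u : Kˣ := ⟨detP p, detP p⁻¹, h, by rw [mul_comm]; exact h⟩
  obtain ⟨g, hg⟩ := exists_lin (hp.mul (scl_iso u).inv) (by
    have h2 := detP_inv (scl_iso u)
    rw [detP_scl] at h2
    rw [detP_mul hp (scl_iso u).inv]
    exact h2)
  exact ⟨u, g, by rw [hg, inv_mul_cancel_right]⟩

theorem iso_conj_lin {p : Perm V} (hp : IsIso p) (g : Γ) : ∃ g', lin g' = p * lin g * p⁻¹ :=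
  exists_lin ((hp.mul (isIso_lin g)).mul hp.inv) (by
    rw [detP_mul (hp.mul (isIso_lin g)) hp.inv, detP_mul hp (isIso_lin g), detP_lin, mul_one, detP_inv hp])

theorem semi_conj_lin {p : Perm V} (hp : IsSemi p) (g : Γ) : ∃ g', lin g' = p * lin g * p⁻¹ := by
  obtain ⟨g1, h1⟩ := exists_lin (isIso_lin g).sgConj (by rw [detP_sgConj (isIso_lin g), detP_lin]; rfl)
  obtain ⟨g2, h2⟩ := iso_conj_lin hp g1
  refine ⟨g2, h2.trans ?_⟩
  rw [h1, _root_.mul_inv_rev, Sg_inv]
  simp only [mul_assoc]
  rw [← mul_assoc Sg Sg, Sg_sq, one_mul, ← mul_assoc Sg Sg, Sg_sq, one_mul]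

/-- The codes of the maps that are not in the group. -/
theorem badR_out : ([K.w, K.v].all fun c => [false, true].all fun t =>
    orbA.any fun e => !maskA.testBit (img (ofF fun i k =>
      if (if t then sw i else i) = k then (if k = 0 then c else .i) else .o, true) e.1)) = true := by
  decide +kernel

theorem tau_ok : beqM (ofN tauN) (ofF fun a b => if sw a = b then K.i else K.o) = true := by decide +kernel

theorem tau_entries (a b : Fin 6) : mat6 (ofN tauN) a b = if sw a = b then K.i else K.o := by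
  rw [of_beqM tau_ok, mat6_ofF]

theorem commS_conj {T : Perm V} (hT : IsSemi T) {x y x' y' : Γ} (hx : lin x' = T * lin x * T⁻¹)
    (hy : lin y' = T * lin y * T⁻¹) (h : CommS x y) : CommS x' y' := by
  obtain ⟨c, hc⟩ := h
  refine ⟨cjK c, Matrix.ext_of_mulVec_single fun j => ?_⟩
  have e1 : lin (x' * y') = T * lin (x * y) * T⁻¹ := by rw [map_mul, map_mul, hx, hy]; group
  have e2 : lin (y' * x') = T * lin (y * x) * T⁻¹ := by rw [map_mul, map_mul, hx, hy]; group
  rw [Matrix.smul_mulVec, ← lin_apply, ← lin_apply, e1, e2, Perm.mul_apply, Perm.mul_apply, lin_apply, hc,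
    Matrix.smul_mulVec, hT.smul, ← lin_apply]
  rfl

/-- A semilinear isometry normalising the subgroup differs from one of two by an element of it. -/
theorem semi_cases {T : Perm V} (hT : IsSemi T) (hn : ∀ k ∈ KL, T * k * T⁻¹ ∈ KL)
    (hA : ∀ v ∈ inM maskA, T v ∈ inM maskA) : ∃ k ∈ KL, T = k * Sg ∨ T = k * (lin tau * Sg) := by
  classical
  haveI : Fact (Nat.Prime 3) := ⟨Nat.prime_three⟩
  have hmk : ∀ {g : Γ}, lin g ∈ KL → g ∈ K0 := fun {g} hg => (Subgroup.mem_map_iff_mem lin_injective).mp hg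
  let f : K0 →* Γ := MonoidHom.mk' (fun g => (semi_conj_lin hT g.1).choose) fun a b => lin_injective (by
    rw [map_mul, (semi_conj_lin hT a.1).choose_spec, (semi_conj_lin hT b.1).choose_spec,
      (semi_conj_lin hT (a * b : K0).1).choose_spec, Subgroup.coe_mul, map_mul]
    group)
  have hf : ∀ g : K0, lin (f g) = T * lin g.1 * T⁻¹ := fun g => (semi_conj_lin hT g.1).choose_spec
  have hinj : Function.Injective f := fun a b h => Subtype.ext (lin_injective (by
    have := congrArg lin h
    rw [hf, hf] at this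
    exact mul_left_cancel (mul_right_cancel this)))
  have hfK : ∀ g : K0, f g ∈ K0 := fun g => hmk (hf g ▸ hn _ (Subgroup.mem_map_of_mem _ g.2))
  have hP0 : P0 ≤ K0 := P0_le half_K0
  have hD0 : Dg ≤ K0 := (Dg_le _).trans hP0
  let S : Subgroup K0 := (P0.subgroupOf K0).map (MonoidHom.codRestrict f K0 hfK)
  have hS : Nat.card S = 2187 := by
    rw [Subgroup.card_map_of_injective (fun a b h => hinj (congrArg Subtype.val h)), card_P0_H hP0]
  have h37 : 3 ^ (Nat.card K0).factorization 3 = 2187 := by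
    rw [card_K0, sylow_facts.2.1]; norm_num
  obtain ⟨k, hk⟩ := MulAction.exists_smul_eq K0 (Sylow.ofCard S (hS.trans h37.symm) : Sylow 3 K0)
    (Sylow.ofCard (P0.subgroupOf K0) ((card_P0_H hP0).trans h37.symm))
  have h1 := congrArg (fun S : Sylow 3 K0 => (S : Subgroup K0)) hk
  simp only [Sylow.coe_subgroup_smul] at h1
  have hsP : ∀ g : K0, (g : Γ) ∈ P0 → (k : Γ) * f g * (k : Γ)⁻¹ ∈ P0 := fun g hg => by
    have hm : (MulAut.conj k) ⟨f g, hfK g⟩ ∈ P0.subgroupOf K0 := by
      rw [← show _ = P0.subgroupOf K0 from h1]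
      exact Subgroup.smul_mem_pointwise_smul _ _ _ ⟨g, hg, rfl⟩
    exact hm
  let f' : K0 →* Γ := (MulAut.conj (k : Γ)).toMonoidHom.comp f
  have hf'inj : Function.Injective f' := (MulAut.conj (k : Γ)).injective.comp hinj
  set T' : Perm V := lin k * T with hT'
  have hf' : ∀ g : K0, lin (f' g) = T' * lin g.1 * T'⁻¹ := fun g => by
    show lin ((k : Γ) * f g * (k : Γ)⁻¹) = _
    rw [map_mul, map_mul, map_inv, hf, hT']
    group
  have hT's : IsSemi T' := (isIso_lin _).mul_semi hT
  have hE : (Dg.subgroupOf K0).map f' = Dg := by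
    refine dg_char ?_ ?_ ?_
    · rintro _ ⟨g, hg, rfl⟩
      exact hsP g (Dg_le _ hg)
    · rw [Subgroup.card_map_of_injective hf'inj, Nat.card_congr (Subgroup.subgroupOfEquivOfLe hD0).toEquiv, card_Dg]
    · rintro _ ⟨a, ha, rfl⟩ _ ⟨b, hb, rfl⟩
      refine commS_conj hT's (hf' a) (hf' b) ⟨1, ?_⟩
      obtain ⟨d, hd⟩ := mem_Dg.mp (Subgroup.mem_subgroupOf.mp ha)
      obtain ⟨e, he⟩ := mem_Dg.mp (Subgroup.mem_subgroupOf.mp hb)
      rw [one_smul, gm_mul, gm_mul, hd, he, Matrix.diagonal_mul_diagonal, Matrix.diagonal_mul_diagonal]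
      congr 1; funext i; exact mul_comm _ _
  obtain ⟨u, g, hug⟩ := IsIso.decomp hT's
  have hU : T' = lin g * scl u * Sg := by rw [← hug, mul_assoc, Sg_sq, mul_one]
  have hgn : g ∈ Nm := normaliser_Dg fun x hx => by
    obtain ⟨d, hd⟩ := mem_Dg.mp hx
    -- the conjugate of a diagonal element by the semilinear map is diagonal
    obtain ⟨y, hy⟩ := exists_lin (p := Sg * lin x * Sg) (isIso_lin x).sgConj (by
      rw [detP_sgConj (isIso_lin x), detP_lin]; rfl)
    have hyd : gm y = Matrix.diagonal fun i => cjK (d (sw i)) := by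
      refine Matrix.ext_of_mulVec_single fun j => funext fun i => ?_
      rw [← lin_apply, hy, Matrix.mulVec_diagonal]
      show cjK ((gm x *ᵥ sgV (Pi.single j 1)) (sw i)) = _
      rw [hd, Matrix.mulVec_diagonal, cjK_mul, sgV, sw_sw, cjK_cjK]
    have hyD : y ∈ Dg := mem_Dg.mpr ⟨_, hyd⟩
    obtain ⟨w, hw, hwe⟩ : f' ⟨y, hD0 hyD⟩ ∈ (Dg.subgroupOf K0).map f' := Subgroup.mem_map_of_mem _ hyD
    have hmem : f' ⟨y, hD0 hyD⟩ ∈ Dg := by rw [← hE]; exact Subgroup.mem_map_of_mem _ hyD
    have e : g * x * g⁻¹ = f' ⟨y, hD0 hyD⟩ := lin_injective (by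
      rw [hf', map_mul, map_mul, map_inv, hy, hU]
      have hc : scl u * lin x = lin x * scl u := by
        refine Equiv.ext fun v => funext fun i => ?_
        rw [Perm.mul_apply, Perm.mul_apply, lin_apply, lin_apply, hd]
        show _ * ((Matrix.diagonal d *ᵥ v) i) = (Matrix.diagonal d *ᵥ scl u v) i
        rw [Matrix.mulVec_diagonal, Matrix.mulVec_diagonal]
        exact mul_left_comm _ _ _
      simp only [_root_.mul_inv_rev, Sg_inv, mul_assoc]
      rw [← mul_assoc Sg Sg, Sg_sq, one_mul, ← mul_assoc Sg Sg, Sg_sq, one_mul, ← mul_assoc (scl u), hc, mul_assoc,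
        mul_inv_cancel_left])
    rw [e]; exact hmem
  obtain ⟨m, t, hm, hgm⟩ : ∃ (m : Γ) (t : Bool), m ∈ K0 ∧ g = m * (if t then tau else 1) := by
    rcases mem_or_tau_mul half_K0 hgn with h | h
    · exact ⟨g, false, h, by simp⟩
    · refine ⟨g * tau, true, ?_, by rw [if_pos rfl, mul_assoc, tau_sq, mul_one]⟩
      have hc := tau_conj (i := 0) (by norm_num)
      have : (MulAut.conj tau) (tau * g) ∈ K0 := by
        show _ ∈ Ki 0
        rw [← hc]
        exact Subgroup.mem_map_of_mem _ h
      rwa [MulAut.conj_apply, inv_eq_of_mul_eq_one_right tau_sq, ← mul_assoc, tau_sq, one_mul] at this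
  have hkm : lin ((k : Γ)⁻¹ * m) ∈ KL := Subgroup.mem_map_of_mem _ (mul_mem (inv_mem k.2) hm)
  have hTe : T = lin ((k : Γ)⁻¹ * m) * (lin (if t then tau else 1) * scl u * Sg) := by
    rw [map_mul, map_inv, mul_assoc, ← mul_assoc (lin m), ← mul_assoc (lin m), ← map_mul, ← hgm, ← hU, hT',
      inv_mul_cancel_left]
  by_cases hu : (u : K) = 1
  · refine ⟨_, hkm, ?_⟩
    have hs : scl u = 1 := Equiv.ext fun v => funext fun i => by
      show (if i = 0 then (u : K) else 1) * v i = v i
      rw [hu, ite_self, one_mul]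
    rw [hs, mul_one] at hTe
    cases t
    · exact Or.inl (by simpa using hTe)
    · exact Or.inr (by simpa using hTe)
  · exfalso
    have hu0 : (u : K) ∈ [K.w, K.v] := by
      have : ∀ c : K, c ≠ 0 → c ≠ 1 → c ∈ [K.w, K.v] := by decide
      exact this _ u.ne_zero hu
    have h := List.all_eq_true.mp (List.all_eq_true.mp badR_out _ hu0) t (by cases t <;> simp)
    obtain ⟨e, he, hout⟩ := List.any_eq_true.mp h
    have hv : vecN e.1 ∈ inM maskA := vecN_mem orbA_ok.2.2 (List.mem_map.mpr ⟨e, he, rfl⟩)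
    have hE' : IsE (lin (if t then tau else 1) * scl u * Sg) (ofF fun i k =>
        if (if t then sw i else i) = k then (if k = 0 then (u : K) else .i) else .o, true) := fun v => by
      show lin _ (scl u (sgV v)) = _
      rw [mapE, cond_true, lin_apply]
      generalize sgV v = w
      funext i
      have hpe : gm (if t then tau else 1) = fun i k => if (if t then sw i else i) = k then K.i else K.o := by
        cases t
        · ext a b
          rw [if_neg (by simp), gm_one, Matrix.one_apply]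
          rfl
        · rw [if_pos rfl, gm_tau]
          exact funext fun a => funext fun b => (tau_entries a b).trans (by simp)
      rw [hpe]
      simp only [Matrix.mulVec, dotProduct, mat6_ofF]
      refine Finset.sum_congr rfl fun j _ => ?_
      show _ * ((if j = 0 then (u : K) else 1) * w j) = _
      rw [← mul_assoc]
      congr 1
      by_cases hj : (if t = true then sw i else i) = j
      · rw [if_pos hj, if_pos hj]; exact one_mul _
      · rw [if_neg hj, if_neg hj]; exact zero_mul _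
    have hTin : (lin (if t then tau else 1) * scl u * Sg) (vecN e.1) ∈ inM maskA := by
      have h2 := KL_A (inv_mem hkm) _ (hA _ hv)
      rwa [hTe, Perm.mul_apply, Perm.inv_def, Equiv.symm_apply_apply] at h2
    rw [mem_inM, hE'.img_eq] at hTin
    simp only [Bool.not_eq_true'] at hout
    rw [hout] at hTin
    exact Bool.false_ne_true hTin

end CfsgLib.Fi24Q
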