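/-
Groups of large Fischer type: the core modulo its centre as a unitary space, with the action.
-/
import Cfsg.Agent.Lib.Fi24Three.Adapter
import Cfsg.Agent.Lib.Fi24Three.Core
import Cfsg.Agent.Lib.Fi24Q.GForm
import Cfsg.Agent.Lib.Fi24Q.Semi

set_option autoImplicit false
set_option linter.style.haveILetI false
set_option linter.unusedSectionVars false

namespace CfsgLib.Fi24Q

open Matrix CfsgLib.G24 CfsgLib.SUSixSub Equiv CfsgLib.ExtraTwo CfsgLargeExtra

variable {G : Type*} [Group G] [Finite G]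

/-- The centralizer. -/
abbrev Cz (z : G) : Subgroup G := Subgroup.centralizer ({z} : Set G)

/-- The involution inside its centralizer. -/
def zc (z : G) : Cz z := ⟨z, Subgroup.mem_centralizer_singleton_iff.mpr rfl⟩

variable {z : G} {Q : Subgroup (Cz z)} [hQn : Q.Normal]

/-- Conjugation of the core. -/
def conjQ (c : Cz z) (a : Q) : Q := ⟨c * a * c⁻¹, hQn.conj_mem _ a.2 c⟩

/-- The core modulo its centre as a unitary space. -/
structure Pre (z : G) (Q : Subgroup (Cz z)) [Q.Normal] where
  zq : Q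
  coe_zq : ((zq : Cz z) : G) = z
  z2 : orderOf z = 2
  ext2 : Ext2 ↥Q zq
  card_Q : Nat.card Q = 8192
  pi : ↥Q → V
  pi_mul : ∀ a b, pi (a * b) = pi a + pi b
  pi_surj : Function.Surjective pi
  pi_ker : ∀ a, pi a = 0 ↔ a = 1 ∨ a = zq
  sq_iff : ∀ a, a * a = 1 ↔ hV (pi a) (pi a) = 0
  orth : ∀ a b, hV (pi a) (pi b) = 0 → a * b = b * a
  th : Cz z →* Perm V
  th_pi : ∀ (c : Cz z) (a : Q), th c (pi a) = pi (conjQ c a)
  th_ker : ∀ c, th c = 1 ↔ c ∈ Q
  x : Cz z
  x_three : x ^ 3 = 1
  x_act : ∀ v, th x v = K.w • v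
  kind : ∀ c, IsIso (th c) ∨ IsSemi (th c)

namespace Pre

variable (D : Pre z Q)

theorem pi_one : D.pi 1 = 0 := (D.pi_ker 1).mpr (Or.inl rfl)

theorem pi_eq {a b : Q} : D.pi a = D.pi b ↔ b = a ∨ b = a * D.zq := by
  have h : D.pi (a * (a⁻¹ * b)) = D.pi a + D.pi (a⁻¹ * b) := D.pi_mul _ _
  rw [mul_inv_cancel_left] at h
  rw [h, left_eq_add, D.pi_ker, inv_mul_eq_one, inv_mul_eq_iff_eq_mul, eq_comm (a := a)]

/-- Change of coordinates. -/
def twist {P : Perm V} (hP : IsIso P) : Pre z Q where
  zq := D.zq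
  coe_zq := D.coe_zq
  z2 := D.z2
  ext2 := D.ext2
  card_Q := D.card_Q
  pi a := P (D.pi a)
  pi_mul a b := by rw [D.pi_mul, hP.add]
  pi_surj := P.surjective.comp D.pi_surj
  pi_ker a := by
    have h0 : P 0 = 0 := by
      have h := hP.add 0 0
      rwa [add_zero, left_eq_add] at h
    rw [← h0, P.injective.eq_iff, D.pi_ker]
  sq_iff a := by rw [D.sq_iff, hP.form]
  orth a b h := D.orth a b (by rwa [hP.form] at h)
  th := (MulAut.conj P).toMonoidHom.comp D.th
  th_pi c a := by
    show P (D.th c (P⁻¹ (P (D.pi a)))) = _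
    rw [Perm.inv_def, Equiv.symm_apply_apply, D.th_pi]
  th_ker c := by
    rw [← D.th_ker]
    exact map_eq_one_iff _ (MulAut.conj P).injective
  x := D.x
  x_three := D.x_three
  x_act v := by
    show P (D.th D.x (P⁻¹ v)) = _
    rw [D.x_act, hP.smul, Perm.inv_def, Equiv.apply_symm_apply]
  kind c := by
    rcases D.kind c with h | h
    · exact Or.inl ((hP.mul h).mul hP.inv)
    · exact Or.inr ((hP.mul_semi h).mul_iso hP.inv)

theorem twist_th {P : Perm V} (hP : IsIso P) (c : Cz z) : (D.twist hP).th c = P * D.th c * P⁻¹ := rfl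

end Pre

/-- The basic facts of the setting. -/
theorem exists_pre (hset : Cfsg.IsExtraspecialCentralizerSetting z Q 6) {N : Subgroup (Cz z)} [N.Normal] (hQN : Q ≤ N)
    (hN : Nat.card N = 3 * Nat.card Q)
    (hfpf : ∀ r ∈ N, r ∉ Q → ∀ q ∈ Q, ((r * q * r⁻¹ * q⁻¹ : ↥(Cz z)) : G) ∈ Subgroup.zpowers z →
      (q : G) ∈ Subgroup.zpowers z) :
    ∃ D : Pre z Q, D.x ∈ N ∧ D.x ∉ Q := by
  classical
  obtain ⟨hz, hF, hE, hcard, -⟩ := hset
  have hEG : Cfsg.IsExtraspecial 2 (Q.map (Cz z).subtype) :=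
    Fi24Three.isExtraspecial_equiv (Q.equivMapOfInjective _ (Cz z).subtype_injective) hE
  obtain ⟨hes, -⟩ := ES.of_fitting z hz (C := Cz z) rfl (Q.map (Cz z).subtype) (by rw [hF]) hEG
  have hzQ : zc z ∈ Q := by
    obtain ⟨d, hd, e⟩ := hes.mem
    exact (Subtype.ext e : d = zc z) ▸ hd
  have hzc : zc z ∈ Subgroup.center (Cz z) :=
    Subgroup.mem_center_iff.mpr fun c => Subtype.ext (Subgroup.mem_centralizer_singleton_iff.mp c.2)
  set zq : Q := ⟨zc z, hzQ⟩ with hzq
  have hext : Ext2 ↥Q zq := by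
    obtain ⟨w, hw⟩ := ofExtraspecial hE
    rcases (hw.center_iff zq).mp (Subgroup.mem_center_iff.mpr fun a =>
      Subtype.ext (Subgroup.mem_center_iff.mp hzc a.1)) with e | e
    · exfalso
      have : z = 1 := congrArg (fun q : Q => ((q : Cz z) : G)) e
      rw [this, orderOf_one] at hz
      norm_num at hz
    · rw [e]; exact hw
  set Zc : Subgroup (Cz z) := Subgroup.zpowers (zc z) with hZc
  haveI : Zc.Normal := ⟨fun a ha g => by
    rw [Subgroup.mem_center_iff.mp (Subgroup.zpowers_le.mpr hzc ha) g, mul_inv_cancel_right]; exact ha⟩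
  have memZ : ∀ {c : Cz z}, c ∈ Zc ↔ (c : G) ∈ Subgroup.zpowers z := fun {c} => by
    constructor
    · rintro ⟨k, rfl⟩; exact ⟨k, rfl⟩
    · rintro ⟨k, hk⟩; exact ⟨k, Subtype.ext hk⟩
  have memZq : ∀ a : Q, (a : Cz z) ∈ Zc ↔ a = 1 ∨ a = zq := fun a => by
    constructor
    · rintro ⟨k, hk⟩
      rw [← hext.center_iff, Subgroup.mem_center_iff]
      intro b
      refine Subtype.ext (Subgroup.mem_center_iff.mp ?_ b.1)
      rw [← hk]
      exact zpow_mem hzc k
    · rintro (rfl | rfl)
      · exact one_mem _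
      · exact Subgroup.mem_zpowers _
  have hsq : ∀ b ∈ Q, b * b ∈ Zc := fun b hb => (memZq (⟨b, hb⟩ * ⟨b, hb⟩)).mpr (hext.sq ⟨b, hb⟩)
  letI : CommGroup ↥(Q.map (QuotientGroup.mk' Zc)) := Fi24Three.commOfSq (Fi24Three.sec_sq hsq)
  let wq : ↥Q →* ↥(Q.map (QuotientGroup.mk' Zc)) := (QuotientGroup.mk' Zc).subgroupMap Q
  have hwq : Function.Surjective wq := MonoidHom.subgroupMap_surjective _ _
  have hw1 : ∀ a, wq a = 1 ↔ a = 1 ∨ a = zq := fun a => by
    rw [← memZq]
    exact Subtype.ext_iff.trans (QuotientGroup.eq_one_iff _)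
  let α : Cz z →* MulAut ↥(Q.map (QuotientGroup.mk' Zc)) := Fi24Three.secAct Zc Q
  have hα : ∀ c a, α c (wq a) = wq (conjQ c a) := fun c a => Subtype.ext (by
    show ((α c) (wq a) : Cz z ⧸ Zc) = QuotientGroup.mk' Zc (c * a * c⁻¹)
    simp [α, Fi24Three.secAct, MulAut.conjNormal_apply, wq])
  have hαker : ∀ c, α c = 1 ↔ c ∈ Q := fun c => by
    rw [Fi24Three.secAct_one_iff]
    constructor
    · exact fun h => Fi24Three.mem_of_trivial hes fun q hq => memZ.mp (h q hq)
    · intro hc b hb
      exact (memZq ⟨_, mul_mem (mul_mem (mul_mem hc hb) (inv_mem hc)) (inv_mem hb)⟩).mpr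
        (hext.comm_cases ⟨c, hc⟩ ⟨b, hb⟩)
  haveI : Fact (Nat.Prime 3) := ⟨Nat.prime_three⟩
  obtain ⟨r, hr⟩ := exists_prime_orderOf_dvd_card' (G := ↥N) 3 ⟨_, hN⟩
  have hx3 : (r : Cz z) ^ 3 = 1 := by
    rw [← Subgroup.coe_pow, ← hr, pow_orderOf_eq_one]; rfl
  have hxQ : (r : Cz z) ∉ Q := fun hm => by
    have h1 : (⟨(r : Cz z), hm⟩ : Q) ^ 3 = 1 := Subtype.ext hx3
    have h2 := orderOf_dvd_of_pow_eq_one h1
    have h3 := (orderOf_dvd_natCard (⟨(r : Cz z), hm⟩ : Q))
    have h4 : orderOf (⟨(r : Cz z), hm⟩ : Q) = 3 := by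
      rw [← Subgroup.orderOf_coe]
      exact (Subgroup.orderOf_coe r).trans hr
    rw [h4, hcard] at h3
    norm_num at h3
  set om := α (r : Cz z) with hom
  have hrel : ∀ w, w * om w * om (om w) = 1 := fun w => by
    obtain ⟨q, hq⟩ := hwq (w * om w * om (om w))
    have h3 : om (om (om w)) = w := by
      show (om * om * om) w = w
      rw [← pow_three' om, hom, ← map_pow, hx3, map_one]
      rfl
    have hfix : wq (conjQ (r : Cz z) q) = wq q := by
      rw [← hα, hq, map_mul, map_mul, h3, mul_comm, mul_assoc]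
    have hk : wq (conjQ (r : Cz z) q * q⁻¹) = 1 := by rw [map_mul, map_inv, hfix, mul_inv_cancel]
    have hm : (q : Cz z) ∈ Zc := memZ.mpr (hfpf _ r.2 hxQ q q.2 (memZ.mp ((memZq _).mpr ((hw1 _).mp hk))))
    rw [← hq]
    exact (hw1 q).mpr ((memZq q).mp hm)
  let rep : ↥(Q.map (QuotientGroup.mk' Zc)) → Q := fun w => (hwq w).choose
  have hrep : ∀ w, wq (rep w) = w := fun w => (hwq w).choose_spec
  let b2 : Q → Q → ZMod 2 := fun a b => if a * b = b * a then 0 else 1
  let B : ↥(Q.map (QuotientGroup.mk' Zc)) → ↥(Q.map (QuotientGroup.mk' Zc)) → ZMod 2 := fun a b => b2 (rep a) (rep b)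
  have hb2 : ∀ a a' b : Q, wq a = wq a' → (a * b = b * a ↔ a' * b = b * a') := fun a a' b h => by
    have h1 : a⁻¹ * a' = 1 ∨ a⁻¹ * a' = zq := (hw1 _).mp (by rw [map_mul, map_inv, h, inv_mul_cancel])
    have h2 : (a⁻¹ * a') * b = b * (a⁻¹ * a') := by
      rcases h1 with e | e <;> rw [e]
      · simp
      · exact (hext.z_comm b).eq.symm
    have h3 := hext.mul_comm_iff (g₁ := a) (g₂ := a⁻¹ * a') (a := b)
    rw [mul_inv_cancel_left] at h3
    exact ⟨fun h4 => h3.mpr ⟨fun _ => h2, fun _ => h4⟩, fun h4 => (h3.mp h4).mpr h2⟩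
  have hB : ∀ a b : Q, B (wq a) (wq b) = b2 a b := fun a b => by
    have e1 := hb2 (rep (wq a)) a (rep (wq b)) (hrep _)
    have e2 := hb2 (rep (wq b)) b a (hrep _)
    have e3 : (rep (wq a) * rep (wq b) = rep (wq b) * rep (wq a)) ↔ a * b = b * a :=
      e1.trans (eq_comm.trans (e2.trans eq_comm))
    exact if_congr e3 rfl rfl
  have hBinv : ∀ c u v, B (α c u) (α c v) = B u v := fun c u v => by
    obtain ⟨a, rfl⟩ := hwq u
    obtain ⟨b, rfl⟩ := hwq v
    rw [hα, hα, hB, hB]
    refine if_congr ?_ rfl rfl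
    have hm : ∀ a b : Q, conjQ c a * conjQ c b = conjQ c (a * b) := fun a b => Subtype.ext (by
      show c * a * c⁻¹ * (c * b * c⁻¹) = c * ((a : Cz z) * b) * c⁻¹
      group)
    rw [hm, hm]
    exact ⟨fun h => Subtype.ext (mul_left_cancel (mul_right_cancel (congrArg Subtype.val h))), fun h => by rw [h]⟩
  let F : GForm ↥(Q.map (QuotientGroup.mk' Zc)) :=
    { sq := Fi24Three.sec_sq hsq
      om := om
      rel := hrel
      B := B
      add := fun u v w => by
        obtain ⟨a, rfl⟩ := hwq u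
        obtain ⟨b, rfl⟩ := hwq v
        obtain ⟨c, rfl⟩ := hwq w
        rw [← map_mul, hB, hB, hB]
        have h := hext.mul_comm_iff (g₁ := a) (g₂ := b) (a := c)
        simp only [b2]
        by_cases h1 : a * c = c * a <;> by_cases h2 : b * c = c * b <;> simp [h1, h2, h] <;> decide
      symm := fun u v => if_congr eq_comm rfl rfl
      inv := hBinv _
      alt := fun u => if_pos rfl
      nd := fun u hu => by
        obtain ⟨a, rfl⟩ := hwq u
        refine (hw1 a).mpr ((hext.center_iff a).mp (Subgroup.mem_center_iff.mpr fun b => ?_))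
        have h := hu (wq b)
        rw [hB] at h
        by_contra hne
        simp only [b2, if_neg (Ne.symm hne)] at h
        exact one_ne_zero h }
  have hWc : Nat.card ↥(Q.map (QuotientGroup.mk' Zc)) = 4096 := by
    have hm := wq.ker.card_mul_index
    rw [Subgroup.index_ker, MonoidHom.range_eq_top.mpr hwq, Subgroup.card_top, hcard] at hm
    have hk : wq.ker = Subgroup.center ↥Q := by
      ext a
      rw [MonoidHom.mem_ker, hw1, hext.center_iff]
    rw [hk, hE.2] at hm
    omega
  obtain ⟨φ, hφadd, hφom, hφh⟩ := F.exists_coord hWc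
  have hφ0 : φ 1 = 0 := by
    have h := hφadd 1 1
    rwa [one_mul, left_eq_add] at h
  have hφsm : ∀ k u, φ (F.sm k u) = k • φ u := fun k u => by
    cases k
    · exact hφ0.trans (zero_smul K _).symm
    · exact (one_smul K _).symm
    · exact hφom u
    · show φ (F.om (F.om u)) = _
      rw [hφom, hφom, smul_smul]
      rfl
  let th : Cz z →* Perm V := MonoidHom.mk' (fun c => φ.permCongr (α c).toEquiv) fun c d => Equiv.ext fun v => by
    simp [Equiv.permCongr_apply]
  have hth : ∀ c u, th c (φ u) = φ (α c u) := fun c u => by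
    show φ.permCongr (α c).toEquiv (φ u) = _
    simp [Equiv.permCongr_apply]
  have hx_act : ∀ v, th (r : Cz z) v = K.w • v := fun v => by
    obtain ⟨u, rfl⟩ := φ.surjective v
    rw [hth]
    exact hφom u
  refine ⟨{
    zq := zq, coe_zq := rfl, z2 := hz, ext2 := hext, card_Q := by rw [hcard]; norm_num
    pi := fun a => φ (wq a)
    pi_mul := fun a b => by rw [map_mul, hφadd]
    pi_surj := φ.surjective.comp hwq
    pi_ker := fun a => by rw [← hφ0, φ.injective.eq_iff, hw1]
    sq_iff := fun a => ?_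
    orth := fun a b h => ?_
    th := th
    th_pi := fun c a => (hth c _).trans (congrArg φ (hα c a))
    th_ker := fun c => by
      rw [← hαker]
      constructor
      · intro h
        refine MulEquiv.ext fun u => φ.injective ?_
        rw [← hth, h]
        rfl
      · intro h
        refine Equiv.ext fun v => ?_
        obtain ⟨u, rfl⟩ := φ.surjective v
        rw [hth, h]
        rfl
    x := r, x_three := hx3, x_act := hx_act, kind := fun c => ?_ }, r.2, hxQ⟩
  · -- the squares
    rw [hφh]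
    show _ ↔ pairK (B (om (om (wq a))) (wq a)) (B (wq a) (wq a)) = 0
    rw [pairK_zero]
    have hb : B (om (om (wq a))) (wq a) = b2 a (conjQ (r : Cz z) a) := by
      rw [show B (om (om (wq a))) (wq a) = B (wq a) (wq a) + B (om (wq a)) (wq a) from F.B_om2 _ _,
        show B (wq a) (wq a) = 0 from F.alt _, zero_add, show B (om (wq a)) (wq a) = B (wq a) (om (wq a)) from F.symm _ _,
        hom, hα, hB]
    rw [hb]
    simp only [show B (wq a) (wq a) = 0 from F.alt _, and_true]
    set b := conjQ (r : Cz z) a with hbdef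
    set c := conjQ ((r : Cz z) * (r : Cz z)) a with hcdef
    have hc : wq c = wq (a * b) := by
      rw [hcdef, ← hα, map_mul (α), map_mul, hbdef, ← hα]
      exact F.om_om (wq a)
    have hsq' : ∀ d : Cz z, conjQ d a * conjQ d a = a * a := fun d => Subtype.ext (by
      have hm : ((a * a : Q) : Cz z) ∈ Subgroup.center (Cz z) := Subgroup.zpowers_le.mpr hzc ((memZq _).mpr (hext.sq a))
      show d * a * d⁻¹ * (d * a * d⁻¹) = ((a * a : Q) : Cz z)
      rw [show d * a * d⁻¹ * (d * a * d⁻¹) = d * ((a : Cz z) * a) * d⁻¹ by group, ← Subgroup.coe_mul,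
        Subgroup.mem_center_iff.mp hm d, mul_inv_cancel_right])
    have hab : (a * b) * (a * b) = c * c := by
      rcases (hw1 (c⁻¹ * (a * b))).mp (by rw [map_mul, map_inv, hc, inv_mul_cancel]) with e | e
      · rw [inv_mul_eq_one.mp e]
      · rw [inv_mul_eq_iff_eq_mul.mp e, (hext.z_comm c).symm.mul_mul_mul_comm, hext.zz, mul_one]
    rw [hsq'] at hab
    have hbb : b * b = a * a := hsq' _
    simp only [b2]
    rcases hext.comm_cases b a with e | e
    · have hcomm : a * b = b * a := (commutatorElement_eq_one_iff_mul_comm.mp e).symm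
      rw [if_pos hcomm]
      simp only [iff_true]
      calc a * a = a * a * (b * b) * (b * b)⁻¹ := by group
        _ = (a * b) * (a * b) * (b * b)⁻¹ := by rw [(show Commute b a from hcomm.symm).mul_mul_mul_comm]
        _ = 1 := by rw [hab, hbb, mul_inv_cancel]
    · have hne : a * b ≠ b * a := fun h => hext.ne (by rw [← e, commutatorElement_eq_one_iff_mul_comm.mpr h.symm])
      rw [if_neg hne]
      simp only [one_ne_zero, iff_false]
      intro h1
      rw [h1] at hab hbb
      apply hne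
      calc a * b = a * (a * b * (a * b)) * b := by rw [hab, mul_one]
        _ = (a * a) * (b * a) * (b * b) := by group
        _ = b * a := by rw [h1, hbb, one_mul, mul_one]
  · rw [hφh] at h
    have h2 := ((pairK_zero _ _).mp h).2
    rw [show F.B (wq a) (wq b) = B (wq a) (wq b) from rfl, hB] at h2
    by_contra hne
    simp only [b2, if_neg hne] at h2
    exact one_ne_zero h2
  · -- linear or semilinear
    have hNq : N.map (QuotientGroup.mk' Q) = Subgroup.zpowers (QuotientGroup.mk' Q (r : Cz z)) := by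
      refine (Subgroup.eq_of_le_of_card_ge (Subgroup.zpowers_le.mpr (Subgroup.mem_map_of_mem _ r.2)) ?_).symm
      have ho : orderOf (QuotientGroup.mk' Q (r : Cz z)) = 3 := orderOf_eq_prime (by rw [← map_pow, hx3, map_one])
        fun h => hxQ ((QuotientGroup.eq_one_iff _).mp h)
      have hm := ((QuotientGroup.mk' Q).subgroupMap N).ker.card_mul_index
      rw [Subgroup.index_ker, MonoidHom.range_eq_top.mpr (MonoidHom.subgroupMap_surjective _ _), Subgroup.card_top] at hm
      have hk : Nat.card ((QuotientGroup.mk' Q).subgroupMap N).ker = Nat.card Q := by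
        refine Nat.card_congr ⟨fun a => ⟨a.1.1, (QuotientGroup.eq_one_iff _).mp (congrArg Subtype.val a.2)⟩,
          fun a => ⟨⟨a.1, hQN a.2⟩, Subtype.ext ((QuotientGroup.eq_one_iff _).mpr a.2)⟩, fun _ => rfl, fun _ => rfl⟩
      rw [hk, hN, mul_comm 3, Nat.mul_right_inj Nat.card_pos.ne'] at hm
      rw [hm, Nat.card_zpowers, ho]
    obtain ⟨k, hk⟩ : QuotientGroup.mk' Q (c * (r : Cz z) * c⁻¹) ∈ Subgroup.zpowers (QuotientGroup.mk' Q (r : Cz z)) := by
      rw [← hNq]; exact Subgroup.mem_map_of_mem _ ((inferInstance : N.Normal).conj_mem _ r.2 c)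
    have hk' : α (c * (r : Cz z) * c⁻¹) = om ^ k := by
      have hq : ((r : Cz z) ^ k)⁻¹ * (c * (r : Cz z) * c⁻¹) ∈ Q := (QuotientGroup.eq).mp ((map_zpow _ _ _).trans hk)
      have h1 := (hαker _).mpr hq
      rw [map_mul, map_inv, inv_mul_eq_one, map_zpow] at h1
      exact h1.symm
    have hom3 : om ^ (3 : ℕ) = 1 := by rw [hom, ← map_pow, hx3, map_one]
    have hk3 : om ^ k = 1 ∨ om ^ k = om ∨ om ^ k = om * om := by
      rw [← Int.emod_add_mul_ediv k 3, _root_.zpow_add, _root_.zpow_mul, zpow_ofNat, hom3, _root_.one_zpow, mul_one]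
      have := Int.emod_nonneg k (b := 3) (by norm_num)
      have := Int.emod_lt_of_pos k (b := 3) (by norm_num)
      interval_cases k % 3
      · exact Or.inl (zpow_zero _)
      · exact Or.inr (Or.inl (zpow_one _))
      · exact Or.inr (Or.inr (zpow_two _))
    rw [← hk'] at hk3
    have hne1 : α (c * (r : Cz z) * c⁻¹) ≠ 1 := fun h => hxQ (by
      have := hQn.conj_mem _ ((hαker _).mp h) c⁻¹
      simpa [mul_assoc] using this)
    have hadd : ∀ u v, th c (u + v) = th c u + th c v := fun u v => by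
      obtain ⟨a, rfl⟩ := φ.surjective u
      obtain ⟨b, rfl⟩ := φ.surjective v
      rw [← hφadd, hth, map_mul, hφadd, hth, hth]
    have hcom : ∀ σ : MulAut ↥(Q.map (QuotientGroup.mk' Zc)), α (c * (r : Cz z) * c⁻¹) = σ →
        ∀ u, α c (om u) = σ (α c u) := fun σ e u => by
      rw [← e, map_mul, map_mul, MulAut.mul_apply, MulAut.mul_apply, map_inv, MulAut.inv_def,
        MulEquiv.symm_apply_apply]
    rcases hk3 with h | h | h
    · exact absurd h hne1
    · refine Or.inl ⟨hadd, fun k v => ?_, fun u v => ?_⟩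
      · obtain ⟨u, rfl⟩ := φ.surjective v
        rw [← hφsm, hth, hth, ← hφsm]
        congr 1
        cases k
        · exact map_one _
        · rfl
        · exact hcom om h u
        · show α c (om (om u)) = om (om (α c u))
          rw [hcom om h, hcom om h]
      · obtain ⟨a, rfl⟩ := φ.surjective u
        obtain ⟨b, rfl⟩ := φ.surjective v
        rw [hth, hth, hφh, hφh]
        show pairK (B (om (om (α c a))) (α c b)) (B (α c a) (α c b)) = pairK (B (om (om a)) b) (B a b)
        rw [← hcom om h, ← hcom om h, hBinv, hBinv]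
    · have hsm : ∀ (k : K) v, th c (k • v) = cjK k • th c v := fun k v => by
        obtain ⟨u, rfl⟩ := φ.surjective v
        rw [← hφsm, hth, hth, ← hφsm]
        congr 1
        cases k
        · exact map_one _
        · rfl
        · exact hcom _ h u
        · show α c (om (om u)) = om (α c u)
          rw [hcom _ h, hcom _ h]
          exact congrArg om (F.om_three (α c u))
      have hform : ∀ u v, hV (th c u) (th c v) = cjK (hV u v) := fun u v => by
        obtain ⟨a, rfl⟩ := φ.surjective u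
        obtain ⟨b, rfl⟩ := φ.surjective v
        rw [hth, hth, hφh, hφh, F.h_swap]
        show pairK (B (om (om (α c a))) (α c b)) (B (α c a) (α c b)) = pairK (B (om (om b)) a) (B b a)
        rw [show om (om (α c a)) = α c (om a) from (hcom _ h a).symm, hBinv, hBinv, show B b a = B a b from F.symm _ _]
        congr 1
        rw [show B (om a) b = B a (om (om b)) from F.B_left _ _]
        exact F.symm _ _
      refine Or.inr ⟨fun u v => ?_, fun k v => ?_, fun u v => ?_⟩
      · simp only [Perm.mul_apply, Sg_add, hadd]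
      · simp only [Perm.mul_apply, Sg_smul, hsm, cjK_cjK]
      · simp only [Perm.mul_apply, hform, hV_Sg, cjK_cjK]

end CfsgLib.Fi24Q
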