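/-
Groups of large Fischer type: coordinates in which the action of the centralizer on the core is the
standard subgroup extended by one of two semilinear involutions.
-/
import Cfsg.Agent.Lib.Fi24Three.Invert
import Cfsg.Agent.Lib.Fi24Q.Pre
import Cfsg.Agent.Lib.SUSixSub.Main

set_option autoImplicit false
set_option linter.style.haveILetI false
set_option linter.unusedSectionVars false

namespace CfsgLib.Fi24Q

open Matrix CfsgLib.G24 CfsgLib.SUSixSub Equiv CfsgLib.ExtraTwo CfsgLargeExtra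

attribute [local irreducible] maskA maskB gensA tauN orbA orbB

theorem fix_ok : Nat.beq (img (ofN tauN, true) tN) tN = true ∧ Nat.beq (img (oneM, true) tN) tN = true ∧
    Nat.beq (img (ofN tauN, true) uN) uN = true ∧ Nat.beq (img (oneM, true) uN) uN = true := by
  decide +kernel

theorem cj_self : ∀ a : K, cjK a = a → a = 0 ∨ a = 1 := by decide

theorem KL_B {g : Perm V} (hg : g ∈ KL) {v : V} (hv : v ∈ inM maskB) : g v ∈ inM maskB := by
  obtain ⟨h1, h2⟩ := (sing_iff v).mp (Or.inr hv)
  obtain ⟨k, hk, rfl⟩ := hg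
  refine ((sing_iff _).mpr ⟨fun z => h1 ((lin k).injective (z.trans (lin_zero k).symm)), ?_⟩).resolve_left
    fun hA => not_both v ⟨?_, hv⟩
  · rw [hV_lin, h2]
  · have := KL_A (inv_mem (show lin k ∈ KL from ⟨k, hk, rfl⟩)) _ hA
    rwa [Perm.inv_def, Equiv.symm_apply_apply] at this

/-- A semilinear isometry normalising the subgroup preserves the smaller orbit. -/
theorem semi_invA {T : Perm V} (hT : IsSemi T) (hn : ∀ k ∈ KL, T * k * T⁻¹ ∈ KL) :
    ∀ v ∈ inM maskA, T v ∈ inM maskA := by
  have hz : T 0 = 0 := by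
    have h := hT.add 0 0
    rwa [add_zero, left_eq_add] at h
  have hsing : ∀ v, v ∈ inM maskA ∪ inM maskB → T v ∈ inM maskA ∪ inM maskB := fun v hv => by
    obtain ⟨h1, h2⟩ := (sing_iff v).mp hv
    refine (sing_iff _).mpr ⟨fun e => h1 (T.injective (e.trans hz.symm)), ?_⟩
    rw [hT.form, h2]
    rfl
  intro v hv
  refine (hsing v (Or.inl hv)).resolve_right fun hB => ?_
  have hAB : ∀ w ∈ inM maskA, T w ∈ inM maskB := fun w hw => by
    obtain ⟨g, hg, rfl⟩ := reach_A hv
    obtain ⟨g', hg', rfl⟩ := reach_A hw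
    have h := KL_B (hn (g' * g⁻¹) (mul_mem hg' (inv_mem hg))) hB
    simpa [Perm.mul_apply] using h
  have hsurj : T '' (inM maskA ∪ inM maskB) = inM maskA ∪ inM maskB :=
    Set.eq_of_subset_of_ncard_le (by rintro _ ⟨w, hw, rfl⟩; exact hsing w hw)
      (by rw [Set.ncard_image_of_injective _ T.injective]) (Set.toFinite _)
  obtain ⟨w, hw, hwt⟩ := hsurj.symm.subset (Or.inl t0_mem)
  have hwB : w ∈ inM maskB := hw.resolve_left fun h => not_both t0 ⟨t0_mem, hwt ▸ hAB w h⟩
  have hBA : T '' inM maskB ⊆ inM maskA := by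
    rintro _ ⟨u, hu, rfl⟩
    obtain ⟨g, hg, rfl⟩ := reach_B hwB
    obtain ⟨g', hg', rfl⟩ := reach_B hu
    have h := KL_A (hn (g' * g⁻¹) (mul_mem hg' (inv_mem hg))) _ t0_mem
    rw [← hwt] at h
    simpa [Perm.mul_apply] using h
  have h := Set.ncard_le_ncard hBA (Set.toFinite _)
  rw [Set.ncard_image_of_injective _ T.injective, ncard_A, ncard_B] at h
  omega

/-- The scaling of the last coordinate. -/
theorem exists_diag : ∃ P : Perm V, IsIso P ∧ ∀ g : Γ, lin (psi g) = P * lin g * P⁻¹ := by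
  have hdd : ∀ i, dd i * cjK (dd i) = 1 := fun i => by rw [cjK_eq]; exact dd_facts.1 i
  let P : Perm V :=
    { toFun := fun v i => dd i * v i
      invFun := fun v i => cjK (dd i) * v i
      left_inv := fun v => funext fun i => by dsimp only; rw [← mul_assoc, mul_comm (cjK _), hdd, one_mul]
      right_inv := fun v => funext fun i => by dsimp only; rw [← mul_assoc, hdd, one_mul] }
  have hP : IsIso P :=
    ⟨fun a b => funext fun i => mul_add _ _ _, fun k v => funext fun i => mul_left_comm _ _ _, fun a b => by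
      simp only [hV, Cfsg.hermForm, ← cjK_eq]
      refine Finset.sum_congr rfl fun i _ => ?_
      show dd i * a i * cjK (dd i * b i) = _
      rw [cjK_mul, mul_mul_mul_comm, hdd, one_mul]⟩
  refine ⟨P, hP, fun g => Equiv.ext fun v => ?_⟩
  rw [lin_apply, gm_psi, ← Matrix.mulVec_mulVec, ← Matrix.mulVec_mulVec]
  funext i
  rw [Matrix.mulVec_diagonal]
  show _ = dd i * ((gm g) *ᵥ (P⁻¹ v)) i
  congr 2
  congr 1
  funext j
  rw [Matrix.mulVec_diagonal, Perm.inv_def]
  show _ = cjK (dd j) * v j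
  rw [cjK_eq]

theorem exists_Ki : ∀ i : ℕ, ∃ P : Perm V, IsIso P ∧ (Ki i).map lin = KL.map (MulAut.conj P).toMonoidHom
  | 0 => ⟨1, isIso_one, by rw [map_one]; exact (Subgroup.map_id _).symm⟩
  | i + 1 => by
    obtain ⟨P, hP, e⟩ := exists_Ki i
    obtain ⟨E, hE, he⟩ := exists_diag
    refine ⟨E * P, hE.mul hP, ?_⟩
    have hc : lin.comp psi = (MulAut.conj E).toMonoidHom.comp lin := MonoidHom.ext fun g => he g
    show ((Ki i).map psi).map lin = _
    rw [Subgroup.map_map, hc, ← Subgroup.map_map, e, Subgroup.map_map, map_mul]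
    rfl

variable {G : Type*} [Group G] [Finite G] {z : G} {Q : Subgroup (Cz z)} [hQn : Q.Normal]

/-- Coordinates in which the image is standard. -/
structure Data (z : G) (Q : Subgroup (Cz z)) [Q.Normal] extends Pre z Q where
  R : Perm V
  hR : R = Sg ∨ R = lin tau * Sg
  rng : Rng th.range R

theorem semi_out {R : Perm V} (hR : IsSemi R) : R ∉ KL := by
  rintro ⟨k, -, rfl⟩
  have h1 := hR.smul K.w t0
  rw [(isIso_lin k).smul] at h1
  obtain ⟨hne, -⟩ := (sing_iff t0).mp (Or.inl t0_mem)
  have h2 : (K.w + cjK K.w) • lin k t0 = 0 := by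
    rw [add_smul, ← h1]
    exact funext fun i => (show ∀ a : K, a + a = 0 by decide) _
  rw [show K.w + cjK K.w = (1 : K) from rfl, one_smul] at h2
  exact hne ((lin k).injective (h2.trans (lin_zero k).symm))

theorem isE_Rf : IsE (lin tau * Sg) (ofN tauN, true) := fun v => by
  rw [Perm.mul_apply, lin_apply, gm_tau]
  rfl

theorem Rf_semi : IsSemi (lin tau * Sg) := (isIso_lin tau).mul_semi isSemi_Sg

theorem Rf_sq : lin tau * Sg * (lin tau * Sg) = 1 := by
  refine (isE_Rf.mul isE_Rf).eq isE_one ?_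
  decide +kernel

/-- The derived part of a group of maps consists of maps of determinant one. -/
theorem range_lin (D : Pre z Q) {M : Subgroup (Cz z)} (hperf : ∀ m ∈ M, ∃ k ∈ ⁅M, M⁆, k⁻¹ * m ∈ Q) :
    (∀ m ∈ M, IsIso (D.th m)) ∧ M.map D.th ≤ lin.range := by
  have hsemi : ∀ {p q : Perm V}, IsSemi p → IsSemi q → IsIso (p * q) := fun {p q} hp hq => by
    have h := IsIso.mul hp (IsIso.sgConj hq)
    rwa [show p * Sg * (Sg * (q * Sg) * Sg) = p * (Sg * Sg) * q * (Sg * Sg) by group, Sg_sq, mul_one, mul_one] at h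
  have hinv : ∀ {p : Perm V}, IsSemi p → IsSemi p⁻¹ := fun {p} hp => by
    have h := (IsIso.inv hp).sgConj
    rwa [_root_.mul_inv_rev, Sg_inv, ← mul_assoc, Sg_sq, one_mul] at h
  have hker : ∀ q ∈ Q, D.th q = 1 := fun q hq => (D.th_ker q).mpr hq
  have hcomm : ∀ a b : Cz z, IsIso (D.th (a * b * a⁻¹ * b⁻¹)) := fun a b => by
    simp only [map_mul, map_inv]
    rcases D.kind a with ha | ha <;> rcases D.kind b with hb | hb
    · exact ((ha.mul hb).mul ha.inv).mul hb.inv
    · exact hsemi ((ha.mul_semi hb).mul_iso ha.inv) (hinv hb)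
    · exact (hsemi (ha.mul_iso hb) (hinv ha)).mul hb.inv
    · exact hsemi ((hsemi ha hb).mul_semi (hinv ha)) (hinv hb)
  have hiso : ∀ m ∈ M, IsIso (D.th m) := fun m hm => by
    obtain ⟨k, hk, hq⟩ := hperf m hm
    have e : D.th m = D.th k := by
      have := hker _ hq
      rw [map_mul, map_inv, inv_mul_eq_one] at this
      exact this.symm
    rw [e]
    let S : Subgroup (Cz z) :=
      { carrier := {c | IsIso (D.th c)}
        mul_mem' := fun ha hb => by rw [Set.mem_setOf_eq, map_mul]; exact ha.mul hb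
        one_mem' := by rw [Set.mem_setOf_eq, map_one]; exact isIso_one
        inv_mem' := fun ha => by rw [Set.mem_setOf_eq, map_inv]; exact ha.inv }
    exact (Subgroup.commutator_le.mpr fun a _ b _ => show a * b * a⁻¹ * b⁻¹ ∈ S from hcomm a b) hk
  refine ⟨hiso, ?_⟩
  rintro _ ⟨m, hm, rfl⟩
  obtain ⟨k, hk, hq⟩ := hperf m hm
  have e : D.th m = D.th k := by
    have := hker _ hq
    rw [map_mul, map_inv, inv_mul_eq_one] at this
    exact this.symm
  rw [e]
  let S : Subgroup (Cz z) :=
    { carrier := {c | IsIso (D.th c) ∧ detP (D.th c) = 1}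
      mul_mem' := fun ha hb => by
        refine ⟨by rw [map_mul]; exact ha.1.mul hb.1, ?_⟩
        rw [map_mul, detP_mul ha.1 hb.1, ha.2, hb.2, one_mul]
      one_mem' := by
        refine ⟨by rw [map_one]; exact isIso_one, ?_⟩
        rw [map_one, detP_one]
      inv_mem' := fun ha => by
        refine ⟨by rw [map_inv]; exact ha.1.inv, ?_⟩
        have h := detP_inv ha.1
        rw [ha.2, one_mul] at h
        rw [map_inv, h] }
  obtain ⟨g, hg⟩ := exists_lin ((hiso k ((Subgroup.commutator_le.mpr fun a ha b hb => mul_mem (mul_mem (mul_mem ha hb) (inv_mem ha)) (inv_mem hb)) hk) : IsIso (D.th k)))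
    ((Subgroup.commutator_le.mpr fun a ha b hb => show a * b * a⁻¹ * b⁻¹ ∈ S from ⟨hcomm a b, by
      have hA := hiso a ha
      have hB := hiso b hb
      simp only [map_mul, map_inv]
      rw [detP_mul ((hA.mul hB).mul hA.inv) hB.inv, detP_mul (hA.mul hB) hA.inv, detP_mul hA hB,
        mul_right_comm (detP (D.th a)), detP_inv hA, one_mul, detP_inv hB]⟩) hk : k ∈ S).2
  exact ⟨g, hg⟩

/-- The model exists. -/
theorem exists_data (hF : Cfsg.IsOfLargeFischerTypeAt z Q) :
    ∃ (D : Data z Q) (N M : Subgroup (Cz z)), Q ≤ N ∧ N ≤ M ∧ Nat.card N = 3 * Nat.card Q ∧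
      M.index = 2 ∧ D.x ∈ N ∧ M.map D.th = KL := by
  classical
  obtain ⟨hset, N, M, hNn, hMn, hQN, hNM, hN, ⟨F, _, _, hF9, ⟨e⟩⟩, hM⟩ := hF
  obtain ⟨hfpf, hperf⟩ := Fi24Three.core_facts hset hQN hNM hN hF9 e
  obtain ⟨D, hxN, hxQ⟩ := exists_pre hset hQN hN hfpf
  obtain ⟨hiso, hlin⟩ := range_lin D hperf
  -- the cover
  set H : Subgroup Γ := (M.map D.th).comap lin with hH
  have hHM : H.map lin = M.map D.th := Subgroup.map_comap_eq_self hlin
  let f : ↥M →* ↥H := MonoidHom.mk' (fun m => ⟨(hlin (Subgroup.mem_map_of_mem _ m.2)).choose, by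
      show lin _ ∈ M.map D.th
      rw [(hlin (Subgroup.mem_map_of_mem _ m.2)).choose_spec]
      exact Subgroup.mem_map_of_mem _ m.2⟩)
    fun a b => Subtype.ext (lin_injective (by
      show lin _ = lin (_ * _)
      rw [map_mul, (hlin (Subgroup.mem_map_of_mem _ a.2)).choose_spec, (hlin (Subgroup.mem_map_of_mem _ b.2)).choose_spec,
        (hlin (Subgroup.mem_map_of_mem _ (a * b).2)).choose_spec, Subgroup.coe_mul, map_mul]))
  have hf : ∀ m : M, lin (f m : Γ) = D.th m := fun m => (hlin (Subgroup.mem_map_of_mem _ m.2)).choose_spec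
  have hfs : Function.Surjective f := fun h => by
    obtain ⟨m, hm, hme⟩ := h.2
    exact ⟨⟨m, hm⟩, Subtype.ext (lin_injective ((hf _).trans hme))⟩
  have hfker : f.ker = Q.subgroupOf M := by
    ext m
    rw [MonoidHom.mem_ker, Subgroup.mem_subgroupOf, ← D.th_ker, ← hf]
    constructor
    · intro h; rw [h]; exact map_one _
    · intro h; exact Subtype.ext (lin_injective (h.trans (map_one _).symm))
  obtain ⟨-, -, ⟨es⟩⟩ := U43Mult.small_card hF9
  have hsimple : IsSimpleGroup (Cfsg.PSU 4 F 3) :=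
    CfsgLib.UnitarySimple.simple (F := F) (q := 3) (by rw [hF9]; norm_num) (by norm_num) (by norm_num)
  let g0 : ↥M →* SmallU := (e.trans es).toMonoidHom.comp (QuotientGroup.mk' (N.subgroupOf M))
  have hg0 : Function.Surjective g0 := (e.trans es).surjective.comp (QuotientGroup.mk'_surjective _)
  have hg0k : g0.ker = N.subgroupOf M := by
    ext m
    rw [MonoidHom.mem_ker, MonoidHom.comp_apply]
    exact (map_eq_one_iff _ (e.trans es).injective).trans (QuotientGroup.eq_one_iff m)
  have hcardM : Nat.card M = 3 * 3265920 * Nat.card Q := by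
    have h := g0.ker.card_mul_index
    rw [Subgroup.index_ker, MonoidHom.range_eq_top.mpr hg0, Subgroup.card_top, hg0k, small_u_card,
      Nat.card_congr (Subgroup.subgroupOfEquivOfLe hNM).toEquiv, hN] at h
    rw [← h]; ring
  have hcardH : Nat.card H = 9797760 := by
    have h := f.ker.card_mul_index
    rw [Subgroup.index_ker, MonoidHom.range_eq_top.mpr hfs, Subgroup.card_top, hfker,
      Nat.card_congr (Subgroup.subgroupOfEquivOfLe (hQN.trans hNM)).toEquiv, hcardM, mul_comm (3 * 3265920),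
      Nat.mul_right_inj Nat.card_pos.ne'] at h
    exact h
  -- the image of the top
  set N' : Subgroup H := (N.subgroupOf M).map f with hN'
  have hN'c : N' ≤ Subgroup.center H := by
    rintro _ ⟨n, hn, rfl⟩
    refine Subgroup.mem_center_iff.mpr fun h => ?_
    obtain ⟨m, rfl⟩ := hfs h
    refine Subtype.ext (lin_injective ?_)
    simp only [Subgroup.coe_mul, map_mul, hf]
    have hn3 : ∃ k : ℤ, D.th n = D.th D.x ^ k := by
      have hNq : N.map (QuotientGroup.mk' Q) = Subgroup.zpowers (QuotientGroup.mk' Q D.x) := by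
        refine (Subgroup.eq_of_le_of_card_ge (Subgroup.zpowers_le.mpr (Subgroup.mem_map_of_mem _ hxN)) ?_).symm
        haveI : Fact (Nat.Prime 3) := ⟨Nat.prime_three⟩
        have ho : orderOf (QuotientGroup.mk' Q D.x) = 3 := orderOf_eq_prime (by rw [← map_pow, D.x_three, map_one])
          fun h => hxQ ((QuotientGroup.eq_one_iff _).mp h)
        have hm := ((QuotientGroup.mk' Q).subgroupMap N).ker.card_mul_index
        rw [Subgroup.index_ker, MonoidHom.range_eq_top.mpr (MonoidHom.subgroupMap_surjective _ _), Subgroup.card_top] at hm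
        have hk : Nat.card ((QuotientGroup.mk' Q).subgroupMap N).ker = Nat.card Q := by
          refine Nat.card_congr ⟨fun a => ⟨a.1.1, (QuotientGroup.eq_one_iff _).mp (congrArg Subtype.val a.2)⟩,
            fun a => ⟨⟨a.1, hQN a.2⟩, Subtype.ext ((QuotientGroup.eq_one_iff _).mpr a.2)⟩, fun _ => rfl, fun _ => rfl⟩
        rw [hk, hN, mul_comm 3, Nat.mul_right_inj Nat.card_pos.ne'] at hm
        rw [hm, Nat.card_zpowers, ho]
      obtain ⟨k, hk⟩ : QuotientGroup.mk' Q (n : Cz z) ∈ Subgroup.zpowers (QuotientGroup.mk' Q D.x) := by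
        rw [← hNq]; exact Subgroup.mem_map_of_mem _ hn
      refine ⟨k, ?_⟩
      have h := (D.th_ker _).mpr ((QuotientGroup.eq).mp ((map_zpow _ _ _).trans hk))
      rw [map_mul, map_inv, inv_mul_eq_one, map_zpow] at h
      exact h.symm
    obtain ⟨k, hk⟩ := hn3
    rw [hk]
    refine (Commute.zpow_right ?_ k).eq
    exact Equiv.ext fun v => by
      rw [Perm.mul_apply, Perm.mul_apply, D.x_act, D.x_act, (hiso m m.2).smul]
  have hN'card : Nat.card N' = 3 := by
    have h := (f.comp (N.subgroupOf M).subtype).ker.card_mul_index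
    rw [Subgroup.index_ker, MonoidHom.range_comp, Subgroup.range_subtype,
      Nat.card_congr (Subgroup.subgroupOfEquivOfLe hNM).toEquiv, hN] at h
    have hk : Nat.card (f.comp (N.subgroupOf M).subtype).ker = Nat.card Q := by
      refine Nat.card_congr ⟨fun a => ⟨a.1.1.1, ?_⟩, fun a => ⟨⟨⟨a.1, hNM (hQN a.2)⟩, hQN a.2⟩, ?_⟩,
        fun _ => rfl, fun _ => rfl⟩
      · have := a.2
        rw [MonoidHom.mem_ker, MonoidHom.comp_apply, ← MonoidHom.mem_ker, hfker] at this
        exact this
      · rw [MonoidHom.mem_ker, MonoidHom.comp_apply, ← MonoidHom.mem_ker, hfker]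
        exact a.2
    rw [hk, mul_comm 3, Nat.mul_right_inj Nat.card_pos.ne'] at h
    exact h
  have hle : f.ker ≤ g0.ker := by
    rw [hfker, hg0k]; exact fun m hm => hQN hm
  let ρ : ↥H →* SmallU := MonoidHom.liftOfSurjective f hfs ⟨g0, hle⟩
  have hρ : ∀ m, ρ (f m) = g0 m := fun m => MonoidHom.liftOfRightInverse_comp_apply _ _ _ _ _
  have hρs : Function.Surjective ρ := fun u => by obtain ⟨m, rfl⟩ := hg0 u; exact ⟨f m, hρ m⟩
  have hρk : ρ.ker = N' := by
    ext h
    obtain ⟨m, rfl⟩ := hfs h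
    rw [MonoidHom.mem_ker, hρ, ← MonoidHom.mem_ker, hg0k]
    refine ⟨fun hm => Subgroup.mem_map_of_mem _ hm, ?_⟩
    rintro ⟨n, hn, hne⟩
    have h2 : n⁻¹ * m ∈ f.ker := by rw [MonoidHom.mem_ker, map_mul, map_inv, hne, inv_mul_cancel]
    rw [← mul_inv_cancel_left n m]
    exact mul_mem hn (by rw [← hg0k]; exact hle h2)
  haveI : IsSimpleGroup SmallU := es.symm.isSimpleGroup
  have hZ : Subgroup.center H = N' := by
    refine le_antisymm (fun c hc => ?_) hN'c
    rw [← hρk, MonoidHom.mem_ker]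
    have hcc : ρ c ∈ Subgroup.center SmallU := Subgroup.mem_center_iff.mpr fun u => by
      obtain ⟨d, rfl⟩ := hρs u
      rw [← map_mul, ← map_mul, Subgroup.mem_center_iff.mp hc d]
    rcases IsSimpleGroup.eq_bot_or_eq_top_of_normal (Subgroup.center SmallU) inferInstance with hb | ht
    · rw [hb] at hcc; exact hcc
    · exfalso
      letI : CommGroup SmallU := { (inferInstance : Group SmallU) with
        mul_comm := fun a b => (Subgroup.mem_center_iff.mp (by rw [ht]; exact Subgroup.mem_top a) b).symm }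
      have hp := IsSimpleGroup.prime_card (α := SmallU)
      rw [small_u_card] at hp
      norm_num at hp
  have hcover : IsCover H := ⟨by rw [hZ, hN'card],
    ⟨(QuotientGroup.quotientMulEquivOfEq (hZ.trans hρk.symm)).trans (QuotientGroup.quotientKerEquivOfSurjective ρ hρs)⟩⟩
  obtain ⟨g, i, -, hgi⟩ := classify_conj hcover
  obtain ⟨P, hP, hPi⟩ := exists_Ki i
  -- the change of coordinates
  have hW : IsIso (P⁻¹ * lin g) := hP.inv.mul (isIso_lin g)
  set D' := D.twist hW with hD'
  have hKL : M.map D'.th = KL := by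
    show M.map ((MulAut.conj (P⁻¹ * lin g)).toMonoidHom.comp D.th) = KL
    rw [← Subgroup.map_map, ← hHM, Subgroup.map_map, map_mul]
    have hc : ((MulAut.conj P⁻¹ * MulAut.conj (lin g) : MulAut (Perm V))).toMonoidHom.comp lin =
        (MulAut.conj P⁻¹).toMonoidHom.comp (lin.comp (MulAut.conj g).toMonoidHom) := MonoidHom.ext fun a => by
      show P⁻¹ * (lin g * lin a * (lin g)⁻¹) * P⁻¹⁻¹ = P⁻¹ * lin (g * a * g⁻¹) * P⁻¹⁻¹
      rw [map_mul, map_mul, map_inv]
    rw [hc, ← Subgroup.map_map, ← Subgroup.map_map, hgi, hPi, Subgroup.map_map]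
    have h1 : (MulAut.conj P⁻¹).toMonoidHom.comp (MulAut.conj P).toMonoidHom = MonoidHom.id _ :=
      MonoidHom.ext fun a => by simp [mul_assoc]
    rw [h1, Subgroup.map_id]
  -- the outer element
  have hEG : Cfsg.IsExtraspecial 2 (Q.map (Cz z).subtype) :=
    Fi24Three.isExtraspecial_equiv (Q.equivMapOfInjective _ (Cz z).subtype_injective) hset.2.2.1
  obtain ⟨hes, -⟩ := ES.of_fitting z hset.1 (C := Cz z) rfl (Q.map (Cz z).subtype) (by rw [hset.2.1]) hEG
  obtain ⟨c, r, hr, hcr⟩ := Fi24Three.invert_fact (C := Cz z) rfl (Q := Q.map (Cz z).subtype) rfl hes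
    (by rw [Subgroup.card_map_of_injective (Cz z).subtype_injective, hset.2.2.2.1])
    (by
      obtain ⟨g₀, ⟨hg, hgQ⟩, hne⟩ := hset.2.2.2.2
      exact ⟨g₀, ⟨_, hgQ, rfl⟩, hne⟩) hQN hN hfpf
  have hcM : c ∉ M := fun hc => hcr (by
    rw [← D.th_ker]
    have hm : f ⟨r, hNM hr⟩ ∈ Subgroup.center H := hN'c (Subgroup.mem_map_of_mem _ hr)
    have h2 := congrArg (fun h : H => lin (h : Γ)) (Subgroup.mem_center_iff.mp hm (f ⟨c, hc⟩))
    simp only [Subgroup.coe_mul, map_mul, hf] at h2
    simp only [map_mul, map_inv]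
    rw [h2, mul_inv_cancel_right, mul_inv_cancel])
  have hT : IsSemi (D'.th c) := (D'.kind c).resolve_left fun hI => hcr (by
    -- a linear map commutes with the top, so the commutator is trivial
      rw [← D'.th_ker]
      have hm : f ⟨r, hNM hr⟩ ∈ N' := Subgroup.mem_map_of_mem _ hr
      have hn : D.th r ∈ Subgroup.zpowers (D.th D.x) := by
        have h3 : N' = Subgroup.zpowers (f ⟨D.x, hNM hxN⟩) := by
          haveI : Fact (Nat.Prime 3) := ⟨Nat.prime_three⟩
          refine (Subgroup.eq_of_le_of_card_ge (Subgroup.zpowers_le.mpr (Subgroup.mem_map_of_mem f (show (⟨D.x, hNM hxN⟩ : M) ∈ N.subgroupOf M from hxN))) ?_).symm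
          rw [hN'card, Nat.card_zpowers, orderOf_eq_prime (x := f ⟨D.x, hNM hxN⟩) (p := 3)
            (by rw [← map_pow]; exact (congrArg f (Subtype.ext D.x_three)).trans (map_one f))
            (fun h => hxQ (by
              have : (⟨D.x, hNM hxN⟩ : M) ∈ f.ker := h
              rw [hfker] at this
              exact this))]
        rw [h3] at hm
        obtain ⟨k, hk⟩ := hm
        refine ⟨k, ?_⟩
        have := congrArg (fun h : H => lin (h : Γ)) hk
        simp only [Subgroup.coe_zpow, map_zpow, hf] at this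
        exact this
      obtain ⟨k, hk⟩ := hn
      have hrk : D'.th r = D'.th D'.x ^ k := by
        show (MulAut.conj (P⁻¹ * lin g)) (D.th r) = (MulAut.conj (P⁻¹ * lin g)) (D.th D.x) ^ k
        rw [← map_zpow, ← hk]
      have hcomm : Commute (D'.th c) (D'.th r) := by
        rw [hrk]
        refine Commute.zpow_right ?_ k
        exact Equiv.ext fun v => by rw [Perm.mul_apply, Perm.mul_apply, D'.x_act, D'.x_act, hI.smul]
      simp only [map_mul, map_inv]
      rw [hcomm.eq, mul_inv_cancel_right, mul_inv_cancel])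
  have hn : ∀ k ∈ KL, D'.th c * k * (D'.th c)⁻¹ ∈ KL := fun k hk => by
    rw [← hKL] at hk ⊢
    obtain ⟨m, hm, rfl⟩ := hk
    rw [← map_inv, ← map_mul, ← map_mul]
    exact Subgroup.mem_map_of_mem _ (hMn.conj_mem m hm c)
  have hTA := semi_invA hT hn
  obtain ⟨k, hk, hkR⟩ := semi_cases hT hn hTA
  obtain ⟨R, hRs, hTR, hsq, hu, ht, hsemi⟩ : ∃ R : Perm V, (R = Sg ∨ R = lin tau * Sg) ∧ D'.th c = k * R ∧
      R * R = 1 ∧ R u0 = u0 ∧ R t0 = t0 ∧ IsSemi R := by
    rcases hkR with h | h
    · refine ⟨_, Or.inl rfl, h, Sg_sq, ?_, ?_, isSemi_Sg⟩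
      · rw [u0, isE_Sg.apply_vecN, Nat.eq_of_beq_eq_true fix_ok.2.2.2]
      · rw [t0, isE_Sg.apply_vecN, Nat.eq_of_beq_eq_true fix_ok.2.1]
    · refine ⟨_, Or.inr rfl, h, Rf_sq, ?_, ?_, Rf_semi⟩
      · rw [u0, isE_Rf.apply_vecN, Nat.eq_of_beq_eq_true fix_ok.2.2.1]
      · rw [t0, isE_Rf.apply_vecN, Nat.eq_of_beq_eq_true fix_ok.1]
  have hKr : KL ≤ D'.th.range := by rw [← hKL, MonoidHom.range_eq_map]; exact Subgroup.map_mono le_top
  have hRA : ∀ v ∈ inM maskA, R v ∈ inM maskA := fun v hv => by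
    have h := KL_A (inv_mem hk) _ (hTA v hv)
    rwa [hTR, Perm.mul_apply, Perm.inv_def, Equiv.symm_apply_apply] at h
  have hsplit : ∀ p ∈ D'.th.range, p ∈ KL ∨ p * R ∈ KL := by
    rintro _ ⟨d, rfl⟩
    by_cases hd : d ∈ M
    · exact Or.inl (hKL ▸ Subgroup.mem_map_of_mem _ hd)
    · refine Or.inr ?_
      have hdc : d * c⁻¹ ∈ M := by
        rw [Subgroup.mul_mem_iff_of_index_two hM]
        exact iff_of_false hd fun h => hcM (inv_mem_iff.mp h)
      have h1 : D'.th d * (D'.th c)⁻¹ ∈ KL := by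
        rw [← map_inv, ← map_mul, ← hKL]; exact Subgroup.mem_map_of_mem _ hdc
      rw [hTR, _root_.mul_inv_rev, inv_eq_of_mul_eq_one_right hsq, ← mul_assoc] at h1
      simpa [mul_assoc] using mul_mem h1 hk
  refine ⟨{ toPre := D', R := R, hR := hRs, rng :=
    { le := hKr
      mem := by
        have h : k⁻¹ * D'.th c ∈ D'.th.range := mul_mem (hKr (inv_mem hk)) ⟨c, rfl⟩
        rwa [hTR, inv_mul_cancel_left] at h
      sq := hsq
      out := semi_out hsemi
      split := hsplit
      t_fix := ht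
      u_fix := hu
      invA := fun p hp v hv => by
        rcases hsplit p hp with h | h
        · exact KL_A h v hv
        · have := KL_A h _ (hRA v hv)
          rwa [← Perm.mul_apply, mul_assoc, hsq, mul_one] at this
      qR := fun v => by
        rw [hsemi.form]
        exact hV_swap v v
      zR := by
        have h := hsemi.add 0 0
        rwa [add_zero, left_eq_add] at h } }, N, M, hQN, hNM, hN, hM, hxN, hKL⟩

namespace Data

variable (D : Data z Q)

/-- Change of coordinates by an element of the subgroup. -/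
def move {k : Perm V} (hk : k ∈ KL) : Data z Q where
  toPre := D.toPre.twist (P := k) (by obtain ⟨g, -, rfl⟩ := hk; exact isIso_lin g)
  R := D.R
  hR := D.hR
  rng := by
    have e : ((MulAut.conj k).toMonoidHom.comp D.th).range = D.th.range := by
      have hk' : k ∈ D.th.range := D.rng.le hk
      ext p
      constructor
      · rintro ⟨c, rfl⟩
        exact mul_mem (mul_mem hk' ⟨c, rfl⟩) (inv_mem hk')
      · intro hp
        obtain ⟨c, hc⟩ : k⁻¹ * p * k ∈ D.th.range := mul_mem (mul_mem (inv_mem hk') hp) hk'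
        exact ⟨c, by show k * D.th c * k⁻¹ = p; rw [hc]; group⟩
    show Rng ((MulAut.conj k).toMonoidHom.comp D.th).range D.R
    rw [e]
    exact D.rng

theorem move_pi {k : Perm V} (hk : k ∈ KL) (a : Q) : (D.move hk).pi a = k (D.pi a) := rfl

theorem move_th {k : Perm V} (hk : k ∈ KL) (c : Cz z) : (D.move hk).th c = k * D.th c * k⁻¹ := rfl

end Data

end CfsgLib.Fi24Q
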