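/-
Checks of the Sylow two-subgroup and of its elementary subgroups of order sixteen.
-/
import Cfsg.Agent.Lib.Fi24Q.Defs

set_option autoImplicit false
set_option maxRecDepth 30000
set_option maxHeartbeats 4000000

namespace CfsgLib.Fi24Q

open CfsgLib.G24 CfsgLib.SUSixSub

theorem sEls_ok : sEls.length = 256 ∧ sGens.length = 4 ∧ (sGens.all recB) = true ∧
    ((List.range 256).all fun k =>
      let e := sEls.getD k ((0, false), 0, 0)
      (Nat.beq k 0 && beqE (elS k) oneE) || (Nat.blt e.2.1 k && Nat.blt e.2.2 4 &&
        beqE (elS k) (mulE (recE (sGens.getD e.2.2 ((0, false), [])).1) (elS e.2.1)))) = true ∧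
    ((List.range 4).all fun j => (List.range 256).all fun k =>
      let l := (sNext.getD j []).getD k 256
      Nat.blt l 256 && beqE (elS l) (mulE (recE (sGens.getD j ((0, false), [])).1) (elS k))) = true := by
  decide +kernel

theorem sOrder_ok : sOrder.length = 256 ∧ ((List.range 256).all fun k => Nat.blt (sOrder.getD k 256) 256 &&
    (Nat.ble 256 (k + 1) || Nat.blt (fp (elS (sOrder.getD k 0))) (fp (elS (sOrder.getD (k + 1) 0))))) = true := by
  decide +kernel

theorem invs_ok : invs.length = 71 ∧ (invs.all fun k => Nat.blt k 256 && !Nat.beq k 0) = true ∧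
    ((List.range 256).all fun k => Nat.beq k 0 || invs.any (Nat.beq k) || !Nat.beq (fp (mulE (elS k) (elS k))) (fp oneE))
      = true := by
  decide +kernel

theorem quads_ok : (quads.all fun q => Nat.beq q.2.length 4 && q.2.all (fun x => Nat.blt x 71) &&
    Nat.ble (fixL q.2).length 8) = true ∧ quads.length = 38 := by
  decide +kernel

theorem aList_ok : aList.length = 15 ∧ maskOK aList aMask = true ∧
    (aList.all fun x => Nat.blt x 71 && !(invE x).2) = true ∧
    (aQuad.all fun x => Nat.blt x 71 && aMask.testBit x) = true ∧
    (aList.all fun x => aList.all fun y => Nat.beq x y || (Nat.blt (mulI x y) 71 && aMask.testBit (mulI x y))) = true := by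
  decide +kernel

theorem plane_ok : (Nat.beq (maskOf (fixL aQuad)) (maskOf planeL) && maskOK planeL (maskOf planeL)) = true ∧
    planeL.length = 64 ∧
    ((List.range 64).all fun i => (List.range i).all fun j => !Nat.beq (planeL.getD i 0) (planeL.getD j 0)) = true ∧
    (planeL.all fun a => planeL.all fun b => beqK (hN a b) .o) = true ∧
    (aList.all fun x => planeL.all fun n => Nat.beq (img (invE x) n) n) = true := by
  decide +kernel

theorem pGens_ok : wordsB gensA pGens pWords = true ∧ pGens.length = 2 ∧
    (pGens.all fun g => planeL.all fun n => (maskOf planeL).testBit (img (eN g false) n)) = true ∧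
    ((List.range 2).all fun j => (List.range 15).all fun a =>
      let l := (aConj.getD j []).getD a 15
      Nat.blt l 15 && beqE (mulE (eN (pGens.getD j 0) false) (invE (aList.getD a 0)))
        (mulE (invE (aList.getD l 0)) (eN (pGens.getD j 0) false))) = true ∧
    aTree.length = 15 ∧
    ((List.range 15).all fun k =>
      let e := aTree.getD k (0, 0, 0)
      (Nat.beq k 0 && Nat.beq e.1 0) || (Nat.blt e.2.1 k && Nat.blt e.2.2 2 &&
        Nat.beq ((aConj.getD e.2.2 []).getD (aTree.getD e.2.1 (0, 0, 0)).1 15) e.1)) = true ∧
    ((List.range 15).all fun a => aTree.any fun e => Nat.beq e.1 a) = true := by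
  decide +kernel

end CfsgLib.Fi24Q
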