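/-
The quadruples of commuting involutions of the Sylow two-subgroup.
-/
import Cfsg.Agent.Lib.Fi24Q.Defs

set_option autoImplicit false
set_option maxRecDepth 30000
set_option maxHeartbeats 4000000

namespace CfsgLib.Fi24Q

open CfsgLib.G24 CfsgLib.SUSixSub

theorem outA_ok : ((List.range 71).all fun a => aMask.testBit a || outA.any (Nat.beq a)) = true ∧
    (outA.all fun a => Nat.blt a 71) = true := by
  decide +kernel

theorem pairs_ok : stepB (outA.map fun a => [a]) pairsL pairNext = true := by
  decide +kernel

theorem triples_ok : stepB pairsL triL triNext = true := by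
  decide +kernel

theorem quadsNext_ok : stepB triL (quads.map fun q => q.2) quadNext = true := by
  decide +kernel

theorem lists_ok : (pairsL.all fun g => Nat.beq g.length 2 && g.all fun x => Nat.blt x 71) = true ∧
    (triL.all fun g => Nat.beq g.length 3 && g.all fun x => Nat.blt x 71) = true := by
  decide +kernel

theorem halves_ok : ((List.range 4096).all fun n =>
    Nat.beq (addN (n % 64) (64 * (n / 64))) n) = true := by
  decide +kernel

end CfsgLib.Fi24Q
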