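/-
The table of products of the involutions.
-/
import Cfsg.Agent.Lib.Fi24Q.Defs

set_option autoImplicit false
set_option maxRecDepth 30000
set_option maxHeartbeats 4000000
set_option Elab.async false

namespace CfsgLib.Fi24Q

open CfsgLib.G24 CfsgLib.SUSixSub

theorem invMul_okA : ((List.range' 0 18).all invRowB) = true := by
  decide +kernel

theorem invMul_okB : ((List.range' 18 18).all invRowB) = true := by
  decide +kernel

theorem invMul_okC : ((List.range' 36 18).all invRowB) = true := by
  decide +kernel

theorem invMul_okD : ((List.range' 54 17).all invRowB) = true := by
  decide +kernel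

end CfsgLib.Fi24Q
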