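/-
The Sylow two-subgroup of the image and its elementary subgroups of order at least sixteen.
-/
import Cfsg.Agent.Lib.Fi24Q.Orbits
import Cfsg.Agent.Lib.Fi24Q.ChecksC
import Cfsg.Agent.Lib.Fi24Q.ChecksD
import Cfsg.Agent.Lib.Fi24Q.ChecksE

set_option autoImplicit false
set_option maxRecDepth 30000
set_option linter.style.haveILetI false

namespace CfsgLib.Fi24Q

open Matrix CfsgLib.G24 CfsgLib.SUSixSub Equiv

attribute [local irreducible] orbA gensA sGens sEls sOrder sNext invs invMul outA pairsL triL quads pairNext triNext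
  quadNext aList aMask aQuad planeL

theorem indep_all : ((pairsL ++ triL).all fun g => Nat.ble g.length 3 &&
    (List.range g.length).all fun j => !(spanI (g.drop (j + 1))).any (Nat.beq (g.getD j 0))) = true := by
  decide +kernel

/-- The permutation of a code, if there is one. -/
noncomputable def codeP (E : Elt) : Perm V := open Classical in if h : ∃ p, IsE p E then h.choose else 1

theorem codeP_eq {p : Perm V} {E : Elt} (h : IsE p E) : codeP E = p := by
  have hx : ∃ q, IsE q E := ⟨p, h⟩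
  rw [codeP, dif_pos hx]
  exact Equiv.ext fun v => (hx.choose_spec v).trans (h v).symm

theorem elS_tree {H : Subgroup (Perm V)} (hH : ∀ e ∈ sGens, ∃ p ∈ H, IsE p (recE e.1)) (k : ℕ) (hk : k < 256) :
    ∃ p ∈ H, IsE p (elS k) := by
  induction k using Nat.strong_induction_on with
  | _ k ih =>
    have h := List.all_eq_true.mp sEls_ok.2.2.2.1 k (List.mem_range.mpr hk)
    simp only [Bool.or_eq_true, Bool.and_eq_true, Nat.blt_eq] at h
    rcases h with ⟨-, h⟩ | ⟨⟨hp, hj⟩, h⟩
    · exact ⟨1, one_mem _, fun v => by rw [mapE_congr h, isE_one]⟩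
    · obtain ⟨q, hq, hqe⟩ := ih _ hp (hp.trans hk)
      obtain ⟨g, hg, hge⟩ := hH (sGens.getD (sEls.getD k ((0, false), 0, 0)).2.2 ((0, false), [])) (by
        rw [List.getD_eq_getElem _ _ (sEls_ok.2.1.symm ▸ hj)]
        exact List.getElem_mem _)
      exact ⟨g * q, mul_mem hg hq, fun v => by rw [mapE_congr h, (hge.mul hqe) v]⟩

theorem sGens_isE {e : (ℕ × Bool) × List (ℕ × ℕ)} (he : e ∈ sGens) : IsE (peN e.1) (recE e.1) := by
  have h := List.all_eq_true.mp sEls_ok.2.2.1 e he
  simp only [recB, Bool.and_eq_true] at h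
  exact isE_peN h.1

theorem elS_isE (k : ℕ) (hk : k < 256) : IsE (codeP (elS k)) (elS k) := by
  obtain ⟨p, -, hp⟩ := elS_tree (H := ⊤) (fun e he => ⟨_, Subgroup.mem_top _, sGens_isE he⟩) k hk
  rwa [codeP_eq hp]

/-- The Sylow two-subgroup. -/
noncomputable def T0 : Subgroup (Perm V) := Subgroup.closure {p | ∃ e ∈ sGens, p = peN e.1}

theorem mem_T0 {p : Perm V} : p ∈ T0 ↔ ∃ k, k < 256 ∧ IsE p (elS k) := by
  constructor
  · intro h
    refine Subgroup.closure_induction_left (p := fun x _ => ∃ k, k < 256 ∧ IsE x (elS k)) ?_ ?_ ?_ h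
    · refine ⟨0, by norm_num, fun v => ?_⟩
      have h := List.all_eq_true.mp sEls_ok.2.2.2.1 0 (List.mem_range.mpr (by norm_num))
      simp only [Bool.or_eq_true, Bool.and_eq_true, Nat.blt_eq, Nat.not_lt_zero, false_and, or_false] at h
      rw [mapE_congr h.2, isE_one]
    · rintro x ⟨e, he, rfl⟩ y - ⟨k, hk, hy⟩
      obtain ⟨j, hj, rfl⟩ := List.getElem_of_mem he
      have h := List.all_eq_true.mp (List.all_eq_true.mp sEls_ok.2.2.2.2 j (List.mem_range.mpr (sEls_ok.2.1 ▸ hj))) k
        (List.mem_range.mpr hk)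
      simp only [Bool.and_eq_true, Nat.blt_eq] at h
      refine ⟨_, h.1, fun v => ?_⟩
      rw [List.getD_eq_getElem sGens _ hj] at h
      rw [mapE_congr h.2]
      exact ((sGens_isE (List.getElem_mem hj)).mul hy) v
    · rintro x ⟨e, he, rfl⟩ y - ⟨k, hk, hy⟩
      obtain ⟨n, hn⟩ : ∃ n : ℕ, (peN e.1)⁻¹ = peN e.1 ^ n :=
        ⟨orderOf (peN e.1) - 1, inv_eq_of_mul_eq_one_right (by
          rw [← pow_succ', Nat.sub_add_cancel (orderOf_pos (peN e.1)), pow_orderOf_eq_one])⟩
      rw [hn]
      clear hn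
      induction n with
      | zero => exact ⟨k, hk, by rwa [pow_zero, one_mul]⟩
      | succ n ih =>
        obtain ⟨l, hl, hle⟩ := ih
        obtain ⟨j, hj, rfl⟩ := List.getElem_of_mem he
        have h := List.all_eq_true.mp (List.all_eq_true.mp sEls_ok.2.2.2.2 j (List.mem_range.mpr (sEls_ok.2.1 ▸ hj))) l
          (List.mem_range.mpr hl)
        simp only [Bool.and_eq_true, Nat.blt_eq] at h
        rw [List.getD_eq_getElem sGens _ hj] at h
        refine ⟨_, h.1, fun v => ?_⟩
        rw [mapE_congr h.2, pow_succ', mul_assoc]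
        exact ((sGens_isE (List.getElem_mem hj)).mul hle) v
  · rintro ⟨k, hk, hp⟩
    obtain ⟨q, hq, hqe⟩ := elS_tree (H := T0) (fun e he => ⟨_, Subgroup.subset_closure ⟨e, he, rfl⟩, sGens_isE he⟩) k hk
    rwa [← codeP_eq hp, codeP_eq hqe]

theorem T0_le {H : Subgroup (Perm V)} (hH : Rng H Sg) : T0 ≤ H := (Subgroup.closure_le _).mpr (by
  rintro _ ⟨e, he, rfl⟩
  have h := List.all_eq_true.mp sEls_ok.2.2.1 e he
  simp only [recB, Bool.and_eq_true] at h
  refine mul_mem (hH.le (Subgroup.mem_map_of_mem _ (mem_word h.1 h.2))) ?_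
  split
  · exact hH.mem
  · exact one_mem _)

theorem order_inj {a b : ℕ} (ha : a < 256) (hb : b < 256) (h : fp (elS a) = fp (elS b)) : a = b := by
  let f : Fin 256 → Fin 256 := fun k => ⟨sOrder.getD k.val 256, by
    have h := List.all_eq_true.mp sOrder_ok.2 k.val (List.mem_range.mpr k.2)
    simp only [Bool.and_eq_true, Nat.blt_eq] at h
    exact h.1⟩
  let g : Fin 256 → ℕ := fun k => fp (elS (f k).val)
  have hg : StrictMono g := Fin.strictMono_iff_lt_succ.mpr fun i => by
    have h := List.all_eq_true.mp sOrder_ok.2 i.val (List.mem_range.mpr (by have := i.2; omega))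
    simp only [Bool.and_eq_true, Bool.or_eq_true, Nat.blt_eq, Nat.ble_eq] at h
    have h2 := h.2.resolve_left (by have := i.2; omega)
    have e : ∀ k, k < 256 → sOrder.getD k 0 = sOrder.getD k 256 := fun k hk => by
      rw [List.getD_eq_getElem _ _ (sOrder_ok.1.symm ▸ hk), List.getD_eq_getElem _ _ (sOrder_ok.1.symm ▸ hk)]
    rw [e _ (by have := i.2; omega), e _ (by have := i.2; omega)] at h2
    exact h2
  have hf : Function.Injective f := fun i j hij => hg.injective (by show fp _ = fp _; rw [hij])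
  obtain ⟨i, hi⟩ := (Finite.injective_iff_surjective.mp hf) ⟨a, ha⟩
  obtain ⟨j, hj⟩ := (Finite.injective_iff_surjective.mp hf) ⟨b, hb⟩
  have hij : i = j := hg.injective (by show fp _ = fp _; rw [hi, hj]; exact h)
  rw [hij, hj] at hi
  exact (congrArg Fin.val hi).symm

theorem card_T0 : Nat.card T0 = 256 := by
  let f : Fin 256 → T0 := fun k => ⟨codeP (elS k.val), mem_T0.mpr ⟨k.val, k.2, elS_isE k.val k.2⟩⟩
  have hf : Function.Bijective f := by
    refine ⟨fun a b h => Fin.ext (order_inj a.2 b.2 ?_), fun p => ?_⟩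
    · have h1 : codeP (elS a.val) = codeP (elS b.val) := congrArg Subtype.val h
      exact fp_congr (elS_isE a.val a.2) (h1 ▸ elS_isE b.val b.2)
    · obtain ⟨k, hk, hp⟩ := mem_T0.mp p.2
      exact ⟨⟨k, hk⟩, Subtype.ext (codeP_eq hp)⟩
  rw [← Nat.card_congr (Equiv.ofBijective f hf), Nat.card_fin]

/-- A listed involution. -/
noncomputable def invP (i : ℕ) : Perm V := codeP (invE i)

theorem invs_lt {i : ℕ} (hi : i < 71) : invs.getD i 0 < 256 ∧ invs.getD i 0 ≠ 0 := by
  have h := List.all_eq_true.mp invs_ok.2.1 (invs.getD i 0) (by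
    rw [List.getD_eq_getElem _ _ (invs_ok.1.symm ▸ hi)]; exact List.getElem_mem _)
  simp only [Bool.and_eq_true, Nat.blt_eq, Bool.not_eq_true', ← Bool.not_eq_true, Nat.beq_eq] at h
  exact h

theorem invP_isE {i : ℕ} (hi : i < 71) : IsE (invP i) (invE i) := elS_isE _ (invs_lt hi).1

theorem invP_mem {i : ℕ} (hi : i < 71) : invP i ∈ T0 := mem_T0.mpr ⟨_, (invs_lt hi).1, invP_isE hi⟩

theorem elS_zero : IsE 1 (elS 0) := fun v => by
  have h := List.all_eq_true.mp sEls_ok.2.2.2.1 0 (List.mem_range.mpr (by norm_num))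
  simp only [Bool.or_eq_true, Bool.and_eq_true, Nat.blt_eq, Nat.not_lt_zero, false_and, or_false] at h
  rw [mapE_congr h.2, isE_one]

theorem invP_ne {i : ℕ} (hi : i < 71) : invP i ≠ 1 := fun e =>
  (invs_lt hi).2 (order_inj (invs_lt hi).1 (by norm_num) (fp_congr (e ▸ invP_isE hi) elS_zero))

theorem inv_listed {p : Perm V} (hp : p ∈ T0) (h2 : p * p = 1) : p = 1 ∨ ∃ i, i < 71 ∧ p = invP i := by
  obtain ⟨k, hk, hpe⟩ := mem_T0.mp hp
  have h := List.all_eq_true.mp invs_ok.2.2 k (List.mem_range.mpr hk)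
  simp only [Bool.or_eq_true] at h
  rcases h with (h | h) | h
  · rw [Nat.eq_of_beq_eq_true h] at hpe
    exact Or.inl (Equiv.ext fun v => (hpe v).trans (elS_zero v).symm)
  · obtain ⟨a, ha, hka⟩ := List.any_eq_true.mp h
    obtain ⟨i, hi, rfl⟩ := List.getElem_of_mem ha
    refine Or.inr ⟨i, invs_ok.1 ▸ hi, ?_⟩
    rw [Nat.eq_of_beq_eq_true hka] at hpe
    rw [invP, invE, List.getD_eq_getElem _ _ hi]
    exact (codeP_eq hpe).symm
  · exfalso
    have e1 : IsE (p * p) oneE := h2 ▸ isE_one
    rw [fp_congr (hpe.mul hpe) e1] at h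
    simp at h

theorem invRow {a : ℕ} (ha : a < 71) : invRowB a = true := by
  rcases (by omega : a < 18 ∨ (18 ≤ a ∧ a < 36) ∨ (36 ≤ a ∧ a < 54) ∨ (54 ≤ a ∧ a < 71)) with h | h | h | h
  · exact List.all_eq_true.mp invMul_okA a (List.mem_range'_1.mpr ⟨Nat.zero_le a, by omega⟩)
  · exact List.all_eq_true.mp invMul_okB a (List.mem_range'_1.mpr ⟨h.1, by omega⟩)
  · exact List.all_eq_true.mp invMul_okC a (List.mem_range'_1.mpr ⟨h.1, by omega⟩)
  · exact List.all_eq_true.mp invMul_okD a (List.mem_range'_1.mpr ⟨h.1, by omega⟩)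

theorem invP_mul {a b : ℕ} (ha : a < 71) (hb : b < 71) (hne : a ≠ b) :
    (mulI a b = 127 → invP a * invP b ≠ invP b * invP a) ∧
      (mulI a b ≠ 127 → mulI a b < 71 ∧ invP a * invP b = invP (mulI a b)) := by
  have h := List.all_eq_true.mp (invRow ha) b (List.mem_range.mpr hb)
  simp only [Bool.or_eq_true, Nat.beq_eq, hne, false_or] at h
  refine ⟨fun e he => ?_, fun e => ?_⟩
  · rw [if_pos e, Bool.not_eq_true'] at h
    have hm : mapE (mulE (invE a) (invE b)) = mapE (mulE (invE b) (invE a)) := funext fun v => by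
      rw [← (invP_isE ha).mul (invP_isE hb) v, ← (invP_isE hb).mul (invP_isE ha) v, he]
    rw [beqM_of_map (Bool.xor_comm _ _) hm] at h
    exact Bool.noConfusion h
  · rw [if_neg e] at h
    simp only [Bool.and_eq_true, Nat.blt_eq] at h
    refine ⟨h.1, ((invP_isE ha).mul (invP_isE hb)).eq (invP_isE h.1) h.2⟩

/-- The listed involutions inside a subgroup. -/
def Idx (E : Subgroup (Perm V)) (i : ℕ) : Prop := i < 71 ∧ invP i ∈ E

theorem idx_mul {E : Subgroup (Perm V)} (hE : ∀ p ∈ E, ∀ q ∈ E, p * q = q * p) {a b : ℕ} (ha : Idx E a) (hb : Idx E b)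
    (hne : a ≠ b) : mulI a b ≠ 127 ∧ Idx E (mulI a b) := by
  obtain ⟨h1, h2⟩ := invP_mul ha.1 hb.1 hne
  have h127 : mulI a b ≠ 127 := fun e => h1 e (hE _ ha.2 _ hb.2)
  exact ⟨h127, (h2 h127).1, (h2 h127).2 ▸ mul_mem ha.2 hb.2⟩

/-- A list none of whose members lies in the span of the later ones. -/
def Indep : List ℕ → Prop
  | [] => True
  | x :: l => x ∉ spanI l ∧ Indep l

theorem spanI_idx {E : Subgroup (Perm V)} (hE : ∀ p ∈ E, ∀ q ∈ E, p * q = q * p) :
    ∀ {l : List ℕ}, Indep l → (∀ x ∈ l, Idx E x) → ∀ y ∈ spanI l, Idx E y := by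
  intro l
  induction l with
  | nil => intro _ _ y hy; simp [spanI] at hy
  | cons x l ih =>
    intro hi hl y hy
    obtain ⟨hx, hi⟩ := hi
    have hs := ih hi fun a ha => hl a (List.mem_cons_of_mem _ ha)
    simp only [spanI, List.cons_append, List.mem_cons, List.mem_append, List.mem_map] at hy
    rcases hy with rfl | hy | ⟨a, ha, rfl⟩
    · exact hl _ (List.mem_cons_self ..)
    · exact hs y hy
    · exact (idx_mul hE (hl _ (List.mem_cons_self ..)) (hs a ha) fun e => hx (e ▸ ha)).2

theorem spanI_length : ∀ l : List ℕ, (spanI l).length = 2 ^ l.length - 1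
  | [] => rfl
  | x :: l => by
    have h1 : 1 ≤ 2 ^ l.length := Nat.one_le_two_pow
    simp only [spanI, List.length_cons, List.length_append, List.length_map, spanI_length l, pow_succ]
    omega

theorem mem_spanI : ∀ {l : List ℕ} {x : ℕ}, x ∈ l → x ∈ spanI l
  | y :: l, x, h => by
    simp only [spanI, List.cons_append, List.mem_cons, List.mem_append]
    rcases List.mem_cons.mp h with h | h
    · exact Or.inl h
    · exact Or.inr (Or.inl (mem_spanI h))

theorem indep_of_all : ∀ {g : List ℕ},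
    (∀ j < g.length, (spanI (g.drop (j + 1))).any (Nat.beq (g.getD j 0)) = false) → Indep g
  | [], _ => trivial
  | x :: l, h => by
    refine ⟨fun hx => ?_, indep_of_all fun j hj => ?_⟩
    · have h0 := h 0 (by simp)
      simp only [List.drop_succ_cons, List.drop_zero, List.getD_cons_zero, List.any_eq_false] at h0
      exact h0 x hx (Nat.beq_eq.mpr rfl)
    · have := h (j + 1) (by simpa using hj)
      simpa using this

theorem listed_indep {g : List ℕ} (hg : g ∈ pairsL ++ triL) : Indep g ∧ g.length ≤ 3 := by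
  have h := List.all_eq_true.mp indep_all g hg
  simp only [Bool.and_eq_true, List.all_eq_true, List.mem_range, Bool.not_eq_true', Nat.ble_eq] at h
  exact ⟨indep_of_all h.2, h.1⟩

/-- One step of the extensions. -/
theorem step {E : Subgroup (Perm V)} (hE : ∀ p ∈ E, ∀ q ∈ E, p * q = q * p) {src dst : List (List ℕ)} {rows : List ℕ}
    (hs : stepB src dst rows = true) (hbig : ∀ l : List ℕ, l.length ≤ 7 → ∃ c, Idx E c ∧ c ∉ l) {g : List ℕ}
    (hg : g ∈ src) (hi : Indep g) (hlen : g.length ≤ 3) (hgI : ∀ x ∈ g, Idx E x) :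
    ∃ g' ∈ dst, ∀ x ∈ g', Idx E x := by
  obtain ⟨i, hi', rfl⟩ := List.getElem_of_mem hg
  obtain ⟨c, hc, hcs⟩ := hbig (spanI src[i]) (by
    rw [spanI_length]
    have : 2 ^ src[i].length ≤ 2 ^ 3 := Nat.pow_le_pow_right (by norm_num) hlen
    omega)
  have h := List.all_eq_true.mp (List.all_eq_true.mp hs i (List.mem_range.mpr hi')) c
    (List.mem_range.mpr (invs_ok.1.symm ▸ hc.1))
  rw [List.getD_eq_getElem _ _ hi'] at h
  simp only [Bool.or_eq_true, List.any_eq_true, Bool.and_eq_true, Nat.blt_eq, List.all_eq_true] at h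
  rcases h with (⟨x, hx, he⟩ | ⟨y, hy, he⟩) | ⟨hl, hall⟩
  · exact absurd (Nat.eq_of_beq_eq_true he)
      (idx_mul hE (hgI x hx) hc fun e => hcs (e ▸ mem_spanI hx)).1
  · exact absurd ((Nat.eq_of_beq_eq_true he).symm ▸ hy) hcs
  · refine ⟨dst.getD (nextI rows i c) [], ?_, fun y hy => ?_⟩
    · rw [List.getD_eq_getElem _ _ hl]; exact List.getElem_mem _
    · obtain ⟨w, hw, hwy⟩ := hall y hy
      rw [Nat.eq_of_beq_eq_true hwy]
      exact spanI_idx hE (l := c :: src[i]) ⟨hcs, hi⟩
        (fun a ha => (List.mem_cons.mp ha).elim (fun e => e ▸ hc) (hgI a)) w hw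

theorem addN_lt (a b : ℕ) : addN a b < 4096 := by rw [addN, ← cdV_rowV]; exact cdV_lt _

theorem foldl_eq_of {α β : Type*} (f g : β → α → β) :
    ∀ (l : List α), (∀ a ∈ l, ∀ s, f s a = g s a) → ∀ s, l.foldl f s = l.foldl g s
  | [], _, _ => rfl
  | a :: l, h, s => by
    rw [List.foldl_cons, List.foldl_cons, h a (List.mem_cons_self ..),
      foldl_eq_of f g l (fun b hb => h b (List.mem_cons_of_mem _ hb))]

attribute [local irreducible] addN img invE

/-- Common fixed vectors are found by the halves. -/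
theorem fixed_mem {q : List ℕ} (hq : ∀ x ∈ q, x < 71) {v : V} (hv : ∀ x ∈ q, invP x v = v) : cdV v ∈ fixL q := by
  set n := cdV v with hn
  have hlt : n < 4096 := cdV_lt v
  have hsplit := Nat.eq_of_beq_eq_true (List.all_eq_true.mp halves_ok n (List.mem_range.mpr hlt))
  have hx : ∀ x ∈ q, addN (img (invE x) (n % 64)) (n % 64) = addN (img (invE x) (64 * (n / 64))) (64 * (n / 64)) := by
    intro x hx
    refine vecN_inj (addN_lt _ _) (addN_lt _ _) ?_
    have hp := invP_isE (hq x hx)
    rw [← vecN_add, ← vecN_add, ← hp.apply_vecN, ← hp.apply_vecN]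
    have h := hv x hx
    rw [← vecN_cdV v, ← hn, ← hsplit, ← vecN_add, hp.map_add] at h
    generalize invP x (vecN (n % 64)) = a at h ⊢
    generalize invP x (vecN (64 * (n / 64))) = b at h ⊢
    generalize vecN (n % 64) = c at h ⊢
    generalize vecN (64 * (n / 64)) = d at h ⊢
    have key : ∀ a b c d : K, a + b = c + d → a + c = b + d := by decide
    exact funext fun i => key _ _ _ _ (congrFun h i)
  simp only [fixL, halves, List.mem_flatMap, List.mem_map, List.mem_filter, List.mem_range]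
  refine ⟨n / 64, by omega, n % 64, ⟨by omega, ?_⟩, by omega⟩
  rw [List.getD_eq_getElem _ _ (by simp; omega), List.getD_eq_getElem _ _ (by simp; omega), List.getElem_map,
    List.getElem_map, List.getElem_range, List.getElem_range, Nat.beq_eq]
  simp only [cond_false, cond_true]
  exact foldl_eq_of _ _ q (fun a ha s => by rw [hx a ha]) 0

/-- The common fixed vectors of a listed involution list. -/
theorem ncard_fixed {q : List ℕ} (hq : ∀ x ∈ q, x < 71) {S : Set V} (hS : ∀ v ∈ S, ∀ x ∈ q, invP x v = v) :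
    S.ncard ≤ (fixL q).length := by
  refine le_trans ?_ (List.toFinset_card_le (fixL q))
  rw [← Set.ncard_coe_finset]
  refine Set.ncard_le_ncard_of_injOn cdV (fun v hv => ?_) (fun a _ b _ h => cdV_inj h) (Finset.finite_toSet _)
  simpa using fixed_mem hq (hS v hv)

/-- The special subgroup of order sixteen, as a set. -/
def A0S : Set (Perm V) := {p | p = 1 ∨ ∃ i ∈ aList, p = invP i}

theorem mask_list {i : ℕ} (h : aMask.testBit i = true) : i ∈ aList := by
  have h2 := aList_ok.2.1
  simp only [maskOK, Bool.and_eq_true] at h2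
  rwa [← Nat.eq_of_beq_eq_true h2.1, testBit_maskOf] at h

/-- An elementary subgroup of the Sylow subgroup: the bound on its order, and large ones. -/
theorem elementary_cases {E : Subgroup (Perm V)} (hle : E ≤ T0) (hE : ∀ p ∈ E, ∀ q ∈ E, p * q = q * p)
    (h2 : ∀ p ∈ E, p * p = 1) :
    Nat.card E ≤ 64 ∧ (16 ≤ Nat.card E → (↑E : Set (Perm V)) ⊆ A0S ∨
      {v : V | ∀ p ∈ E, p v = v}.ncard ≤ 8) := by
  classical
  haveI : Fact (Nat.Prime 2) := ⟨Nat.prime_two⟩
  have hidx : ∀ p : E, (p : Perm V) ≠ 1 → ∃ i, Idx E i ∧ (p : Perm V) = invP i := fun p hp => by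
    obtain ⟨i, hi, e⟩ := (inv_listed (hle p.2) (h2 _ p.2)).resolve_left hp
    exact ⟨i, ⟨hi, e ▸ p.2⟩, e⟩
  choose ix hix hixe using hidx
  let f : E → Option (Fin 71) := fun p => if hp : (p : Perm V) = 1 then none else some ⟨ix p hp, (hix p hp).1⟩
  have hf : Function.Injective f := fun p q h => by
    simp only [f] at h
    split at h <;> split at h
    · rename_i a b; exact Subtype.ext (a.trans b.symm)
    · exact absurd h (by simp)
    · exact absurd h (by simp)
    · rename_i a b
      simp only [Option.some.injEq, Fin.mk.injEq] at h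
      exact Subtype.ext ((hixe p a).trans ((congrArg invP h).trans (hixe q b).symm))
  have h72 := Nat.card_le_card_of_injective f hf
  rw [Nat.card_eq_fintype_card (α := Option (Fin 71)), Fintype.card_option, Fintype.card_fin] at h72
  obtain ⟨k, hk⟩ := IsPGroup.iff_card.mp (fun p : E => ⟨1, Subtype.ext (by
    rw [pow_one, Subgroup.coe_pow, pow_two]; exact h2 _ p.2)⟩ : IsPGroup 2 E)
  refine ⟨?_, fun h16 => ?_⟩
  · rw [hk] at h72 ⊢
    have h7 : k < 7 := by
      by_contra hk7
      have := Nat.pow_le_pow_right (show 1 ≤ 2 by norm_num) (not_lt.mp hk7)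
      omega
    exact Nat.pow_le_pow_right (by norm_num) (show k ≤ 6 by omega)
  by_cases hA : (↑E : Set (Perm V)) ⊆ A0S
  · exact Or.inl hA
  refine Or.inr ?_
  have hbig : ∀ l : List ℕ, l.length ≤ 7 → ∃ c, Idx E c ∧ c ∉ l := fun l hl => by
    by_contra hc
    push Not at hc
    let S : Finset (Option ℕ) := insert none (l.toFinset.image some)
    let g : E → S := fun p => ⟨(f p).map Fin.val, by
      simp only [f]
      split
      · simp [S]
      · simp only [Option.map_some, S, Finset.mem_insert, reduceCtorEq, false_or, Finset.mem_image, List.mem_toFinset,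
          Option.some.injEq, exists_eq_right]
        exact hc _ (hix p ‹_›)⟩
    have hg : Function.Injective g := fun p q h => hf (Option.map_injective Fin.val_injective (congrArg Subtype.val h))
    have hS : S.card ≤ 8 := (Finset.card_insert_le _ _).trans
      (Nat.succ_le_succ ((Finset.card_image_le).trans ((List.toFinset_card_le l).trans hl)))
    have := Nat.card_le_card_of_injective g hg
    rw [Nat.card_eq_finsetCard] at this
    omega
  obtain ⟨p, hp, hpA⟩ := Set.not_subset.mp hA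
  have hp1 : p ≠ 1 := fun e => hpA (Or.inl e)
  set a := ix ⟨p, hp⟩ hp1
  have ha := hix ⟨p, hp⟩ hp1
  have hao : a ∈ outA := by
    have h := List.all_eq_true.mp outA_ok.1 a (List.mem_range.mpr ha.1)
    rw [Bool.or_eq_true] at h
    rcases h with h | h
    · exact absurd (Or.inr ⟨a, mask_list h, hixe ⟨p, hp⟩ hp1⟩) hpA
    · obtain ⟨b, hb, e⟩ := List.any_eq_true.mp h
      exact (Nat.eq_of_beq_eq_true e).symm ▸ hb
  obtain ⟨g2, hg2, hI2⟩ := step hE pairs_ok hbig (g := [a]) (List.mem_map.mpr ⟨a, hao, rfl⟩)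
    ⟨by simp [spanI], trivial⟩ (by simp) (fun x hx => by rw [List.mem_singleton.mp hx]; exact ha)
  obtain ⟨g3, hg3, hI3⟩ := step hE triples_ok hbig hg2 (listed_indep (List.mem_append_left _ hg2)).1
    (listed_indep (List.mem_append_left _ hg2)).2 hI2
  obtain ⟨g4, hg4, hI4⟩ := step hE quadsNext_ok hbig hg3 (listed_indep (List.mem_append_right _ hg3)).1
    (listed_indep (List.mem_append_right _ hg3)).2 hI3
  obtain ⟨e, he, rfl⟩ := List.mem_map.mp hg4
  have hq := List.all_eq_true.mp quads_ok.1 e he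
  simp only [Bool.and_eq_true, List.all_eq_true, Nat.blt_eq, Nat.ble_eq] at hq
  exact (ncard_fixed (S := {v : V | ∀ p ∈ E, p v = v}) (fun x hx => (hI4 x hx).1) fun v hv x hx => hv _ (hI4 x hx).2).trans hq.2

end CfsgLib.Fi24Q
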