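/-
Checks of the twenty-seven sets, of the reflections, and of the orbit of odd length.
-/
import Cfsg.Agent.Lib.Fi24Q.Defs
import Cfsg.Agent.Lib.H1Small.Cases

set_option autoImplicit false
set_option maxRecDepth 30000
set_option maxHeartbeats 4000000

namespace CfsgLib.Fi24Q

open CfsgLib.G24 CfsgLib.SUSixSub

theorem lines_ok : lineL.length = 27 ∧ lineM.length = 27 ∧ lineC.length = 27 ∧
    ((List.range 27).all fun i => maskOK (lineL.getD i []) (lineM.getD i 0) && !(lineL.getD i []).isEmpty &&
      (List.range i).all fun j => ((lineL.getD i []).any fun x => !(lineM.getD j 0).testBit x) &&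
        ((lineL.getD j []).any fun x => !(lineM.getD i 0).testBit x)) = true ∧
    ((List.range 27).all fun i => Nat.blt (lineC.getD i 0) 64 &&
      (List.range i).all fun j => !Nat.beq (lineC.getD i 0) (lineC.getD j 0)) = true ∧
    ((List.range 6).all fun k => (List.range 27).any fun i => (List.range 27).any fun j =>
      Nat.beq (lineC.getD i 0) (2 ^ k) || Nat.beq (Nat.xor (lineC.getD i 0) (lineC.getD j 0)) (2 ^ k)) = true := by
  decide +kernel

theorem refl_cover : ((List.range 64).all fun v => !(CfsgLib.H1Small.D6.valid v) ||
    (List.range 36).any fun k => Nat.beq (refl.getD k (0, (0, false), [])).1 v) = true ∧ refl.length = 36 := by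
  decide +kernel

theorem refl_ok : ((List.range 36).all fun k =>
    let e := refl.getD k (0, (0, false), [])
    recB e.2 && Nat.beq (img (recE e.2.1) tN) tN && setsB (recE e.2.1) lineL lineM (reflPerm.getD k []) &&
      (List.range 27).all fun i => Nat.beq (lineC.getD ((reflPerm.getD k []).getD i 0) 0)
        (CfsgLib.H1Small.D6.rn e.1 (lineC.getD i 0))) = true := by
  decide +kernel

theorem tGens_ok : wordsB gensA tGens tWords = true ∧ tGens.length = 2 ∧
    (tGens.all fun g => Nat.beq (img (eN g false) tN) tN) = true := by
  decide +kernel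

theorem orbC_ok : treeB tGens orbC (orbC.getD 0 (0, 0, 0)).1 = true ∧ orbC.length = 135 ∧
    maskOK (orbC.map fun e => e.1) maskC = true ∧
    ((List.range 135).all fun i => (List.range i).all fun j =>
      !Nat.beq (orbC.getD i (0, 0, 0)).1 (orbC.getD j (0, 0, 0)).1) = true ∧
    ((List.range 4096).all fun n => maskC.testBit n ==
      (maskA.testBit n && beqK (hN n tN) .o && maskB.testBit (addN n tN))) = true := by
  decide +kernel

theorem basisC_ok : basisC.length = 6 ∧
    ((List.range 5).all fun i => maskC.testBit (basisC.getD i 0)) = true ∧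
    beqM (mulM (ofN basisCInv) (ofF fun i k => rowV (rowN (basisC.getD k.val 0)) i)) oneM = true ∧
    Nat.ble ((List.range 4096).filter fun n => (List.range 5).all fun i =>
      beqK (hN n (basisC.getD i 0)) (hN (basisC.getD 5 0) (basisC.getD i 0))).length 4 = true := by
  decide +kernel

end CfsgLib.Fi24Q
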