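/-
Two-groups normalised by the stabiliser of a vector of the first orbit are small.
-/
import Cfsg.Agent.Lib.Fi24Q.Orbits
import Cfsg.Agent.Lib.Fi24Q.ChecksB

set_option autoImplicit false
set_option maxRecDepth 30000
set_option linter.style.haveILetI false

namespace CfsgLib.Fi24Q

open Matrix CfsgLib.G24 CfsgLib.SUSixSub Equiv

attribute [local irreducible] orbA orbB orbC maskA maskB maskC gensA tGens basisC basisCInv

theorem t_gen_mem (j : ℕ) (hj : j < tGens.length) :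
    lin (elN (tGens.getD j 0)) ∈ KL ∧ lin (elN (tGens.getD j 0)) t0 = t0 := by
  obtain ⟨hn, hw⟩ := wordsB_spec tGens_ok.1 hj
  refine ⟨Subgroup.mem_map_of_mem _ (mem_word hn hw), ?_⟩
  have h := List.all_eq_true.mp tGens_ok.2.2 _ (List.getElem_mem hj)
  rw [← List.getD_eq_getElem tGens 0 hj] at h
  rw [t0, (isE_elN hn).apply_vecN, Nat.eq_of_beq_eq_true h]

/-- Membership in the small orbit. -/
theorem mem_C (v : V) : v ∈ inM maskC ↔ v ∈ inM maskA ∧ hV v t0 = 0 ∧ v + t0 ∈ inM maskB := by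
  have h := List.all_eq_true.mp orbC_ok.2.2.2.2 (cdV v) (List.mem_range.mpr (cdV_lt v))
  rw [beq_iff_eq] at h
  have e1 : v + t0 = vecN (addN (cdV v) tN) := by rw [← vecN_add, vecN_cdV]; rfl
  have e2 : hN (cdV v) tN = hV v t0 := by rw [hN_eq, vecN_cdV]; rfl
  have e3 : cdV (v + t0) = addN (cdV v) tN := by
    rw [e1]
    refine cdV_vecN ?_
    rw [addN, ← cdV_rowV]
    exact cdV_lt _
  rw [mem_inM, mem_inM, mem_inM, h, e2, e3, Bool.and_eq_true, Bool.and_eq_true, beqK_iff, and_assoc]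
  rfl

theorem KL_C {g : Perm V} (hg : g ∈ KL) (ht : g t0 = t0) {v : V} (hv : v ∈ inM maskC) : g v ∈ inM maskC := by
  obtain ⟨hA, h0, hB⟩ := (mem_C v).mp hv
  obtain ⟨k, hk, rfl⟩ := hg
  refine (mem_C _).mpr ⟨KL_A ⟨k, hk, rfl⟩ v hA, ?_, ?_⟩
  · rw [← ht, hV_lin, h0]
  · have e : lin k v + t0 = lin k (v + t0) := by
      conv_lhs => rw [← ht]
      simp only [lin_apply, Matrix.mulVec_add]
    rw [e]
    obtain ⟨h1, h2⟩ := (sing_iff (v + t0)).mp (Or.inr hB)
    refine ((sing_iff _).mpr ⟨fun z => h1 ((lin k).injective (z.trans (lin_zero k).symm)), ?_⟩).resolve_left fun hA' => ?_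
    · rw [hV_lin, h2]
    · refine not_both (v + t0) ⟨?_, hB⟩
      have := KL_A (inv_mem (show lin k ∈ KL from ⟨k, hk, rfl⟩)) _ hA'
      rwa [Perm.inv_def, Equiv.symm_apply_apply] at this

theorem ncard_C : (inM maskC).ncard = 135 := by rw [ncard_inM, Nat.eq_of_beq_eq_true counts_ok.2.2]

/-- A two-group normalised by a transitive group fixes a set of odd size. -/
theorem fix_of_odd {α : Type*} {S : Set α} (hS : S.Finite) (hodd : Odd S.ncard) {N L : Subgroup (Perm α)}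
    [Finite ↥N] (hN : IsPGroup 2 ↥N) (hNS : ∀ n ∈ N, ∀ v ∈ S, n v ∈ S)
    (hnorm : ∀ g ∈ L, ∀ n ∈ N, g * n * g⁻¹ ∈ N)
    (htr : ∀ v ∈ S, ∀ w ∈ S, ∃ g ∈ L, g v = w) {n : Perm α} (hn : n ∈ N) {v : α} (hv : v ∈ S) : n v = v := by
  haveI : Fact (Nat.Prime 2) := ⟨Nat.prime_two⟩
  haveI : Finite S := hS.to_subtype
  letI : MulAction ↥N ↥S :=
    { smul := fun p x => ⟨p.1 x.1, hNS _ p.2 _ x.2⟩
      one_smul := fun _ => Subtype.ext rfl
      mul_smul := fun _ _ _ => Subtype.ext rfl }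
  have h := hN.card_modEq_card_fixedPoints ↥S
  rw [Nat.card_coe_set_eq] at h
  obtain ⟨w, hw⟩ : (MulAction.fixedPoints ↥N ↥S).Nonempty := by
    by_contra he
    rw [Set.not_nonempty_iff_eq_empty] at he
    rw [he] at h
    rw [Nat.card_eq_zero.mpr (Or.inl inferInstance)] at h
    exact Nat.not_even_iff_odd.mpr hodd (Nat.even_iff.mpr h)
  obtain ⟨g, hg, rfl⟩ := htr w.1 w.2 v hv
  have hc : g⁻¹ * n * g⁻¹⁻¹ ∈ N := by
    rw [inv_inv]
    have : g⁻¹ ∈ L := inv_mem hg
    simpa using hnorm _ this n hn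
  have h2 := congrArg Subtype.val (hw ⟨_, hc⟩)
  have h3 : (g⁻¹ * n * g⁻¹⁻¹) w.1 = w.1 := h2
  rw [inv_inv, Perm.mul_apply, Perm.mul_apply, Perm.inv_def, Equiv.symm_apply_eq] at h3
  exact h3

/-- The last vector of the basis. -/
def wC : V := vecN (basisC.getD 5 0)

/-- The matrix of the basis. -/
def basisCM : Matrix (Fin 6) (Fin 6) K := fun i k => vecN (basisC.getD k.val 0) i

theorem basisCM_inv : basisCM * mat6 (ofN basisCInv) = 1 := by
  refine mul_eq_one_comm.mp ?_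
  rw [← mat6_one, ← of_beqM basisC_ok.2.2.1, mat6_mul]
  congr 1
  ext i k
  rw [mat6_ofF]
  rfl

/-- The linear part of such a group has order at most four. -/
theorem card_two_le {N : Subgroup (Perm V)} (hN : IsPGroup 2 ↥N) (hle : N ≤ stV KL t0)
    (hnorm : ∀ g ∈ stV KL t0, ∀ n ∈ N, g * n * g⁻¹ ∈ N) : Nat.card N ≤ 4 := by
  classical
  set L := Subgroup.closure {g : Perm V | ∃ j < tGens.length, g = lin (elN (tGens.getD j 0))}
  have hLst : L ≤ stV KL t0 := (Subgroup.closure_le _).mpr (by rintro _ ⟨j, hj, rfl⟩; exact t_gen_mem j hj)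
  have hLgen : ∀ j < tGens.length, lin (elN (tGens.getD j 0)) ∈ L := fun j hj => Subgroup.subset_closure ⟨j, hj, rfl⟩
  have hreach : ∀ v ∈ inM maskC, ∃ g ∈ L, g (vecN (orbC.getD 0 (0, 0, 0)).1) = v := fun v hv => by
    obtain ⟨g, hg, e⟩ := tree_reach orbC_ok.1 (fun j hj => (wordsB_spec tGens_ok.1 hj).1) hLgen
      ((mem_of_maskOK orbC_ok.2.2.1).mp hv)
    exact ⟨g, hg, by rw [← vecN_cdV v]; exact e⟩
  have hfix : ∀ n ∈ N, ∀ v ∈ inM maskC, n v = v := fun n hn v hv => by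
    refine fix_of_odd (Set.toFinite _) (by rw [ncard_C]; decide) hN
      (fun p hp w hw => KL_C (hle hp).1 (hle hp).2 hw) (fun g hg => hnorm g (hLst hg)) (fun a ha b hb => ?_) hn hv
    obtain ⟨g, hg, e⟩ := hreach a ha
    obtain ⟨g', hg', e'⟩ := hreach b hb
    exact ⟨g' * g⁻¹, mul_mem hg' (inv_mem hg), by rw [Perm.mul_apply, ← e, Perm.inv_def, Equiv.symm_apply_apply, e']⟩
  set S : Finset ℕ := ((List.range 4096).filter fun n => (List.range 5).all fun i =>
    beqK (CfsgLib.Fi24Q.hN n (basisC.getD i 0)) (CfsgLib.Fi24Q.hN (basisC.getD 5 0) (basisC.getD i 0))).toFinset with hS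
  have hScard : S.card ≤ 4 := (List.toFinset_card_le _).trans (Nat.le_of_ble_eq_true basisC_ok.2.2.2)
  have hb5 : ∀ i < 5, vecN (basisC.getD i 0) ∈ inM maskC := fun i hi => by
    have h : maskC.testBit (basisC.getD i 0) = true := List.all_eq_true.mp basisC_ok.2.1 i (List.mem_range.mpr hi)
    obtain ⟨h1, h2⟩ := (Bool.and_eq_true _ _).mp orbC_ok.2.2.1
    have h3 := h
    rw [← Nat.eq_of_beq_eq_true h1, testBit_maskOf] at h3
    have hlt := List.all_eq_true.mp h2 _ h3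
    rw [Nat.blt_eq] at hlt
    rw [mem_inM, cdV_vecN hlt]
    exact h
  have himg : ∀ n : N, cdV (n.1 wC) ∈ S := fun n => by
    obtain ⟨k, -, hk⟩ := (hle n.2).1
    simp only [hS, List.mem_toFinset, List.mem_filter, List.mem_range, List.all_eq_true, beqK_iff]
    refine ⟨cdV_lt _, fun i hi => ?_⟩
    rw [hN_eq, hN_eq, vecN_cdV]
    conv_lhs => rw [← hfix n.1 n.2 _ (hb5 i hi), ← hk]
    exact hV_lin k _ _
  have hinj : Function.Injective fun n : N => (⟨cdV (n.1 wC), himg n⟩ : S) := fun a b h => by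
    have h5 : a.1 wC = b.1 wC := cdV_inj (congrArg Subtype.val h)
    obtain ⟨ka, -, ha⟩ := (hle a.2).1
    obtain ⟨kb, -, hb⟩ := (hle b.2).1
    refine Subtype.ext ?_
    rw [← ha, ← hb]
    refine congrArg lin (gm_inj ?_)
    have hcol : gm ka * basisCM = gm kb * basisCM := by
      refine Matrix.ext_of_mulVec_single fun j => ?_
      rw [← mulVec_mulVec, ← mulVec_mulVec]
      have e : basisCM *ᵥ Pi.single j 1 = vecN (basisC.getD j.val 0) := by
        funext i
        rw [Matrix.mulVec_single_one]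
        rfl
      rw [e, ← lin_apply, ← lin_apply, ha, hb]
      rcases Nat.lt_or_ge j.val 5 with h' | h'
      · rw [hfix a.1 a.2 _ (hb5 _ h'), hfix b.1 b.2 _ (hb5 _ h')]
      · rw [show j.val = 5 by have := j.2; omega]
        exact h5
    calc gm ka = gm ka * (basisCM * mat6 (ofN basisCInv)) := by rw [basisCM_inv, mul_one]
      _ = gm kb * (basisCM * mat6 (ofN basisCInv)) := by rw [← mul_assoc, hcol, mul_assoc]
      _ = gm kb := by rw [basisCM_inv, mul_one]
  exact (Nat.card_le_card_of_injective _ hinj).trans (by rw [Nat.card_eq_finsetCard]; exact hScard)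

end CfsgLib.Fi24Q
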