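/-
Checks of the permutations of the six sets.
-/
import Cfsg.Agent.Lib.Fi24Q.Defs
import Cfsg.Agent.Lib.Fi24Q.DataWit

set_option autoImplicit false
set_option maxRecDepth 30000
set_option maxHeartbeats 4000000

namespace CfsgLib.Fi24Q

open CfsgLib.G24 CfsgLib.SUSixSub

theorem sixImg_ok : sixImg.length = 360 ∧ ((List.range 360).all fun k =>
    let e := sixImg.getD k ([], 0, 0)
    Nat.beq (sixPos.getD (e.1.getD 0 0 + 6 * e.1.getD 1 0 + 36 * e.1.getD 2 0 + 216 * e.1.getD 3 0) 360) k &&
    Nat.beq e.1.length 6 && ((Nat.beq k 0 && (List.range 6).all fun i => Nat.beq (e.1.getD i 0) i) ||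
      (Nat.blt e.2.1 k && Nat.blt e.2.2 2 && (List.range 6).all fun i =>
        Nat.beq (e.1.getD i 0) ((xPerm.getD e.2.2 []).getD ((sixImg.getD e.2.1 ([], 0, 0)).1.getD i 0) 0)))) = true ∧
    ((List.range 360).all fun k => (List.range 2).all fun j =>
      let p := fun i => (xPerm.getD j []).getD ((sixImg.getD k ([], 0, 0)).1.getD i 0) 0
      let l := sixPos.getD (p 0 + 6 * p 1 + 36 * p 2 + 216 * p 3) 360
      Nat.blt l 360 && (List.range 6).all fun i => Nat.beq ((sixImg.getD l ([], 0, 0)).1.getD i 0) (p i)) = true := by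
  decide +kernel

theorem twist_ok : ((List.range 2).all fun j =>
      setsB (mulE (ofN tauN, false) (mulE (eN (xGens.getD j 0) false) (ofN tauN, false))) sixL sixM (twTau.getD j [])) = true ∧
    ((List.range 2).all fun j =>
      setsB (mulE (ofN tauN, true) (mulE (eN (xGens.getD j 0) false) (ofN tauN, true))) sixL sixM (twSig.getD j [])) = true ∧
    Nat.beq (img (ofN tauN, false) uN) uN = true ∧ Nat.beq (img (ofN tauN, true) uN) uN = true ∧
    Nat.beq (img (oneM, true) uN) uN = true ∧
    ((List.range 360).all fun k => ([twTau, twSig].all fun tw =>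
      let p := (sixImg.getD k ([], 0, 0)).1
      !((List.range 2).all fun j => (List.range 6).all fun i =>
        Nat.beq ((tw.getD j []).getD (p.getD i 0) 0) (p.getD ((xPerm.getD j []).getD i 0) 0)))) = true := by
  decide +kernel

/-- A listed permutation of the six sets at a place. -/
def sixAt (k i : ℕ) : ℕ := ((sixImg.getD k ([], 0, 0)).1).getD i 0

theorem sixWit_ok : ((List.range 360).all fun k => Nat.beq k 0 ||
    let e := sixWit.getD k (0, 0, 0)
    let w := fun i => sixAt k (sixAt e.2.1 i)
    Nat.blt e.1 360 && Nat.blt e.2.1 360 && (Nat.beq e.2.2 3 || Nat.beq e.2.2 5) &&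
      ((List.range 6).all fun i => Nat.beq (sixAt e.2.1 (sixAt e.1 i)) (sixAt e.1 (sixAt k i)) &&
        Nat.beq ((Nat.rec i (fun _ x => w x) e.2.2 : ℕ)) i) &&
      ((List.range 6).any fun i => !Nat.beq (w i) i)) = true := by
  decide +kernel

theorem xPerm_lt : ((List.range 2).all fun j => (List.range 6).all fun i => Nat.blt ((xPerm.getD j []).getD i 0) 6) = true ∧
    ((List.range 360).all fun k => (List.range 6).all fun i => Nat.blt (sixAt k i) 6) = true := by
  decide +kernel

end CfsgLib.Fi24Q
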