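/-
The stabiliser of a vector of the larger orbit permutes six sets; its normal two-subgroups fix them all.
-/
import Cfsg.Agent.Lib.Fi24Q.Orbits
import Cfsg.Agent.Lib.Fi24Q.ChecksG

set_option autoImplicit false
set_option maxRecDepth 30000
set_option linter.style.haveILetI false

namespace CfsgLib.Fi24Q

open Matrix CfsgLib.G24 CfsgLib.SUSixSub Equiv

attribute [local irreducible] orbA orbB maskA maskB gensA xGens xWords xPerm sixL sixM sixImg sixPos kern sixWit
  twTau twSig tauN

/-- The listed permutation. -/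
def sixP (k : ℕ) : Fin 6 → Fin 6 := fun i => ⟨sixAt k i.val % 6, Nat.mod_lt _ (by norm_num)⟩

theorem sixP_val {k : ℕ} (hk : k < 360) (i : Fin 6) : (sixP k i).val = sixAt k i.val :=
  Nat.mod_eq_of_lt (Nat.blt_eq.mp
    (List.all_eq_true.mp (List.all_eq_true.mp xPerm_lt.2 k (List.mem_range.mpr hk)) i.val (List.mem_range.mpr i.2)))

theorem six_inj : Function.Injective (secL (k := 6) sixM) := by
  have key : ∀ i j : Fin 6, j < i → secL sixM i ≠ secL sixM j := fun i j hji he => by
    have h := List.all_eq_true.mp six_ok.2.2 i.val (List.mem_range.mpr i.2)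
    simp only [Bool.and_eq_true, Bool.not_eq_true'] at h
    obtain ⟨⟨hm, hne⟩, hd⟩ := h
    obtain ⟨n, hn⟩ : ∃ n, n ∈ sixL.getD i.val [] := List.exists_mem_of_ne_nil _ fun e => by rw [e] at hne; simp at hne
    have h1 : vecN n ∈ secL sixM i := vecN_mem hm hn
    have h2 := h1
    rw [he] at h2
    have h3 := Nat.eq_of_beq_eq_true (List.all_eq_true.mp hd j.val (List.mem_range.mpr hji))
    rw [secL, mem_inM] at h1 h2
    have h3' : sixM.getD i.val 0 &&& sixM.getD j.val 0 = 0 := h3
    have h4 := congrArg (fun m => Nat.testBit m (cdV (vecN n))) h3'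
    simp only [Nat.testBit_and, Nat.zero_testBit, h1, h2, Bool.and_self] at h4
    exact Bool.noConfusion h4
  intro i j h
  rcases lt_trichotomy i j with hl | hl | hl
  · exact absurd h.symm (key j i hl)
  · exact hl
  · exact absurd h (key i j hl)

theorem six_mask (i : ℕ) (hi : i < 6) : maskOK (sixL.getD i []) (sixM.getD i 0) = true := by
  have h := List.all_eq_true.mp six_ok.2.2 i (List.mem_range.mpr hi)
  simp only [Bool.and_eq_true] at h
  exact h.1.1

theorem six_size (i : ℕ) (hi : i < 6) : countM (sixM.getD i 0) = 16 := by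
  have h := List.all_eq_true.mp six_count i (List.mem_range.mpr hi)
  simp only [Bool.and_eq_true] at h
  exact Nat.eq_of_beq_eq_true h.1

theorem acts_six {E : Elt} {p : List ℕ} {g : Perm V} (hg : IsE g E) (h : setsB E sixL sixM p = true) :
    Acts sixM g (posF (by norm_num : 0 < 6) p) :=
  (acts_of_setsB (by norm_num) hg six_ok.1 six_mask six_size h).1

/-- A listed generator. -/
noncomputable def xg (j : ℕ) : Perm V := lin (elN (xGens.getD j 0))

/-- The permutation of a listed generator. -/
def xp (j : ℕ) : Fin 6 → Fin 6 := posF (by norm_num : 0 < 6) (xPerm.getD j [])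

theorem xg_spec (j : ℕ) (hj : j < 2) : xg j ∈ stV KL u0 ∧ IsE (xg j) (eN (xGens.getD j 0) false) ∧
    Acts sixM (xg j) (xp j) := by
  have hj' : j < xGens.length := xGens_ok.2.1.symm ▸ hj
  obtain ⟨hn, hw⟩ := wordsB_spec xGens_ok.1 hj'
  refine ⟨⟨Subgroup.mem_map_of_mem _ (mem_word hn hw), ?_⟩, isE_elN hn,
    acts_six (isE_elN hn) (List.all_eq_true.mp xGens_ok.2.2.2 j (List.mem_range.mpr hj))⟩
  have h := List.all_eq_true.mp xGens_ok.2.2.1 _ (List.getElem_mem hj')
  rw [← List.getD_eq_getElem xGens 0 hj'] at h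
  show xg j u0 = u0
  rw [xg, u0, (isE_elN hn).apply_vecN, Nat.eq_of_beq_eq_true h]

/-- The group of the two generators. -/
noncomputable def XL : Subgroup (Perm V) := Subgroup.closure (Set.range fun j : Fin 2 => xg j.val)

theorem xg_mem (j : ℕ) (hj : j < 2) : xg j ∈ XL := Subgroup.subset_closure ⟨⟨j, hj⟩, rfl⟩

theorem XL_le : XL ≤ stV KL u0 := (Subgroup.closure_le _).mpr fun _ ⟨j, h⟩ => h ▸ (xg_spec j.val j.2).1

theorem exists_six (k : ℕ) (hk : k < 360) : ∃ g ∈ XL, Acts sixM g (sixP k) := by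
  induction k using Nat.strong_induction_on with
  | _ k ih =>
    have h := List.all_eq_true.mp sixImg_ok.2.1 k (List.mem_range.mpr hk)
    simp only [Bool.and_eq_true, Bool.or_eq_true, Nat.blt_eq, List.all_eq_true, List.mem_range] at h
    rcases h.2 with ⟨-, h0⟩ | ⟨⟨hp, hj⟩, h0⟩
    · refine ⟨1, one_mem _, ?_⟩
      have e : sixP k = id := funext fun i => Fin.ext (by
        rw [sixP_val hk]
        exact Nat.eq_of_beq_eq_true (h0 i.val i.2))
      rw [e]
      exact acts_one _
    · obtain ⟨g, hg, ha⟩ := ih _ hp (hp.trans hk)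
      refine ⟨_, mul_mem (xg_mem _ hj) hg, ?_⟩
      have e : sixP k = xp ((sixImg.getD k ([], 0, 0)).2.2) ∘ sixP ((sixImg.getD k ([], 0, 0)).2.1) := funext fun i => Fin.ext (by
        rw [sixP_val hk, Function.comp_apply]
        show _ = (xPerm.getD _ []).getD (sixP _ i).val 0 % 6
        rw [sixP_val (hp.trans hk), Nat.mod_eq_of_lt]
        · exact Nat.eq_of_beq_eq_true (h0 i.val i.2)
        · have hlt : sixAt (sixImg.getD k ([], 0, 0)).2.1 i.val < 6 := sixP_val (hp.trans hk) i ▸ Fin.isLt _
          exact Nat.blt_eq.mp (List.all_eq_true.mp (List.all_eq_true.mp xPerm_lt.1 _ (List.mem_range.mpr hj)) _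
            (List.mem_range.mpr hlt)))
      rw [e]
      exact (xg_spec _ hj).2.2.mul ha

theorem sixP_inj {k l : ℕ} (hk : k < 360) (hl : l < 360) (h : sixP k = sixP l) : k = l := by
  have hv : ∀ i : Fin 6, sixAt k i.val = sixAt l i.val := fun i => by
    rw [← sixP_val hk, ← sixP_val hl, h]
  have hp : ∀ m, m < 360 → sixPos.getD (sixAt m 0 + 6 * sixAt m 1 + 36 * sixAt m 2 + 216 * sixAt m 3) 360 = m :=
    fun m hm => by
      have h := List.all_eq_true.mp sixImg_ok.2.1 m (List.mem_range.mpr hm)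
      simp only [Bool.and_eq_true] at h
      exact Nat.eq_of_beq_eq_true h.1.1
  rw [← hp k hk, ← hp l hl, hv ⟨0, by norm_num⟩, hv ⟨1, by norm_num⟩, hv ⟨2, by norm_num⟩, hv ⟨3, by norm_num⟩]

/-- An element of the kernel. -/
noncomputable def kp (j : ℕ) : Perm V := lin (elN (kern.getD j (0, [])).1)

theorem kp_spec (j : ℕ) (hj : j < 16) : kp j ∈ XL ∧ Acts (k := 6) sixM (kp j) id ∧
    okM (ofN (kern.getD j (0, [])).1) = true := by
  have hj' : j < kern.length := kern_ok.2.1.symm ▸ hj
  have h := List.all_eq_true.mp kern_ok.1 _ (List.getElem_mem hj')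
  rw [← List.getD_eq_getElem kern (0, []) hj', Bool.and_eq_true, Bool.and_eq_true] at h
  obtain ⟨⟨hn, hw⟩, hs⟩ := h
  refine ⟨?_, ?_, hn⟩
  · have hok : okL xGens = true := List.all_eq_true.mpr fun a ha => by
      obtain ⟨i, hi, rfl⟩ := List.getElem_of_mem ha
      rw [← List.getD_eq_getElem xGens 0 hi]
      exact (wordsB_spec xGens_ok.1 hi).1
    have hm : elN (kern.getD j (0, [])).1 ∈ XL.comap lin := mem_of_wordOK hok (fun a ha => by
      obtain ⟨i, hi, rfl⟩ := List.getElem_of_mem ha
      rw [← List.getD_eq_getElem xGens 0 hi]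
      exact xg_mem i (xGens_ok.2.1 ▸ hi)) hn hw
    exact hm
  · have h2 := acts_six (isE_elN hn) hs
    have e : posF (by norm_num : 0 < 6) [0, 1, 2, 3, 4, 5] = id := funext fun i => by fin_cases i <;> rfl
    rwa [e] at h2

theorem card_L0 : Nat.card (stV KL u0) = 5760 := by
  have h := card_stV_mul (H := KL) (x := u0) (S := inM maskB) fun v => ⟨fun hv => reach_B hv, ?_⟩
  · rw [ncard_B, card_KL] at h
    omega
  · rintro ⟨p, ⟨k, hk, rfl⟩, rfl⟩
    obtain ⟨h1, h2⟩ := (sing_iff u0).mp (Or.inr u0_mem)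
    refine ((sing_iff _).mpr ⟨fun e => h1 ((lin k).injective (e.trans (lin_zero k).symm)), ?_⟩).resolve_left
      fun hA => not_both u0 ⟨?_, u0_mem⟩
    · rw [hV_lin, h2]
    · have := KL_A (inv_mem (show lin k ∈ KL from ⟨k, hk, rfl⟩)) _ hA
      rwa [Perm.inv_def, Equiv.symm_apply_apply] at this

/-- The shape of the stabiliser. -/
theorem shape {p : Perm V} (hp : p ∈ stV KL u0) :
    ∃ k, k < 360 ∧ ∃ j, j < 16 ∧ ∃ g ∈ XL, p = g * kp j ∧ Acts sixM p (sixP k) ∧ Acts sixM g (sixP k) ∧
      (k = 0 → p = kp j) := by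
  classical
  choose g hg hga using fun k : Fin 360 => exists_six k.val k.2
  let g' : Fin 360 → Perm V := fun k => if k.val = 0 then 1 else g k
  have hg' : ∀ k, g' k ∈ XL ∧ Acts sixM (g' k) (sixP k.val) := fun k => by
    by_cases hk : k.val = 0
    · have e : sixP k.val = id := funext fun i => Fin.ext (by
        have h := List.all_eq_true.mp sixImg_ok.2.1 k.val (List.mem_range.mpr k.2)
        simp only [Bool.and_eq_true, Bool.or_eq_true, Nat.blt_eq, List.all_eq_true, List.mem_range, hk,
          Nat.not_lt_zero, false_and, or_false] at h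
        rw [sixP_val k.2, hk]
        exact Nat.eq_of_beq_eq_true (h.2.2 i.val i.2))
      simp only [g', if_pos hk, e]
      exact ⟨one_mem _, acts_one _⟩
    · simp only [g', if_neg hk]
      exact ⟨hg k, hga k⟩
  let F : Fin 360 × Fin 16 → stV KL u0 := fun a =>
    ⟨g' a.1 * kp a.2.val, XL_le (mul_mem (hg' a.1).1 (kp_spec _ a.2.2).1)⟩
  have hact : ∀ a : Fin 360 × Fin 16, Acts sixM (g' a.1 * kp a.2.val) (sixP a.1.val) := fun a =>
    (hg' a.1).2.mul (kp_spec _ a.2.2).2.1
  have hF : Function.Injective F := fun a b h => by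
    have h1 : g' a.1 * kp a.2.val = g' b.1 * kp b.2.val := congrArg Subtype.val h
    have e := (h1 ▸ hact a : Acts sixM (g' b.1 * kp b.2.val) (sixP a.1.val)).unique six_inj (hact b)
    have h2 : a.1 = b.1 := Fin.ext (sixP_inj a.1.2 b.1.2 e)
    rw [h2] at h1
    refine Prod.ext h2 (Fin.ext ?_)
    have h3 := mul_left_cancel h1
    by_contra hne
    have key : ∀ i j : ℕ, i < 16 → j < i → kp i ≠ kp j := fun i j hi hji he => by
      have h := List.all_eq_true.mp (List.all_eq_true.mp kern_ok.2.2.1 i (List.mem_range.mpr hi)) j (List.mem_range.mpr hji)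
      rw [Bool.not_eq_true'] at h
      have e1 : mapE (eN (kern.getD i (0, [])).1 false) = mapE (eN (kern.getD j (0, [])).1 false) := funext fun v => by
        rw [← isE_elN (kp_spec i hi).2.2, ← isE_elN (kp_spec j (hji.trans hi)).2.2]
        exact congrArg (fun q : Perm V => q v) he
      have h5 : beqM (ofN (kern.getD i (0, [])).1) (ofN (kern.getD j (0, [])).1) = true :=
        beqM_of_map (E := eN (kern.getD i (0, [])).1 false) (F := eN (kern.getD j (0, [])).1 false) rfl e1
      rw [h5] at h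
      exact Bool.noConfusion h
    rcases Nat.lt_or_gt_of_ne hne with hl | hl
    · exact key _ _ b.2.2 hl h3.symm
    · exact key _ _ a.2.2 hl h3
  have hsur : Function.Surjective F := (hF.bijective_of_nat_card_le (by
    rw [card_L0, Nat.card_prod, Nat.card_fin, Nat.card_fin])).2
  obtain ⟨a, ha⟩ := hsur ⟨p, hp⟩
  have ha' : g' a.1 * kp a.2.val = p := congrArg Subtype.val ha
  refine ⟨a.1.val, a.1.2, a.2.val, a.2.2, g' a.1, (hg' a.1).1, ha'.symm, ha' ▸ hact a, (hg' a.1).2, fun h0 => ?_⟩
  rw [← ha']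
  simp only [g', if_pos h0, one_mul]

/-- A normal two-subgroup fixes the six sets, and has at most sixteen elements. -/
theorem two_normal {N : Subgroup (Perm V)} (hN : IsPGroup 2 ↥N) (hle : N ≤ stV KL u0)
    (hnorm : ∀ g ∈ stV KL u0, ∀ n ∈ N, g * n * g⁻¹ ∈ N) :
    (∀ n ∈ N, Acts (k := 6) sixM n id) ∧ Nat.card N ≤ 16 := by
  have key : ∀ n ∈ N, ∃ j, j < 16 ∧ n = kp j := fun n hn => by
    obtain ⟨k, hk, j, hj, -, -, -, hact, -, h0⟩ := shape (hle hn)
    rcases Nat.eq_zero_or_pos k with hk0 | hk0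
    · exact ⟨j, hj, h0 hk0⟩
    exfalso
    have h := List.all_eq_true.mp sixWit_ok k (List.mem_range.mpr hk)
    simp only [Bool.or_eq_true, Bool.and_eq_true, Nat.blt_eq, List.all_eq_true, List.mem_range] at h
    rcases h with h | h
    · exact absurd (Nat.eq_of_beq_eq_true h) (by omega)
    obtain ⟨⟨⟨⟨hl, hm⟩, he⟩, hall⟩, hany⟩ := h
    set l := (sixWit.getD k (0, 0, 0)).1
    set m := (sixWit.getD k (0, 0, 0)).2.1
    set e := (sixWit.getD k (0, 0, 0)).2.2
    obtain ⟨g, hg, hga⟩ := exists_six l hl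
    obtain ⟨g₂, -, hg₂⟩ := exists_six m hm
    set n' := g * n * g⁻¹ with hn'
    have hn'N : n' ∈ N := hnorm g (XL_le hg) n hn
    obtain ⟨k', hk', -, -, -, -, -, hact', -, -⟩ := shape (hle hn'N)
    have hcomp : sixP k' ∘ sixP l = sixP m ∘ sixP l := by
      have h1 : Acts sixM (n' * g) (sixP k' ∘ sixP l) := hact'.mul hga
      rw [show n' * g = g * n by rw [hn']; group] at h1
      rw [h1.unique six_inj (hga.mul hact)]
      funext i
      refine Fin.ext ?_
      simp only [Function.comp_apply]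
      rw [sixP_val hl, sixP_val hm, sixP_val hk, sixP_val hl]
      exact (Nat.eq_of_beq_eq_true (hall i.val i.2).1).symm
    have hsurj : Function.Surjective (sixP l) := Finite.injective_iff_surjective.mp fun a b hab => six_inj (by
      have h1 := hga a
      rw [hab, ← hga b] at h1
      exact g.injective.image_injective h1)
    have hk'm : sixP k' = sixP m := hsurj.injective_comp_right hcomp
    have hw : Acts sixM (n * n') (sixP k ∘ sixP m) := hk'm ▸ hact.mul hact'
    set w := sixP k ∘ sixP m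
    have hiter : ∀ t : ℕ, Acts sixM ((n * n') ^ t) (w^[t]) := fun t => by
      induction t with
      | zero => exact acts_one _
      | succ t ih =>
        rw [pow_succ, Function.iterate_succ]
        exact ih.mul hw
    obtain ⟨r, hr⟩ := hN ⟨_, mul_mem hn hn'N⟩
    have hr' : (n * n') ^ 2 ^ r = 1 := congrArg Subtype.val hr
    have h2 : w^[2 ^ r] = id := (hiter (2 ^ r)).unique six_inj (by rw [hr']; exact acts_one _)
    have hwv : ∀ i : Fin 6, (w i).val = sixAt k (sixAt m i.val) := fun i => by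
      simp only [w, Function.comp_apply]
      rw [sixP_val hk, sixP_val hm]
    have hev : ∀ (t : ℕ) (i : Fin 6), (w^[t] i).val = Nat.rec i.val (fun _ x => sixAt k (sixAt m x)) t := fun t i => by
      induction t with
      | zero => rfl
      | succ t ih =>
        rw [Function.iterate_succ', Function.comp_apply, hwv, ih]
    have hfix : ∀ i, w i = i := fun i => by
      have p1 : Function.IsPeriodicPt w (2 ^ r) i := congrFun h2 i
      have p2 : Function.IsPeriodicPt w e i := Fin.ext (by
        rw [hev]; exact Nat.eq_of_beq_eq_true (hall i.val i.2).2)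
      have h3 := p1.gcd p2
      have hg1 : Nat.gcd (2 ^ r) e = 1 := by
        refine Nat.Coprime.pow_left r ?_
        rcases he with h | h <;> rw [Nat.eq_of_beq_eq_true h] <;> norm_num
      rwa [hg1] at h3
    obtain ⟨i, hi, hne⟩ := List.any_eq_true.mp hany
    rw [Bool.not_eq_true'] at hne
    have hi' := List.mem_range.mp hi
    have := congrArg Fin.val (hfix ⟨i, hi'⟩)
    rw [hwv] at this
    rw [this] at hne
    simp at hne
  refine ⟨fun n hn => ?_, ?_⟩
  · obtain ⟨j, hj, rfl⟩ := key n hn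
    exact (kp_spec j hj).2.1
  · choose j hj hje using key
    refine (Nat.card_le_card_of_injective (fun n : N => (⟨j n.1 n.2, hj n.1 n.2⟩ : Fin 16)) fun a b h => ?_).trans
      (Nat.card_fin 16).le
    refine Subtype.ext ?_
    rw [hje a.1 a.2, hje b.1 b.2, show j a.1 a.2 = j b.1 b.2 from congrArg Fin.val h]

end CfsgLib.Fi24Q
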