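/-
Groups of large Fischer type: the classes of the centralizer on the involutions of the core.
-/
import Cfsg.Agent.Lib.Fi24Q.Setup

set_option autoImplicit false
set_option linter.unusedSectionVars false

namespace CfsgLib.Fi24Q

open Matrix CfsgLib.G24 CfsgLib.SUSixSub Equiv CfsgLib.ExtraTwo
open scoped commutatorElement

attribute [local irreducible] maskA maskB

variable {G : Type*} [Group G] [Finite G] {z : G} {Q : Subgroup (Cz z)} [hQn : Q.Normal]

namespace Data

variable (D : Data z Q)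

theorem singular {a : Q} (h : a * a = 1) (hne : a ≠ 1) (hz : a ≠ D.zq) :
    D.pi a ∈ inM maskA ∨ D.pi a ∈ inM maskB :=
  (sing_iff _).mpr ⟨fun e => ((D.pi_ker a).mp e).elim hne hz, (D.sq_iff a).mp h⟩

theorem order_two {a : Q} (ha : D.pi a ∈ inM maskA ∨ D.pi a ∈ inM maskB) :
    orderOf (a : Cz z) = 2 ∧ ((a : Cz z) : G) ≠ z := by
  obtain ⟨h1, h2⟩ := (sing_iff _).mp ha
  refine ⟨orderOf_eq_prime (by rw [pow_two]; exact congrArg Subtype.val ((D.sq_iff a).mpr h2)) fun e => ?_, fun e => ?_⟩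
  · exact h1 ((D.pi_ker a).mpr (Or.inl (Subtype.ext e)))
  · exact h1 ((D.pi_ker a).mpr (Or.inr (Subtype.ext (Subtype.ext (e.trans D.coe_zq.symm)))))

/-- The two lifts of a non-central vector are conjugate in the core. -/
theorem conj_lift {a : Q} (h : D.pi a ≠ 0) : ∃ q : Q, q * a * q⁻¹ = a * D.zq := by
  have hc : a ∉ Subgroup.center ↥Q := fun hm => h ((D.pi_ker a).mpr ((D.ext2.center_iff a).mp hm))
  rw [Subgroup.mem_center_iff] at hc
  push Not at hc
  obtain ⟨q, hq⟩ := hc
  rcases D.ext2.comm_cases q a with e | e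
  · exact absurd (commutatorElement_eq_one_iff_mul_comm.mp e) hq
  · refine ⟨q, ?_⟩
    rw [commutatorElement_def, mul_inv_eq_iff_eq_mul] at e
    rw [e]
    exact (D.ext2.z_comm a).eq.symm

/-- Conjugacy is decided on the space. -/
theorem conj_iff {a b : Q} (ha : D.pi a ≠ 0) :
    (∃ h : Cz z, h * a * h⁻¹ = b) ↔ ∃ p ∈ D.th.range, p (D.pi a) = D.pi b := by
  constructor
  · rintro ⟨h, hh⟩
    exact ⟨_, ⟨h, rfl⟩, (D.th_pi h a).trans (congrArg D.pi (Subtype.ext hh))⟩
  · rintro ⟨_, ⟨h, rfl⟩, e⟩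
    rw [D.th_pi, D.toPre.pi_eq] at e
    have hne : D.pi (conjQ h a) ≠ 0 := fun e0 => by
      rw [← D.th_pi] at e0
      refine ha ((D.th h).injective (e0.trans ?_))
      rcases D.kind h with hk | hk
      · have h := hk.add 0 0
        rwa [add_zero, left_eq_add, eq_comm] at h
      · have h := hk.add 0 0
        rwa [add_zero, left_eq_add, eq_comm] at h
    rcases e with e | e
    · exact ⟨h, (congrArg Subtype.val e).symm⟩
    · obtain ⟨q, hq⟩ := D.conj_lift hne
      refine ⟨q * h, ?_⟩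
      rw [e, ← hq]
      simp [conjQ, mul_assoc]

theorem two_orbits {a : Q} (ha : D.pi a ∈ inM maskA ∨ D.pi a ∈ inM maskB) {t : V}
    (ht : t = t0 ∨ t = u0) {b : Q} (hb : D.pi b = t) (hab : D.pi a ∈ inM maskA ↔ t = t0) :
    ∃ h : Cz z, h * b * h⁻¹ = a := by
  have hne : D.pi b ≠ 0 := by
    rw [hb]
    rcases ht with rfl | rfl
    · exact ((sing_iff t0).mp (Or.inl t0_mem)).1
    · exact ((sing_iff u0).mp (Or.inr u0_mem)).1
  refine (D.conj_iff hne).mpr ?_
  rw [hb]
  rcases ht with rfl | rfl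
  · exact D.rng.transitive_A t0_mem (hab.mpr rfl)
  · refine D.rng.transitive_B u0_mem (ha.resolve_left fun h => ?_)
    exact not_both u0 ⟨(hab.mp h) ▸ t0_mem, u0_mem⟩

end Data

end CfsgLib.Fi24Q
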