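/-
Groups of large Fischer type: a conjugate of the involution in the core belongs to the larger orbit, and
the centralizer induces the standard semilinear involution.
-/
import Cfsg.Agent.Lib.Fi24Q.Classes
import Cfsg.Agent.Lib.Fi24Q.SixSets
import Cfsg.Agent.Lib.Fi24Q.OddOrbit

set_option autoImplicit false
set_option maxRecDepth 30000
set_option linter.unusedSectionVars false
set_option linter.style.haveILetI false

namespace CfsgLib.Fi24Q

open Matrix CfsgLib.G24 CfsgLib.SUSixSub Equiv CfsgLib.ExtraTwo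
open scoped commutatorElement

attribute [local irreducible] maskA maskB xGens xPerm twTau twSig sixImg sixL sixM tauN gensA

namespace Rng

variable {H : Subgroup (Perm V)} {R : Perm V} (hH : Rng H R)
include hH

theorem mul_out {p q : Perm V} (hp : p ∈ H) (hq : q ∈ H) (hp' : p ∉ KL) (hq' : q ∉ KL) : p * q ∈ KL := by
  have h1 := (hH.split p hp).resolve_left hp'
  have h2 := (hH.split q⁻¹ (inv_mem hq)).resolve_left fun h => hq' (by simpa using inv_mem h)
  have h3 := mul_mem h1 (inv_mem h2)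
  rwa [_root_.mul_inv_rev, inv_eq_of_mul_eq_one_right hH.sq, inv_inv, ← mul_assoc, mul_assoc p, hH.sq, mul_one] at h3

theorem conj_KL {p g : Perm V} (hp : p ∈ H) (hg : g ∈ KL) : p * g * p⁻¹ ∈ KL := by
  by_cases hp' : p ∈ KL
  · exact mul_mem (mul_mem hp' hg) (inv_mem hp')
  · refine hH.mul_out (mul_mem hp (hH.le hg)) (inv_mem hp) (fun h => hp' ?_) fun h => hp' (by simpa using inv_mem h)
    simpa using mul_mem h (inv_mem hg)

theorem card_le_two {E : Subgroup (Perm V)} (hE : E ≤ H) : Nat.card E ≤ 2 * Nat.card ↥(E ⊓ KL) := by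
  classical
  by_cases h : ∃ e ∈ E, e ∉ KL
  · obtain ⟨e, he, he'⟩ := h
    let f : E → Bool × ↥(E ⊓ KL) := fun p =>
      if hp : (p : Perm V) ∈ KL then (false, ⟨p, p.2, hp⟩)
      else (true, ⟨p * e, mul_mem p.2 he, hH.mul_out (hE p.2) (hE he) hp he'⟩)
    have hf : Function.Injective f := fun p q h => by
      simp only [f] at h
      split at h <;> split at h <;> simp only [Prod.mk.injEq, Bool.false_eq_true, Bool.true_eq_false, false_and,
        true_and, Subtype.mk.injEq, mul_left_inj] at h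
      · exact Subtype.ext (congrArg Subtype.val h :)
      · exact Subtype.ext (mul_right_cancel (congrArg Subtype.val h :))
    refine (Nat.card_le_card_of_injective f hf).trans ?_
    rw [Nat.card_prod, Nat.card_eq_fintype_card (α := Bool), Fintype.card_bool]
  · push Not at h
    rw [inf_eq_left.mpr fun p hp => h p hp]
    omega

end Rng

theorem pow_le_exp {a b : ℕ} {m : ℕ} (hm : Odd m) (h : 2 ^ a ∣ 2 ^ b * m) : a ≤ b :=
  (Nat.pow_dvd_pow_iff_le_right (by norm_num)).mp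
    ((Nat.Coprime.pow_left a (Nat.coprime_two_left.mpr hm)).dvd_of_dvd_mul_right h)

/-- The stabiliser of the vector in the twisted group has no large normal two-subgroup. -/
theorem no_twist {H E : Subgroup (Perm V)} (hH : Rng H (lin tau * Sg)) (hE : E ≤ stV H u0) (hE2 : IsPGroup 2 ↥E)
    (hnorm : ∀ g ∈ stV H u0, ∀ n ∈ E, g * n * g⁻¹ ∈ E) : Nat.card E ≤ 16 := by
  classical
  have hN2 : IsPGroup 2 ↥(E ⊓ KL) := hE2.to_le inf_le_left
  have hLH : ∀ g ∈ stV KL u0, g ∈ stV H u0 := fun g hg => ⟨hH.le hg.1, hg.2⟩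
  obtain ⟨hid, hcard⟩ := two_normal hN2 (fun p hp => ⟨hp.2, (hE hp.1).2⟩) fun g hg n hn =>
    ⟨hnorm g (hLH g hg) n hn.1, (show g * n * g⁻¹ ∈ KL from mul_mem (mul_mem hg.1 hn.2) (inv_mem hg.1))⟩
  by_contra hbig
  obtain ⟨n, hn, hn'⟩ : ∃ n ∈ E, n ∉ KL := by
    by_contra hall
    push Not at hall
    rw [inf_eq_left.mpr fun p hp => hall p hp] at hcard
    exact hbig hcard
  set R : Perm V := lin tau * Sg with hR
  have hRinv : R⁻¹ = R := inv_eq_of_mul_eq_one_right hH.sq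
  -- the element on the linear side
  have hk : R * n ∈ KL := hH.mul_out hH.mem (hE hn).1 hH.out hn'
  have hk' : R * n ∈ stV KL u0 := ⟨hk, by
    show R (n u0) = u0
    rw [show n u0 = u0 from (hE hn).2, hH.u_fix]⟩
  obtain ⟨kk, hkk, -, -, -, -, -, hkact, -, -⟩ := shape hk'
  -- the element moves each generator to one acting in the same way
  have key : ∀ j, j < 2 → ∀ i : Fin 6,
      posF (by norm_num : 0 < 6) (twSig.getD j []) (sixP kk i) = sixP kk (xp j i) := fun j hj i => by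
    obtain ⟨hgL, hgE, hga⟩ := xg_spec j hj
    set g := xg j with hg
    have hc : n * g * n⁻¹ * g⁻¹ ∈ E ⊓ KL := by
      refine ⟨?_, show n * g * n⁻¹ * g⁻¹ ∈ KL from mul_mem (hH.conj_KL (hE hn).1 hgL.1) (inv_mem hgL.1)⟩
      have := mul_mem hn (hnorm g (hLH g hgL) _ (inv_mem hn))
      simpa [mul_assoc] using this
    have hc2 : n * g * n⁻¹ * g⁻¹ ∈ E ⊓ KL := hc
    have hRc : R * (n * g * n⁻¹ * g⁻¹) * R⁻¹ ∈ E ⊓ KL := by
      refine ⟨?_, hH.conj_KL hH.mem hc.2⟩
      have h1 : n⁻¹ * (n * g * n⁻¹ * g⁻¹) * n ∈ E := mul_mem (mul_mem (inv_mem hn) hc.1) hn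
      have h2 := hnorm (R * n) (hLH _ hk') _ h1
      simpa [mul_assoc] using h2
    have e : (R * n) * g * (R * n)⁻¹ = (R * (n * g * n⁻¹ * g⁻¹) * R⁻¹) * (R * (g * R)) := by
      rw [_root_.mul_inv_rev, hRinv]
      simp [mul_assoc, ← mul_assoc R R, hH.sq]
    have htw : Acts sixM (R * (g * R)) (posF (by norm_num : 0 < 6) (twSig.getD j [])) :=
      acts_six (isE_Rf.mul (hgE.mul isE_Rf)) (List.all_eq_true.mp twist_ok.2.1 j (List.mem_range.mpr hj))
    have h1 : Acts sixM ((R * n) * g) (posF (by norm_num : 0 < 6) (twSig.getD j []) ∘ sixP kk) := by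
      rw [show (R * n) * g = (R * (n * g * n⁻¹ * g⁻¹) * R⁻¹) * (R * (g * R)) * (R * n) by rw [← e]; group]
      exact ((hid _ hRc).mul htw).mul hkact
    exact (congrFun (h1.unique six_inj (hkact.mul hga)) i)
  have h := List.all_eq_true.mp (List.all_eq_true.mp twist_ok.2.2.2.2.2 kk (List.mem_range.mpr hkk)) twSig (by simp)
  rw [Bool.not_eq_true', ← Bool.not_eq_true] at h
  refine h (List.all_eq_true.mpr fun j hj => List.all_eq_true.mpr fun i hi => ?_)
  rw [List.mem_range] at hj hi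
  have e := congrArg Fin.val (key j hj ⟨i, hi⟩)
  have hx : (xp j ⟨i, hi⟩).val = (xPerm.getD j []).getD i 0 := Nat.mod_eq_of_lt (Nat.blt_eq.mp
    (List.all_eq_true.mp (List.all_eq_true.mp xPerm_lt.1 j (List.mem_range.mpr hj)) i (List.mem_range.mpr hi)))
  rw [sixP_val hkk, hx] at e
  simp only [posF, sixP_val hkk] at e
  have htwlt : (twSig.getD j []).getD (sixAt kk i) 0 < 6 := by
    have h := List.all_eq_true.mp twist_ok.2.1 j (List.mem_range.mpr hj)
    simp only [setsB, List.all_eq_true, List.mem_range, Bool.and_eq_true, Nat.blt_eq, six_ok.1] at h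
    exact (h _ (sixP_val hkk ⟨i, hi⟩ ▸ (sixP kk ⟨i, hi⟩).2)).1
  rw [Nat.mod_eq_of_lt htwlt] at e
  rw [Nat.beq_eq]
  exact e

variable {G : Type*} [Group G] [Finite G] {z : G} {Q : Subgroup (Cz z)} [hQn : Q.Normal]

/-- The conjugate of the core, seen in the centralizer. -/
def Qc (Q : Subgroup (Cz z)) (g : G) : Subgroup (Cz z) :=
  ((Q.map (Cz z).subtype).map (MulAut.conj g).toMonoidHom).comap (Cz z).subtype

theorem mem_Qc {g : G} {x : Cz z} : x ∈ Qc Q g ↔ ∃ q ∈ Q, g * (q : G) * g⁻¹ = (x : G) := by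
  constructor
  · rintro ⟨b, ⟨q, hq, rfl⟩, hb⟩
    exact ⟨q, hq, hb⟩
  · rintro ⟨q, hq, he⟩
    exact ⟨q, ⟨q, hq, rfl⟩, he⟩

namespace Data

variable (D : Data z Q) {g : G} {a : Q}
include D

theorem qc_le (ha : g * z * g⁻¹ = ((a : Cz z) : G)) : Qc Q g ≤ Subgroup.centralizer ({(a : Cz z)} : Set (Cz z)) := by
  intro x hx
  obtain ⟨q, -, hq⟩ := mem_Qc.mp hx
  refine Subgroup.mem_centralizer_singleton_iff.mpr (Subtype.ext ?_)
  rw [Subgroup.coe_mul, Subgroup.coe_mul, ← hq, ← ha]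
  have h : (q : G) * z = z * (q : G) := Subgroup.mem_centralizer_singleton_iff.mp q.2
  calc g * (q : G) * g⁻¹ * (g * z * g⁻¹) = g * ((q : G) * z) * g⁻¹ := by group
    _ = g * (z * (q : G)) * g⁻¹ := by rw [h]
    _ = g * z * g⁻¹ * (g * (q : G) * g⁻¹) := by group

theorem conj_mem_cz (ha : g * z * g⁻¹ = ((a : Cz z) : G)) {x : Cz z}
    (hx : x ∈ Subgroup.centralizer ({(a : Cz z)} : Set (Cz z))) : g⁻¹ * (x : G) * g ∈ Cz z := by
  refine Subgroup.mem_centralizer_singleton_iff.mpr ?_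
  have h : (x : G) * ((a : Cz z) : G) = ((a : Cz z) : G) * (x : G) :=
    congrArg Subtype.val (Subgroup.mem_centralizer_singleton_iff.mp hx)
  rw [← ha] at h
  calc g⁻¹ * (x : G) * g * z = g⁻¹ * ((x : G) * (g * z * g⁻¹)) * g := by group
    _ = g⁻¹ * (g * z * g⁻¹ * (x : G)) * g := by rw [h]
    _ = z * (g⁻¹ * (x : G) * g) := by group

/-- The core meets its conjugate in an elementary abelian group. -/
theorem qc_comm_sq (ha : g * z * g⁻¹ = ((a : Cz z) : G)) (hne : ((a : Cz z) : G) ≠ z) :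
    ∀ x y : Q, (x : Cz z) ∈ Qc Q g → (y : Cz z) ∈ Qc Q g → x * y = y * x ∧ x * x = 1 := by
  intro x y hx hy
  obtain ⟨qx, hqx, ex⟩ := mem_Qc.mp hx
  obtain ⟨qy, hqy, ey⟩ := mem_Qc.mp hy
  have split : ∀ w w' : Q, (w = 1 ∨ w = D.zq) → (w' = 1 ∨ w' = D.zq) →
      g * ((w' : Cz z) : G) * g⁻¹ = ((w : Cz z) : G) → w = 1 := by
    intro w w' hw hw' he
    rcases hw with rfl | rfl
    · rfl
    · exfalso
      rcases hw' with rfl | rfl
      · have : z = 1 := by simpa [D.coe_zq] using he.symm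
        have h2 := D.z2
        rw [this, orderOf_one] at h2
        norm_num at h2
      · rw [D.coe_zq, ha] at he
        exact hne he
  refine ⟨?_, ?_⟩
  · have := split ⁅x, y⁆ ⁅(⟨qx, hqx⟩ : Q), ⟨qy, hqy⟩⁆ (D.ext2.comm_cases _ _) (D.ext2.comm_cases _ _) (by
      simp only [commutatorElement_def, Subgroup.coe_mul, Subgroup.coe_inv]
      rw [← ex, ← ey]; group)
    exact commutatorElement_eq_one_iff_mul_comm.mp this
  · exact split (x * x) (⟨qx, hqx⟩ * ⟨qx, hqx⟩) (D.ext2.sq _) (D.ext2.sq _) (by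
      simp only [Subgroup.coe_mul]
      rw [← ex]; group)

theorem card_split (X : Subgroup (Cz z)) : Nat.card ↥(X.map D.th) * Nat.card ↥(X ⊓ Q) = Nat.card ↥X := by
  have h := (D.th.comp X.subtype).ker.card_mul_index
  rw [Subgroup.index_ker, MonoidHom.range_comp, Subgroup.range_subtype] at h
  rw [← h, mul_comm]
  congr 1
  exact Nat.card_congr ⟨fun x => ⟨⟨x.1, x.2.1⟩, (D.th_ker x.1).mpr x.2.2⟩,
    fun x => ⟨x.1.1, x.1.2, (D.th_ker x.1.1).mp x.2⟩, fun _ => rfl, fun _ => rfl⟩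

theorem card_inf_le (ha : g * z * g⁻¹ = ((a : Cz z) : G)) (hne : ((a : Cz z) : G) ≠ z) :
    Nat.card ↥(Qc Q g ⊓ Q) ≤ 2 ^ 7 := by
  have key := D.qc_comm_sq ha hne
  have h := card_elementary_le D.ext2 (n := 6) (by rw [D.card_Q]; norm_num) (A := (Qc Q g).subgroupOf Q)
    ⟨⟨fun x y => Subtype.ext (key x.1 y.1 x.2 y.2).1⟩⟩ (fun x hx => by rw [pow_two]; exact (key x x hx hx).2)
  rw [← Subgroup.subgroupOf_map_subtype, Subgroup.card_map_of_injective Q.subtype_injective]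
  exact h.1

theorem map_centralizer (h0 : D.pi a ≠ 0) :
    (Subgroup.centralizer ({(a : Cz z)} : Set (Cz z))).map D.th = stV D.th.range (D.pi a) := by
  ext p
  constructor
  · rintro ⟨x, hx, rfl⟩
    refine ⟨⟨x, rfl⟩, ?_⟩
    show D.th x (D.pi a) = D.pi a
    rw [D.th_pi]
    congr 1
    exact Subtype.ext (show x * (a : Cz z) * x⁻¹ = a by
      rw [Subgroup.mem_centralizer_singleton_iff.mp hx, mul_inv_cancel_right])
  · rintro ⟨⟨x, rfl⟩, hp⟩
    have hp' : D.th x (D.pi a) = D.pi a := hp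
    rw [D.th_pi, D.toPre.pi_eq] at hp'
    rcases hp' with e | e
    · exact ⟨x, Subgroup.mem_centralizer_singleton_iff.mpr
        (mul_inv_eq_iff_eq_mul.mp (congrArg Subtype.val e).symm), rfl⟩
    · obtain ⟨q, hq⟩ := D.conj_lift h0
      -- move the conjugate back inside the core
      have e' : x * (a : Cz z) * x⁻¹ = (q * a * q⁻¹ : Q) := by
        rw [hq]
        have h2 := congrArg Subtype.val e
        rw [Subgroup.coe_mul] at h2 ⊢
        have hzz : ((D.zq : Q) : Cz z) * D.zq = 1 := congrArg Subtype.val D.ext2.zz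
        calc x * (a : Cz z) * x⁻¹ = x * (a : Cz z) * x⁻¹ * (((D.zq : Q) : Cz z) * D.zq) := by rw [hzz, mul_one]
          _ = (conjQ x a : Cz z) * D.zq * D.zq := by rw [mul_assoc (conjQ x a : Cz z)]; rfl
          _ = (a : Cz z) * D.zq := by rw [← h2]
      refine ⟨(q : Cz z)⁻¹ * x, Subgroup.mem_centralizer_singleton_iff.mpr ?_, by
        rw [map_mul, map_inv, (D.th_ker q).mpr q.2, inv_one, one_mul]⟩
      rw [← mul_inv_eq_iff_eq_mul]
      rw [Subgroup.coe_mul, Subgroup.coe_mul, Subgroup.coe_inv] at e'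
      calc (q : Cz z)⁻¹ * x * a * ((q : Cz z)⁻¹ * x)⁻¹ = (q : Cz z)⁻¹ * (x * a * x⁻¹) * q := by group
        _ = a := by rw [e']; group

theorem card_cent_core (h0 : D.pi a ≠ 0) :
    Nat.card ↥(Subgroup.centralizer ({(a : Cz z)} : Set (Cz z)) ⊓ Q) = 4096 := by
  have hc : a ∉ Subgroup.center ↥Q := fun hm => h0 ((D.pi_ker a).mpr ((D.ext2.center_iff a).mp hm))
  rw [Subgroup.mem_center_iff] at hc
  push Not at hc
  obtain ⟨q₀, hq₀⟩ := hc
  have hi : (Subgroup.centralizer ({a} : Set Q)).index = 2 := Subgroup.index_eq_two_iff.mpr ⟨q₀, fun b => by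
    simp only [Subgroup.mem_centralizer_singleton_iff, D.ext2.mul_comm_iff, iff_false_right hq₀]
    exact (xor_not_left).mpr Iff.rfl⟩
  have h := (Subgroup.centralizer ({a} : Set Q)).card_mul_index
  rw [hi, D.card_Q] at h
  have e : Nat.card ↥(Subgroup.centralizer ({(a : Cz z)} : Set (Cz z)) ⊓ Q) =
      Nat.card ↥(Subgroup.centralizer ({a} : Set Q)) :=
    Nat.card_congr ⟨fun x => ⟨⟨x.1, x.2.2⟩, Subgroup.mem_centralizer_singleton_iff.mpr
        (Subtype.ext (Subgroup.mem_centralizer_singleton_iff.mp x.2.1))⟩,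
      fun x => ⟨x.1.1, Subgroup.mem_centralizer_singleton_iff.mpr
        (congrArg Subtype.val (Subgroup.mem_centralizer_singleton_iff.mp x.2)), x.1.2⟩, fun _ => rfl, fun _ => rfl⟩
  omega

theorem card_dvd (ha : g * z * g⁻¹ = ((a : Cz z) : G)) :
    Nat.card ↥(Subgroup.centralizer ({(a : Cz z)} : Set (Cz z))) ∣ Nat.card ↥(Qc Q g) * 19595520 := by
  set X := Subgroup.centralizer ({(a : Cz z)} : Set (Cz z))
  let φ : ↥X →* Cz z :=
    MonoidHom.mk' (fun x => ⟨g⁻¹ * ((x : Cz z) : G) * g, D.conj_mem_cz ha x.2⟩) fun x y => Subtype.ext (by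
      simp only [Subgroup.coe_mul]; group)
  have hφ : Function.Injective φ := fun x y h => by
    have h' : g⁻¹ * ((x : Cz z) : G) * g = g⁻¹ * ((y : Cz z) : G) * g := congrArg Subtype.val h
    exact Subtype.ext (Subtype.ext (mul_left_cancel (mul_right_cancel h')))
  have hcard : Nat.card ↥φ.range = Nat.card ↥X := Nat.card_congr (MonoidHom.ofInjective hφ).toEquiv.symm
  have hinf : Nat.card ↥(φ.range ⊓ Q) = Nat.card ↥(Qc Q g) := by
    refine Nat.card_congr
      { toFun := fun y => ⟨⟨g * ((y : Cz z) : G) * g⁻¹, ?_⟩, ?_⟩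
        invFun := fun x => ⟨⟨g⁻¹ * ((x : Cz z) : G) * g, D.conj_mem_cz ha (D.qc_le ha x.2)⟩, ?_⟩
        left_inv := fun y => Subtype.ext (Subtype.ext (by simp [mul_assoc]))
        right_inv := fun x => Subtype.ext (Subtype.ext (by simp [mul_assoc])) }
    · obtain ⟨x, hx⟩ := y.2.1
      have hx' : g⁻¹ * ((x : Cz z) : G) * g = ((y : Cz z) : G) := congrArg Subtype.val hx
      rw [show g * ((y : Cz z) : G) * g⁻¹ = ((x : Cz z) : G) by rw [← hx']; group]
      exact (x : Cz z).2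
    · exact mem_Qc.mpr ⟨(y : Cz z), y.2.2, rfl⟩
    · obtain ⟨q, hq, hqe⟩ := mem_Qc.mp x.2
      refine ⟨⟨⟨x.1, D.qc_le ha x.2⟩, rfl⟩, ?_⟩
      have e : (⟨g⁻¹ * ((x : Cz z) : G) * g, D.conj_mem_cz ha (D.qc_le ha x.2)⟩ : Cz z) = q :=
        Subtype.ext (by show g⁻¹ * ((x : Cz z) : G) * g = (q : G); rw [← hqe]; group)
      rw [e]; exact hq
  rw [← hcard, ← D.card_split φ.range, hinf, mul_comm]
  refine Nat.mul_dvd_mul_left _ ?_
  rw [← D.rng.card]
  exact Subgroup.card_dvd_of_le (by rw [MonoidHom.range_eq_map D.th]; exact Subgroup.map_mono le_top)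

theorem image_core (ha : g * z * g⁻¹ = ((a : Cz z) : G)) (h0 : D.pi a ≠ 0) :
    (Qc Q g).map D.th ≤ stV D.th.range (D.pi a) ∧ IsPGroup 2 ↥((Qc Q g).map D.th) ∧
      ∀ p ∈ stV D.th.range (D.pi a), ∀ n ∈ (Qc Q g).map D.th, p * n * p⁻¹ ∈ (Qc Q g).map D.th := by
  refine ⟨D.map_centralizer h0 ▸ Subgroup.map_mono (D.qc_le ha), ?_, ?_⟩
  · exact ((((D.ext2.isPGroup).map (Cz z).subtype).map (MulAut.conj g).toMonoidHom).comap_of_injective _
      (Cz z).subtype_injective).map _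
  · intro p hp n hn
    rw [← D.map_centralizer h0] at hp
    obtain ⟨x, hx, rfl⟩ := hp
    obtain ⟨y, hy, rfl⟩ := hn
    obtain ⟨q, hq, hqe⟩ := mem_Qc.mp hy
    refine ⟨x * y * x⁻¹, mem_Qc.mpr ⟨⟨_, D.conj_mem_cz ha hx⟩ * q * ⟨_, D.conj_mem_cz ha hx⟩⁻¹,
      hQn.conj_mem q hq _, ?_⟩, by rw [map_mul, map_mul, map_inv]⟩
    simp only [Subgroup.coe_mul, Subgroup.coe_inv, ← hqe]
    group

/-- The order of the image of the conjugate core. -/
theorem image_large (ha : g * z * g⁻¹ = ((a : Cz z) : G)) (hne : ((a : Cz z) : G) ≠ z) (h0 : D.pi a ≠ 0) {s m : ℕ}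
    (hs : Nat.card (stV D.th.range (D.pi a)) = 2 ^ s * m) :
    ∃ e, Nat.card ↥((Qc Q g).map D.th) = 2 ^ e ∧ 2 ^ (s + 12) ∣ 2 ^ (e + 15) * 76545 := by
  haveI : Fact (Nat.Prime 2) := ⟨Nat.prime_two⟩
  obtain ⟨-, h2, -⟩ := D.image_core ha h0
  obtain ⟨e, he⟩ := IsPGroup.iff_card.mp h2
  refine ⟨e, he, ?_⟩
  have hX := D.card_split (Subgroup.centralizer ({(a : Cz z)} : Set (Cz z)))
  rw [D.map_centralizer h0, D.card_cent_core h0, hs] at hX
  have hq := D.card_split (Qc Q g)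
  have hd := D.card_dvd ha
  obtain ⟨d, hd2⟩ := IsPGroup.iff_card.mp ((IsPGroup.of_card (p := 2) (n := 13) (by rw [D.card_Q]; norm_num) :
    IsPGroup 2 ↥Q).to_le (inf_le_right : Qc Q g ⊓ Q ≤ Q))
  have hle := D.card_inf_le ha hne
  rw [hd2] at hle hq
  have hd7 : d ≤ 7 := (Nat.pow_le_pow_iff_right (by norm_num)).mp hle
  rw [he] at hq
  rw [← hX, ← hq] at hd
  refine (Dvd.intro m ?_ : 2 ^ (s + 12) ∣ _).trans (hd.trans ?_)
  · rw [pow_add]; ring
  · rw [show (19595520 : ℕ) = 2 ^ 8 * 76545 by norm_num, ← mul_assoc, ← pow_add, ← pow_add]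
    exact Nat.mul_dvd_mul_right (pow_dvd_pow 2 (by omega)) _

theorem not_in_A (ha : g * z * g⁻¹ = ((a : Cz z) : G)) (hne : ((a : Cz z) : G) ≠ z) (hp : D.pi a = t0) : False := by
  have h0 : D.pi a ≠ 0 := by rw [hp]; exact ((sing_iff t0).mp (Or.inl t0_mem)).1
  have hs : Nat.card (stV D.th.range (D.pi a)) = 2 ^ 7 * 405 := by rw [hp, D.rng.card_stA]; norm_num
  obtain ⟨e, he, hdvd⟩ := D.image_large ha hne h0 hs
  have h4 : 4 ≤ e := by
    have := pow_le_exp (by decide) hdvd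
    omega
  obtain ⟨hle, h2, hnorm⟩ := D.image_core ha h0
  rw [hp] at hle hnorm
  have h := D.rng.card_le_two (E := (Qc Q g).map D.th) fun p hp => (hle hp).1
  have hN := card_two_le (N := (Qc Q g).map D.th ⊓ KL) (h2.to_le inf_le_left) (fun p hp => ⟨hp.2, (hle hp.1).2⟩)
    fun k hk n hn => ⟨hnorm k ⟨D.rng.le hk.1, hk.2⟩ n hn.1, (show k * n * k⁻¹ ∈ KL from mul_mem (mul_mem hk.1 hn.2) (inv_mem hk.1))⟩
  rw [he] at h
  have h16 : 2 ^ 4 ≤ 2 ^ e := Nat.pow_le_pow_right (by norm_num) h4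
  omega

theorem R_Sg (ha : g * z * g⁻¹ = ((a : Cz z) : G)) (hne : ((a : Cz z) : G) ≠ z) (hp : D.pi a = u0) : D.R = Sg := by
  rcases D.hR with hR | hR
  · exact hR
  exfalso
  have h0 : D.pi a ≠ 0 := by rw [hp]; exact ((sing_iff u0).mp (Or.inr u0_mem)).1
  have hs : Nat.card (stV D.th.range (D.pi a)) = 2 ^ 8 * 45 := by rw [hp, D.rng.card_stB]; norm_num
  obtain ⟨e, he, hdvd⟩ := D.image_large ha hne h0 hs
  have h5 : 5 ≤ e := by
    have := pow_le_exp (by decide) hdvd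
    omega
  obtain ⟨hle, h2, hnorm⟩ := D.image_core ha h0
  rw [hp] at hle hnorm
  have h := no_twist (hR ▸ D.rng) hle h2 hnorm
  rw [he] at h
  have h32 : 2 ^ 5 ≤ 2 ^ e := Nat.pow_le_pow_right (by norm_num) h5
  omega

/-- A conjugate in the core lies over the larger orbit, and fixes the twist. -/
theorem pair_main (ha : g * z * g⁻¹ = ((a : Cz z) : G)) (hne : ((a : Cz z) : G) ≠ z) :
    D.pi a ∈ inM maskB ∧ D.R = Sg := by
  have hzz : z * z = 1 := by rw [← pow_two, ← D.z2, pow_orderOf_eq_one]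
  have haa : a * a = 1 := Subtype.ext (Subtype.ext (by
    rw [Subgroup.coe_mul, Subgroup.coe_mul, ← ha]
    calc g * z * g⁻¹ * (g * z * g⁻¹) = g * (z * z) * g⁻¹ := by group
      _ = 1 := by rw [hzz, mul_one, mul_inv_cancel]))
  have hs : D.pi a ∈ inM maskA ∨ D.pi a ∈ inM maskB := by
    refine D.singular haa (fun e => ?_) fun e => hne (by rw [e, D.coe_zq])
    have h1 : g * z * g⁻¹ = 1 := by rw [ha, e]; rfl
    have h2 := D.z2
    rw [show z = 1 from conj_eq_one_iff.mp h1, orderOf_one] at h2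
    norm_num at h2
  rcases hs with hA | hB
  · exfalso
    obtain ⟨k, hk, e⟩ := reach_A hA
    exact (D.move (inv_mem hk)).not_in_A ha hne (by rw [D.move_pi, ← e, Perm.inv_def, Equiv.symm_apply_apply])
  · obtain ⟨k, hk, e⟩ := reach_B hB
    exact ⟨hB, (D.move (inv_mem hk)).R_Sg ha hne (by rw [D.move_pi, ← e, Perm.inv_def, Equiv.symm_apply_apply])⟩

end Data

end CfsgLib.Fi24Q
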