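/-
The stabiliser of a vector of the smaller orbit is the orthogonal group of minus type in dimension six.
-/
import Cfsg.Agent.Lib.Fi24Q.Orbits
import Cfsg.Agent.Lib.Fi24Q.ChecksB
import Cfsg.Agent.Lib.OrthOrderBase

set_option autoImplicit false
set_option maxRecDepth 30000
set_option linter.style.haveILetI false

namespace CfsgLib.Fi24Q

open Matrix CfsgLib.G24 CfsgLib.SUSixSub Equiv
open CfsgLib.H1Small (D6 F2)

attribute [local irreducible] orbA maskA gensA lineL lineM lineC refl reflPerm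

theorem card_orth : Nat.card D6.G = 51840 := by
  have hab : ∀ z₁ z₂ : ZMod 2, z₁ ^ 2 + 1 * z₁ * z₂ + 1 * z₂ ^ 2 = 0 → z₁ = 0 ∧ z₂ = 0 := by decide
  have := CfsgLib.OrthOrder.card_O_minus 3 (by norm_num) (1 : ZMod 2) 1 hab
  rw [show 3 - 1 = 2 by rfl, ZMod.card] at this
  exact this.trans (by decide)

theorem line_inj : Function.Injective (secL (k := 27) lineM) := by
  have key : ∀ i j : Fin 27, j < i → secL lineM i ≠ secL lineM j := fun i j hji he => by
    have h := List.all_eq_true.mp lines_ok.2.2.2.1 i.val (List.mem_range.mpr i.2)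
    simp only [Bool.and_eq_true, List.all_eq_true] at h
    obtain ⟨n, hn, hout⟩ := List.any_eq_true.mp (h.2 j.val (List.mem_range.mpr hji)).1
    have h1 : vecN n ∈ secL lineM i := vecN_mem h.1.1 hn
    rw [he] at h1
    have h2 := h.1.1
    simp only [maskOK, Bool.and_eq_true, List.all_eq_true, Nat.blt_eq] at h2
    rw [secL, mem_inM, cdV_vecN (h2.2 n hn)] at h1
    rw [h1] at hout
    exact Bool.noConfusion hout
  intro i j h
  rcases lt_trichotomy i j with hl | hl | hl
  · exact absurd h.symm (key j i hl)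
  · exact hl
  · exact absurd h (key i j hl)

theorem line_mask (i : ℕ) (hi : i < 27) : maskOK (lineL.getD i []) (lineM.getD i 0) = true := by
  have h := List.all_eq_true.mp lines_ok.2.2.2.1 i (List.mem_range.mpr hi)
  simp only [Bool.and_eq_true] at h
  exact h.1.1

theorem line_size (i : ℕ) (hi : i < 27) : countM (lineM.getD i 0) = 15 := by
  have h := List.all_eq_true.mp line_count i (List.mem_range.mpr hi)
  simp only [Bool.and_eq_true] at h
  exact Nat.eq_of_beq_eq_true h.1

/-- The vector of a set. -/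
def lc (i : Fin 27) : ((Fin 2 ⊕ Fin 2) ⊕ Fin 2) → F2 := D6.T (lineC.getD i.val 0)

theorem lc_lt (i : Fin 27) : lineC.getD i.val 0 < 2 ^ D6.n := by
  have h := List.all_eq_true.mp lines_ok.2.2.2.2.1 i.val (List.mem_range.mpr i.2)
  simp only [Bool.and_eq_true, Nat.blt_eq] at h
  exact h.1

theorem lc_span {g : D6.G} (h : ∀ i, D6.act g (lc i) = lc i) : g = 1 := by
  refine Subtype.ext (Units.ext (Matrix.ext_of_mulVec_single fun j => ?_))
  obtain ⟨k, hk, hj⟩ := D6.hbasis j
  show D6.act g _ = (1 : Matrix _ _ F2) *ᵥ _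
  rw [Matrix.one_mulVec, hj]
  obtain ⟨i, hi, hh⟩ := List.any_eq_true.mp (List.all_eq_true.mp lines_ok.2.2.2.2.2 k (List.mem_range.mpr hk))
  obtain ⟨l, hl, hh⟩ := List.any_eq_true.mp hh
  rw [Bool.or_eq_true] at hh
  have hi' := List.mem_range.mp hi
  have hl' := List.mem_range.mp hl
  rcases hh with hh | hh
  · rw [← Nat.eq_of_beq_eq_true hh]
    exact h ⟨i, hi'⟩
  · rw [← Nat.eq_of_beq_eq_true hh, show Nat.xor (lineC.getD i 0) (lineC.getD l 0) = lineC.getD i 0 ^^^ lineC.getD l 0 from rfl,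
      D6.hxor, CfsgLib.H1Small.Model.act_add]
    exact congrArg₂ (· + ·) (h ⟨i, hi'⟩) (h ⟨l, hl'⟩)

/-- A map of the stabiliser together with the isometry it induces. -/
def RelL (p : Perm V) (g : D6.G) : Prop := ∃ π : Fin 27 → Fin 27, Acts lineM p π ∧ ∀ i, D6.act g (lc i) = lc (π i)

theorem RelL.mul {p q : Perm V} {g h : D6.G} (hp : RelL p g) (hq : RelL q h) : RelL (p * q) (g * h) := by
  obtain ⟨π, h1, h2⟩ := hp
  obtain ⟨σ, h3, h4⟩ := hq
  exact ⟨π ∘ σ, h1.mul h3, fun i => by rw [D6.act_mul, h4, h2]; rfl⟩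

theorem relL_one : RelL 1 1 := ⟨id, acts_one _, fun i => D6.act_one _⟩

theorem RelL.inv {p : Perm V} {g : D6.G} (hp : RelL p g) : RelL p⁻¹ g⁻¹ := by
  obtain ⟨π, h1, h2⟩ := hp
  have hinj : Function.Injective π := fun a b h => line_inj (by
    have h3 := (h1 a).trans (congrArg (secL lineM) h) |>.trans (h1 b).symm
    exact p.injective.image_injective h3)
  obtain ⟨σ, hσ⟩ := (Finite.injective_iff_surjective.mp hinj).hasRightInverse
  refine ⟨σ, fun i => ?_, fun i => ?_⟩
  · have h := h1 (σ i)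
    rw [hσ i] at h
    rw [← h, ← Set.image_comp, Perm.inv_def, Equiv.symm_comp_self, Set.image_id]
  · conv_lhs => rw [← hσ i, ← h2]
    rw [← D6.act_mul, inv_mul_cancel, D6.act_one]

namespace Rng

variable {H : Subgroup (Perm V)} (hH : Rng H Sg)
include hH

theorem exists_refl {v : ℕ} (hv : D6.valid v = true) : ∃ p ∈ stV H t0, RelL p (D6.R v) := by
  have h := List.all_eq_true.mp refl_cover.1 v (List.mem_range.mpr (by
    have := (D6.q_of_valid hv).1
    exact this))
  rw [hv, Bool.not_true, Bool.false_or, List.any_eq_true] at h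
  obtain ⟨k, hk, hkv⟩ := h
  obtain rfl := Nat.eq_of_beq_eq_true hkv
  have h := List.all_eq_true.mp refl_ok k hk
  simp only [Bool.and_eq_true, List.all_eq_true, List.mem_range, recB] at h
  obtain ⟨⟨⟨⟨hn, hw⟩, hfix⟩, hset⟩, hperm⟩ := h
  have hE := isE_peN hn
  have hlt := acts_of_setsB (k := 27) (by norm_num) hE lines_ok.1 line_mask line_size hset
  refine ⟨_, ⟨?_, ?_⟩, _, hlt.1, fun i => ?_⟩
  · refine mul_mem (hH.le (Subgroup.mem_map_of_mem _ (mem_word hn hw))) ?_
    split
    · exact hH.mem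
    · exact one_mem _
  · show peN _ t0 = t0
    rw [t0, hE.apply_vecN, Nat.eq_of_beq_eq_true hfix]
  · show D6.rmat _ *ᵥ _ = _
    rw [lc, lc, CfsgLib.H1Small.Model.rmat_T (D := D6) (lc_lt i), ← Nat.eq_of_beq_eq_true (hperm i.val i.2)]
    simp only [posF, Nat.mod_eq_of_lt (hlt.2 i)]

/-- The stabiliser is the orthogonal group. -/
theorem stA_equiv : Nonempty (↥(stV H t0) ≃* D6.G) := by
  let S : Subgroup (↥(stV H t0) × D6.G) :=
    { carrier := {a | RelL a.1.1 a.2}
      mul_mem' := fun ha hb => RelL.mul ha hb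
      one_mem' := relL_one
      inv_mem' := fun ha => RelL.inv ha }
  let f₁ : S →* ↥(stV H t0) := (MonoidHom.fst _ _).comp S.subtype
  let f₂ : S →* D6.G := (MonoidHom.snd _ _).comp S.subtype
  have h1 : Function.Injective f₁ := (injective_iff_map_eq_one f₁).mpr fun a ha => by
    obtain ⟨π, hπ, hg⟩ := a.2
    have ha' : a.1.1.1 = 1 := congrArg Subtype.val ha
    have hid : π = id := hπ.unique line_inj (by rw [ha']; exact acts_one _)
    refine Subtype.ext (Prod.ext ha ?_)
    exact lc_span fun i => by rw [hg i, hid]; rfl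
  have h2 : Function.Surjective f₂ := by
    rw [← MonoidHom.range_eq_top, eq_top_iff]
    intro g _
    obtain ⟨L, rfl⟩ := CfsgLib.H1Small.generated6 g
    refine list_prod_mem fun x hx => ?_
    obtain ⟨v, -, rfl⟩ := List.mem_map.mp hx
    cases hv : D6.valid v
    · rw [CfsgLib.H1Small.Model.R_invalid hv]; exact one_mem _
    obtain ⟨p, hp, hr⟩ := hH.exists_refl hv
    exact ⟨⟨(⟨p, hp⟩, D6.R v), hr⟩, rfl⟩
  haveI : Finite S := Finite.of_injective f₁ h1
  have c1 := Nat.card_le_card_of_injective f₁ h1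
  have c2 := Nat.card_le_card_of_surjective f₂ h2
  rw [hH.card_stA] at c1
  rw [card_orth] at c2
  have b1 : Function.Bijective f₁ := h1.bijective_of_nat_card_le (by rw [hH.card_stA]; omega)
  have b2 : Function.Bijective f₂ := h2.bijective_of_nat_card_le (by rw [card_orth]; omega)
  exact ⟨(MulEquiv.ofBijective f₁ b1).symm.trans (MulEquiv.ofBijective f₂ b2)⟩

end Rng

end CfsgLib.Fi24Q
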