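/-
Groups of large Fischer type: the image of the stabiliser of an involution of the core not conjugate to the centre.
-/
import Cfsg.Agent.Lib.Fi24Q.Pair
import Cfsg.Agent.Lib.Fi24Q.Lines

set_option autoImplicit false
set_option linter.style.haveILetI false
set_option linter.unusedSectionVars false

namespace CfsgLib.Fi24Q

open Matrix CfsgLib.G24 CfsgLib.SUSixSub Equiv CfsgLib.ExtraTwo

attribute [local irreducible] maskA maskB

variable {G : Type*} [Group G] [Finite G] {z : G} {Q : Subgroup (Cz z)} [hQn : Q.Normal]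

/-- The twist is the standard one, in every choice of coordinates. -/
theorem Data.R_eq (D : Data z Q) (hset : Cfsg.IsExtraspecialCentralizerSetting z Q 6) :
    D.R = Sg ∧ ∃ a : Q, IsConj z ((a : Cz z) : G) ∧ D.pi a ∈ inM maskB := by
  obtain ⟨g, ⟨hg, hgQ⟩, hne⟩ := hset.2.2.2.2
  have h := D.pair_main (a := ⟨⟨_, hg⟩, hgQ⟩) rfl hne
  exact ⟨h.2, ⟨⟨_, hg⟩, hgQ⟩, isConj_iff.mpr ⟨g, rfl⟩, h.1⟩

theorem noncentral_stab (hF : Cfsg.IsOfLargeFischerTypeAt z Q) (t : Cz z) (htQ : t ∈ Q) (ht2 : orderOf t = 2)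
    (ht : ¬ IsConj z (t : G)) (S : Subgroup (Cz z))
    (hS : ∀ h : Cz z, h ∈ S ↔ (h * t * h⁻¹ = t ∨ ((h * t * h⁻¹ : Cz z) : G) = t * z)) :
    Nonempty (↥(S.map (QuotientGroup.mk' Q)) ≃* CfsgLib.H1Small.D6.G) := by
  obtain ⟨D₀, -⟩ := exists_data hF
  obtain ⟨-, a, haz, haB⟩ := D₀.R_eq hF.1
  set b : Q := ⟨t, htQ⟩
  have hbb : b * b = 1 := Subtype.ext (by rw [Subgroup.coe_mul, ← pow_two, ← ht2, pow_orderOf_eq_one]; rfl)
  have h1 : b ≠ 1 := fun e => by
    rw [show t = 1 from congrArg Subtype.val e, orderOf_one] at ht2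
    norm_num at ht2
  have h2 : b ≠ D₀.zq := fun e => ht (by
    rw [show t = (D₀.zq : Cz z) from congrArg Subtype.val e, D₀.coe_zq])
  have hA : D₀.pi b ∈ inM maskA := (D₀.singular hbb h1 h2).resolve_right fun hB => ht (by
    obtain ⟨h, hh⟩ := (D₀.conj_iff (b := b) ((sing_iff _).mp (Or.inr haB)).1).mpr (D₀.rng.transitive_B haB hB)
    refine haz.trans (isConj_iff.mpr ⟨(h : G), ?_⟩)
    exact congrArg Subtype.val hh)
  obtain ⟨k, hk, hke⟩ := reach_A hA
  set D := D₀.move (inv_mem hk)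
  have hb : D.pi b = t0 := by rw [D₀.move_pi, ← hke, Perm.inv_def, Equiv.symm_apply_apply]
  have hR := (D.R_eq hF.1).1
  obtain ⟨e⟩ := Rng.stA_equiv (hR ▸ D.rng)
  have hmap : S.map D.th = stV D.th.range t0 := by
    have key : ∀ c : Cz z, c ∈ S ↔ D.th c t0 = t0 := fun c => by
      rw [hS c, ← hb, D.th_pi, eq_comm (a := D.pi (conjQ c b)), D.toPre.pi_eq]
      refine or_congr ?_ ?_
      · exact ⟨fun h => Subtype.ext h, fun h => congrArg Subtype.val h⟩
      · constructor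
        · intro h
          refine Subtype.ext (Subtype.ext (h.trans ?_))
          exact (congrArg ((t : G) * ·) D.coe_zq).symm
        · intro h
          have h2 := congrArg (fun q : Q => ((q : Cz z) : G)) h
          exact h2.trans (congrArg ((t : G) * ·) D.coe_zq)
    ext p
    constructor
    · rintro ⟨c, hc, rfl⟩
      exact ⟨⟨c, rfl⟩, (key c).mp hc⟩
    · rintro ⟨⟨c, rfl⟩, hc⟩
      exact ⟨c, (key c).mpr hc, rfl⟩
  let ψ : Cz z ⧸ Q →* Perm V := QuotientGroup.lift Q D.th fun q hq => (D.th_ker q).mpr hq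
  have hψ : Function.Injective ψ := (injective_iff_map_eq_one ψ).mpr fun x hx => by
    obtain ⟨c, rfl⟩ := QuotientGroup.mk_surjective x
    exact (QuotientGroup.eq_one_iff c).mpr ((D.th_ker c).mp hx)
  have he : (S.map (QuotientGroup.mk' Q)).map ψ = stV D.th.range t0 := by
    rw [Subgroup.map_map, show ψ.comp (QuotientGroup.mk' Q) = D.th from MonoidHom.ext fun _ => rfl, hmap]
  exact ⟨((S.map (QuotientGroup.mk' Q)).equivMapOfInjective ψ hψ).trans ((MulEquiv.subgroupCongr he).trans e)⟩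

end CfsgLib.Fi24Q
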