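/-
The special elementary subgroup of order sixteen of the Sylow two-subgroup and its fixed vectors.
-/
import Cfsg.Agent.Lib.Fi24Q.Sylow

set_option autoImplicit false
set_option maxRecDepth 30000
set_option linter.style.haveILetI false

namespace CfsgLib.Fi24Q

open Matrix CfsgLib.G24 CfsgLib.SUSixSub Equiv

attribute [local irreducible] orbA gensA sGens sEls invs invMul outA aList aMask aQuad planeL pGens pWords aConj aTree

/-- Six spanning vectors of the fixed vectors. -/
def planeB : List ℕ := [85, 170, 295, 569, 1078, 2075]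

/-- The span of a list of vectors. -/
def spanV : List ℕ → List ℕ
  | [] => [0]
  | b :: l => let s := spanV l; s ++ s.map fun y => addN b y

theorem span_ok : (planeL.all fun n => (spanV planeB).any (Nat.beq n)) = true ∧
    (planeB.all fun n => planeL.any (Nat.beq n)) = true ∧ Nat.beq (countM (maskOf planeL)) 64 = true := by
  decide +kernel

theorem special_ok : (aList.all fun x => beqE (mulE (invE x) (invE x)) oneE) = true ∧
    ((List.range 15).all fun i => (List.range i).all fun j =>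
      !Nat.beq (invs.getD (aList.getD i 0) 0) (invs.getD (aList.getD j 0) 0)) = true ∧
    (([3, 4].all fun x => aList.any (Nat.beq x)) &&
      aList.any fun c => !Nat.beq c 3 && !Nat.beq c 4 && !Nat.beq c (mulI 3 4)) = true := by
  decide +kernel

theorem aList_lt {i : ℕ} (hi : i ∈ aList) : i < 71 ∧ (invE i).2 = false := by
  have h := List.all_eq_true.mp aList_ok.2.2.1 i hi
  simp only [Bool.and_eq_true, Nat.blt_eq, Bool.not_eq_true'] at h
  exact h

theorem aList_mul {a b : ℕ} (ha : a ∈ aList) (hb : b ∈ aList) (hne : a ≠ b) :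
    mulI a b ∈ aList ∧ invP a * invP b = invP (mulI a b) ∧ invP b * invP a = invP a * invP b := by
  have h := List.all_eq_true.mp (List.all_eq_true.mp aList_ok.2.2.2.2 a ha) b hb
  have h' := List.all_eq_true.mp (List.all_eq_true.mp aList_ok.2.2.2.2 b hb) a ha
  simp only [Bool.or_eq_true, Bool.and_eq_true, Nat.blt_eq, Nat.beq_eq, hne, false_or] at h
  simp only [Bool.or_eq_true, Bool.and_eq_true, Nat.blt_eq, Nat.beq_eq, hne.symm, false_or] at h'
  obtain ⟨hab, e⟩ := (invP_mul (aList_lt ha).1 (aList_lt hb).1 hne).2 (by omega)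
  refine ⟨mask_list h.2, e, ?_⟩
  have hs : ∀ {c : ℕ}, c ∈ aList → (invP c)⁻¹ = invP c := fun {c} hc => inv_eq_of_mul_eq_one_right
    (((invP_isE (aList_lt hc).1).mul (invP_isE (aList_lt hc).1)).eq isE_one (List.all_eq_true.mp special_ok.1 c hc))
  have hm := congrArg (fun p => p⁻¹) e
  simp only [_root_.mul_inv_rev, hs ha, hs hb, hs (mask_list h.2)] at hm
  rw [hm, e]

theorem invP_sq {c : ℕ} (hc : c ∈ aList) : invP c * invP c = 1 :=
  ((invP_isE (aList_lt hc).1).mul (invP_isE (aList_lt hc).1)).eq isE_one (List.all_eq_true.mp special_ok.1 c hc)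

/-- The special subgroup. -/
noncomputable def A0f : Subgroup (Perm V) where
  carrier := A0S
  one_mem' := Or.inl rfl
  mul_mem' := by
    rintro p q (rfl | ⟨a, ha, rfl⟩) hq
    · rwa [one_mul]
    rcases hq with rfl | ⟨b, hb, rfl⟩
    · rw [mul_one]; exact Or.inr ⟨a, ha, rfl⟩
    by_cases hab : a = b
    · subst hab; exact Or.inl (invP_sq ha)
    · exact Or.inr ⟨_, (aList_mul ha hb hab).1, (aList_mul ha hb hab).2.1⟩
  inv_mem' := by
    rintro p (rfl | ⟨a, ha, rfl⟩)
    · exact Or.inl inv_one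
    · exact Or.inr ⟨a, ha, inv_eq_of_mul_eq_one_right (invP_sq ha)⟩

theorem mem_A0f {p : Perm V} : p ∈ A0f ↔ p = 1 ∨ ∃ i ∈ aList, p = invP i := Iff.rfl

theorem A0f_le : A0f ≤ T0 := by
  rintro p (rfl | ⟨a, ha, rfl⟩)
  · exact one_mem _
  · exact invP_mem (aList_lt ha).1

theorem invP_alist_inj {a b : ℕ} (ha : a ∈ aList) (hb : b ∈ aList) (h : invP a = invP b) : a = b := by
  have h1 := order_inj (invs_lt (aList_lt ha).1).1 (invs_lt (aList_lt hb).1).1
    (fp_congr (invP_isE (aList_lt ha).1) (h ▸ invP_isE (aList_lt hb).1))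
  obtain ⟨i, hi, rfl⟩ := List.getElem_of_mem ha
  obtain ⟨j, hj, rfl⟩ := List.getElem_of_mem hb
  have key : ∀ i j, i < 15 → j < i → invs.getD (aList.getD i 0) 0 ≠ invs.getD (aList.getD j 0) 0 := fun i j hi hji e => by
    have h := List.all_eq_true.mp (List.all_eq_true.mp special_ok.2.1 i (List.mem_range.mpr hi)) j (List.mem_range.mpr hji)
    rw [Bool.not_eq_true', ← Bool.not_eq_true, Nat.beq_eq] at h
    exact h e
  rw [← List.getD_eq_getElem aList 0 hi, ← List.getD_eq_getElem aList 0 hj] at h1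
  rcases Nat.lt_trichotomy i j with hl | hl | hl
  · exact absurd h1.symm (key j i (aList_ok.1 ▸ hj) hl)
  · simp only [hl]
  · exact absurd h1 (key i j (aList_ok.1 ▸ hi) hl)

theorem card_A0f : Nat.card A0f = 16 := by
  classical
  let f : Option {i // i ∈ aList.toFinset} → A0f := fun o => match o with
    | none => 1
    | some i => ⟨invP i.1, Or.inr ⟨i.1, List.mem_toFinset.mp i.2, rfl⟩⟩
  have hne : ∀ i : {i // i ∈ aList.toFinset}, invP i.1 ≠ 1 := fun i =>
    invP_ne (aList_lt (List.mem_toFinset.mp i.2)).1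
  have hf : Function.Bijective f := by
    refine ⟨?_, fun p => ?_⟩
    · rintro (_ | i) (_ | j) h
      · rfl
      · exact absurd (congrArg Subtype.val h).symm (hne j)
      · exact absurd (congrArg Subtype.val h) (hne i)
      · exact congrArg some (Subtype.ext (invP_alist_inj (List.mem_toFinset.mp i.2) (List.mem_toFinset.mp j.2)
          (congrArg Subtype.val h)))
    · obtain ⟨p, rfl | ⟨i, hi, rfl⟩⟩ := p
      · exact ⟨none, rfl⟩
      · exact ⟨some ⟨i, List.mem_toFinset.mpr hi⟩, rfl⟩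
  rw [← Nat.card_congr (Equiv.ofBijective f hf), Nat.card_eq_fintype_card, Fintype.card_option, Fintype.card_coe,
    List.toFinset_card_of_nodup, aList_ok.1]
  refine List.nodup_iff_injective_getElem.mpr fun i j h => ?_
  by_contra hne
  have key : ∀ i j, i < 15 → j < i → aList.getD i 0 ≠ aList.getD j 0 := fun i j hi hji e => by
    have h := List.all_eq_true.mp (List.all_eq_true.mp special_ok.2.1 i (List.mem_range.mpr hi)) j (List.mem_range.mpr hji)
    rw [e, Bool.not_eq_true', ← Bool.not_eq_true, Nat.beq_eq] at h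
    exact h rfl
  have e : aList.getD i.val 0 = aList.getD j.val 0 := by
    rw [List.getD_eq_getElem _ _ i.2, List.getD_eq_getElem _ _ j.2]; exact h
  rcases Nat.lt_or_gt_of_ne (fun e => hne (Fin.ext e)) with hl | hl
  · exact key _ _ (aList_ok.1 ▸ j.2) hl e.symm
  · exact key _ _ (aList_ok.1 ▸ i.2) hl e

/-- The fixed vectors. -/
def Uset : Set V := inM (maskOf planeL)

theorem plane_mask : maskOK planeL (maskOf planeL) = true := by
  have h := plane_ok.1
  simp only [Bool.and_eq_true] at h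
  exact h.2

theorem Uset_iff (v : V) : v ∈ Uset ↔ ∀ x ∈ aQuad, invP x v = v := by
  constructor
  · intro hv x hx
    have hq := List.all_eq_true.mp aList_ok.2.2.2.1 x hx
    simp only [Bool.and_eq_true, Nat.blt_eq] at hq
    have h := List.all_eq_true.mp (List.all_eq_true.mp plane_ok.2.2.2.2 x (mask_list hq.2)) (cdV v)
      ((mem_of_maskOK plane_mask).mp hv)
    conv_lhs => rw [← vecN_cdV v, (invP_isE hq.1).apply_vecN, Nat.eq_of_beq_eq_true h]
    exact vecN_cdV v
  · intro hv
    have hq : ∀ x ∈ aQuad, x < 71 := fun x hx => by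
      have h := List.all_eq_true.mp aList_ok.2.2.2.1 x hx
      simp only [Bool.and_eq_true, Nat.blt_eq] at h
      exact h.1
    have h := fixed_mem hq hv
    have h1 := plane_ok.1
    simp only [Bool.and_eq_true] at h1
    rw [Uset, mem_inM, ← Nat.eq_of_beq_eq_true h1.1, testBit_maskOf]
    exact h

theorem A0f_fix {p : Perm V} (hp : p ∈ A0f) {v : V} (hv : v ∈ Uset) : p v = v := by
  rcases hp with rfl | ⟨a, ha, rfl⟩
  · rfl
  · have h := List.all_eq_true.mp (List.all_eq_true.mp plane_ok.2.2.2.2 a ha) (cdV v)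
      ((mem_of_maskOK plane_mask).mp hv)
    conv_lhs => rw [← vecN_cdV v, (invP_isE (aList_lt ha).1).apply_vecN, Nat.eq_of_beq_eq_true h]
    exact vecN_cdV v

theorem Uset_mem {v : V} (h : ∀ p ∈ A0f, p v = v) : v ∈ Uset := (Uset_iff v).mpr fun x hx => by
  have hq := List.all_eq_true.mp aList_ok.2.2.2.1 x hx
  simp only [Bool.and_eq_true] at hq
  exact h _ (Or.inr ⟨x, mask_list hq.2, rfl⟩)

theorem A0f_smul {p : Perm V} (hp : p ∈ A0f) (k : K) (v : V) : p (k • v) = k • p v := by
  rcases hp with rfl | ⟨a, ha, rfl⟩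
  · rfl
  · have h := invP_isE (aList_lt ha).1
    rw [h, h, mapE, mapE, (aList_lt ha).2, cond_false, cond_false]
    exact Matrix.mulVec_smul _ _ _

theorem Uset_add {u v : V} (hu : u ∈ Uset) (hv : v ∈ Uset) : u + v ∈ Uset := Uset_mem fun p hp => by
  have e : p (u + v) = p u + p v := by
    rcases hp with rfl | ⟨a, ha, rfl⟩
    · rfl
    · exact (invP_isE (aList_lt ha).1).map_add u v
  rw [e, A0f_fix hp hu, A0f_fix hp hv]

theorem Uset_smul (k : K) {v : V} (hv : v ∈ Uset) : k • v ∈ Uset :=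
  Uset_mem fun p hp => by rw [A0f_smul hp, A0f_fix hp hv]

theorem ncard_Uset : Uset.ncard = 64 := by rw [Uset, ncard_inM, Nat.eq_of_beq_eq_true span_ok.2.2]

theorem Uset_zero : (0 : V) ∈ Uset := Uset_mem fun p hp => by
  rcases hp with rfl | ⟨a, ha, rfl⟩
  · rfl
  · have h := (invP_isE (aList_lt ha).1).map_add 0 0
    rwa [add_zero, left_eq_add] at h

theorem Uset_iso {u v : V} (hu : u ∈ Uset) (hv : v ∈ Uset) : hV u v = 0 := by
  have h := List.all_eq_true.mp (List.all_eq_true.mp plane_ok.2.2.2.1 (cdV u) ((mem_of_maskOK plane_mask).mp hu)) (cdV v)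
    ((mem_of_maskOK plane_mask).mp hv)
  rw [hN_eq, vecN_cdV, vecN_cdV, beqK_iff] at h
  exact h

theorem planeB_mem (n : ℕ) (hn : n ∈ planeB) : vecN n ∈ Uset := by
  obtain ⟨m, hm, e⟩ := List.any_eq_true.mp (List.all_eq_true.mp span_ok.2.1 n hn)
  exact Nat.eq_of_beq_eq_true e ▸ vecN_mem plane_mask hm

/-- The normalising element of a number. -/
noncomputable def pgP (j : ℕ) : Perm V := lin (elN (pGens.getD j 0))

theorem pgP_spec (j : ℕ) (hj : j < 2) : pgP j ∈ KL ∧ (∀ v, pgP j v ∈ Uset ↔ v ∈ Uset) ∧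
    ∀ a < 15, ∃ l < 15, (aConj.getD j []).getD a 15 = l ∧
      pgP j * invP (aList.getD a 0) * (pgP j)⁻¹ = invP (aList.getD l 0) := by
  have hj' : j < pGens.length := pGens_ok.2.1.symm ▸ hj
  obtain ⟨hn, hw⟩ := wordsB_spec pGens_ok.1 hj'
  have hE := isE_elN hn
  refine ⟨Subgroup.mem_map_of_mem _ (mem_word hn hw), fun v => ?_, fun a ha => ?_⟩
  · have himg : pgP j '' Uset = Uset := image_eq_of_move hE plane_mask (List.all_eq_true.mpr fun n hn' => by
      have h := List.all_eq_true.mp pGens_ok.2.2.1 _ (List.getElem_mem hj')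
      rw [← List.getD_eq_getElem pGens 0 hj'] at h
      exact List.all_eq_true.mp h n hn') rfl
    conv_lhs => rw [← himg]
    exact (pgP j).injective.mem_set_image
  · have h := List.all_eq_true.mp (List.all_eq_true.mp pGens_ok.2.2.2.1 j (List.mem_range.mpr hj)) a (List.mem_range.mpr ha)
    simp only [Bool.and_eq_true, Nat.blt_eq] at h
    refine ⟨_, h.1, rfl, ?_⟩
    have hmem : ∀ i < 15, aList.getD i 0 ∈ aList := fun i hi => by
      rw [List.getD_eq_getElem _ _ (aList_ok.1.symm ▸ hi)]; exact List.getElem_mem _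
    have hlt : ∀ i < 15, aList.getD i 0 < 71 := fun i hi => (aList_lt (hmem i hi)).1
    rw [mul_inv_eq_iff_eq_mul]
    exact (hE.mul (invP_isE (hlt a ha))).eq ((invP_isE (hlt _ h.1)).mul hE) h.2

end CfsgLib.Fi24Q
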