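/-
Groups of large Fischer type: the largest elementary abelian subgroup of the standard Sylow two-subgroup.
-/
import Cfsg.Agent.Lib.Fi24Q.NonCentral
import Cfsg.Agent.Lib.Fi24Q.Plane

set_option autoImplicit false
set_option linter.unusedSectionVars false
set_option linter.style.haveILetI false

namespace CfsgLib.Fi24Q

open Matrix CfsgLib.G24 CfsgLib.SUSixSub Equiv CfsgLib.ExtraTwo

attribute [local irreducible] maskA maskB aList aQuad planeL aConj aTree pGens invs invMul T0 invP mulI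

variable {G : Type*} [Group G] [Finite G] {z : G} {Q : Subgroup (Cz z)} [hQn : Q.Normal]

namespace Data

variable (D : Data z Q)

theorem card_pre (S : Set V) : Nat.card {a : Q // D.pi a ∈ S} = 2 * S.ncard := by
  classical
  let s := Function.surjInv D.pi_surj
  have hs : ∀ v, D.pi (s v) = v := Function.surjInv_eq D.pi_surj
  have hz : D.pi D.zq = 0 := (D.pi_ker _).mpr (Or.inr rfl)
  let f : S × Bool → {a : Q // D.pi a ∈ S} := fun x => ⟨bif x.2 then s x.1 * D.zq else s x.1, by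
    cases x.2 <;> simp [D.pi_mul, hz, hs]⟩
  have hf : Function.Bijective f := by
    refine ⟨fun x y h => ?_, fun a => ?_⟩
    · have h1 : (bif x.2 then s x.1 * D.zq else s x.1) = (bif y.2 then s y.1 * D.zq else s y.1) := congrArg Subtype.val h
      have h2 := congrArg D.pi h1
      obtain ⟨v, c⟩ := x
      obtain ⟨w, d⟩ := y
      have h3 : v = w := Subtype.ext (by cases c <;> cases d <;> simpa [D.pi_mul, hz, hs] using h2)
      subst h3
      cases c <;> cases d <;> first | rfl | exact absurd h1 (by simp [D.ext2.ne])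
    · rcases (D.toPre.pi_eq).mp (hs (D.pi a.1)) with e | e
      · exact ⟨(⟨_, a.2⟩, false), Subtype.ext e.symm⟩
      · exact ⟨(⟨_, a.2⟩, true), Subtype.ext e.symm⟩
  rw [← Nat.card_congr (Equiv.ofBijective f hf), Nat.card_prod, Nat.card_coe_set_eq,
    Nat.card_eq_fintype_card (α := Bool), Fintype.card_bool, mul_comm]

theorem pi_inv (a : Q) : D.pi a⁻¹ = D.pi a := by
  have h : D.pi a + D.pi a⁻¹ = 0 := by rw [← D.pi_mul, mul_inv_cancel, D.toPre.pi_one]
  have key : ∀ a b : K, a + b = 0 → b = a := by decide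
  exact funext fun i => key _ _ (congrFun h i)

/-- The core elements over the fixed vectors. -/
def Kc : Subgroup (Cz z) where
  carrier := {c | ∃ h : c ∈ Q, D.pi ⟨c, h⟩ ∈ Uset}
  one_mem' := ⟨one_mem Q, by
    rw [show (⟨1, one_mem Q⟩ : Q) = 1 from rfl, D.toPre.pi_one]; exact Uset_zero⟩
  mul_mem' := by
    rintro a b ⟨ha, hau⟩ ⟨hb, hbu⟩
    refine ⟨mul_mem ha hb, ?_⟩
    rw [show (⟨a * b, mul_mem ha hb⟩ : Q) = ⟨a, ha⟩ * ⟨b, hb⟩ from rfl, D.pi_mul]
    exact Uset_add hau hbu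
  inv_mem' := by
    rintro a ⟨ha, hau⟩
    refine ⟨inv_mem ha, ?_⟩
    rw [show (⟨a⁻¹, inv_mem ha⟩ : Q) = (⟨a, ha⟩ : Q)⁻¹ from rfl, D.pi_inv]
    exact hau

theorem mem_Kc {a : Q} : (a : Cz z) ∈ D.Kc ↔ D.pi a ∈ Uset :=
  ⟨fun ⟨_, h⟩ => h, fun h => ⟨a.2, h⟩⟩

theorem Kc_le : D.Kc ≤ Q := fun _ ⟨h, _⟩ => h

theorem card_Kc : Nat.card D.Kc = 128 := by
  rw [Nat.card_congr (β := {a : Q // D.pi a ∈ Uset}) ⟨fun c => ⟨⟨c.1, c.2.1⟩, c.2.2⟩, fun a => ⟨a.1.1, a.1.2, a.2⟩,
    fun _ => rfl, fun _ => rfl⟩, D.card_pre, ncard_Uset]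

theorem Kc_sq {c : Cz z} (h : c ∈ D.Kc) : c * c = 1 := by
  obtain ⟨hc, hu⟩ := h
  exact congrArg Subtype.val ((D.sq_iff ⟨c, hc⟩).mpr (Uset_iso hu hu))

theorem Kc_comm {c d : Cz z} (h : c ∈ D.Kc) (h' : d ∈ D.Kc) : c * d = d * c := by
  obtain ⟨hc, hu⟩ := h
  obtain ⟨hd, hu'⟩ := h'
  exact congrArg Subtype.val (D.orth ⟨c, hc⟩ ⟨d, hd⟩ (Uset_iso hu hu'))

/-- The inverse image of the special subgroup. -/
noncomputable def Pc : Subgroup (Cz z) := A0f.comap D.th

/-- The lifts of the spanning vectors. -/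
noncomputable def bQ (k : ℕ) : Q := Function.surjInv D.pi_surj (vecN (planeB.getD k 0))

theorem bQ_pi (k : ℕ) : D.pi (D.bQ k) = vecN (planeB.getD k 0) := Function.surjInv_eq D.pi_surj _

theorem bQ_mem {k : ℕ} (hk : k < 6) : D.pi (D.bQ k) ∈ Uset := by
  rw [D.bQ_pi]
  refine planeB_mem _ ?_
  rw [List.getD_eq_getElem planeB 0 (show k < planeB.length from hk)]
  exact List.getElem_mem _

/-- The first lifts. -/
def bSet (i : ℕ) : Set (Cz z) := {c | ∃ k < i, c = (D.bQ k : Cz z)}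

/-- The elementary subgroup. -/
noncomputable def Ae : Subgroup (Cz z) := D.Pc ⊓ Subgroup.centralizer (D.bSet 6)

theorem conj_plane {p : Cz z} (hp : p ∈ D.Pc) {a : Q} (ha : D.pi a ∈ Uset) :
    p * a * p⁻¹ = a ∨ p * (a : Cz z) * p⁻¹ = (a : Cz z) * (D.zq : Cz z) := by
  have h := A0f_fix (p := D.th p) hp ha
  rw [D.th_pi] at h
  rcases (D.toPre.pi_eq).mp h.symm with e | e
  · exact Or.inl (congrArg Subtype.val e)
  · exact Or.inr (congrArg Subtype.val e)

theorem card_half {X : Subgroup (Cz z)} (hX : X ≤ D.Pc) {a : Q} (ha : D.pi a ∈ Uset) :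
    Nat.card X ≤ 2 * Nat.card ↥(X ⊓ Subgroup.centralizer ({(a : Cz z)} : Set (Cz z))) := by
  classical
  set C := Subgroup.centralizer ({(a : Cz z)} : Set (Cz z))
  have hC : ∀ p : Cz z, p ∈ C ↔ p * a * p⁻¹ = a := fun p => by
    rw [Subgroup.mem_centralizer_singleton_iff, mul_inv_eq_iff_eq_mul]
  by_cases h : ∃ e ∈ X, e ∉ C
  · obtain ⟨e, he, he'⟩ := h
    have hzc : ((D.zq : Q) : Cz z) ∈ Subgroup.center (Cz z) := Subgroup.mem_center_iff.mpr fun g =>
      Subtype.ext (by rw [Subgroup.coe_mul, Subgroup.coe_mul, D.coe_zq]; exact Subgroup.mem_centralizer_singleton_iff.mp g.2)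
    have hee := (D.conj_plane (hX he) ha).resolve_left fun e' => he' ((hC e).mpr e')
    let f : X → Bool × ↥(X ⊓ C) := fun p =>
      if hp : (p : Cz z) ∈ C then (false, ⟨p, p.2, hp⟩)
      else (true, ⟨p * e, mul_mem p.2 he, (hC _).mpr (by
        have hpp := (D.conj_plane (hX p.2) ha).resolve_left fun e' => hp ((hC _).mpr e')
        have hzz : ((D.zq : Q) : Cz z) * D.zq = 1 := congrArg Subtype.val D.ext2.zz
        calc (p : Cz z) * e * a * ((p : Cz z) * e)⁻¹ = p * (e * a * e⁻¹) * (p : Cz z)⁻¹ := by group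
          _ = p * a * (p : Cz z)⁻¹ * D.zq := by
            rw [hee, mul_assoc, mul_assoc (a : Cz z), ← Subgroup.mem_center_iff.mp hzc (p : Cz z)⁻¹]
            simp only [mul_assoc]
          _ = a := by rw [hpp, mul_assoc, hzz, mul_one])⟩)
    have hf : Function.Injective f := fun p q h => by
      simp only [f] at h
      split at h <;> split at h <;> simp only [Prod.mk.injEq, Bool.false_eq_true, Bool.true_eq_false, false_and,
        true_and] at h
      · exact Subtype.ext (congrArg Subtype.val h :)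
      · exact Subtype.ext (mul_right_cancel (congrArg Subtype.val h :))
    refine (Nat.card_le_card_of_injective f hf).trans ?_
    rw [Nat.card_prod, Nat.card_eq_fintype_card (α := Bool), Fintype.card_bool]
  · push Not at h
    rw [inf_eq_left.mpr fun p hp => h p hp]
    omega

variable (hR : D.R = Sg)
include hR

theorem T0_range : T0 ≤ D.th.range := T0_le (hR ▸ D.rng)

theorem card_Pc : Nat.card D.Pc = 2 ^ 17 := by
  have h := D.card_split D.Pc
  rw [Pc, Subgroup.map_comap_eq_self (A0f_le.trans (D.T0_range hR)), card_A0f] at h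
  have hq : A0f.comap D.th ⊓ Q = Q := inf_eq_right.mpr fun q hq => by
    rw [Subgroup.mem_comap, (D.th_ker q).mpr hq]; exact one_mem _
  rw [hq, D.card_Q] at h
  rw [Pc, ← h]
  norm_num

theorem card_Ae_ge : 2 ^ 11 ≤ Nat.card D.Ae := by
  have key : ∀ i ≤ 6, 2 ^ 17 ≤ 2 ^ i * Nat.card ↥(D.Pc ⊓ Subgroup.centralizer (D.bSet i)) := by
    intro i
    induction i with
    | zero =>
      intro _
      have e : D.Pc ⊓ Subgroup.centralizer (D.bSet 0) = D.Pc := inf_eq_left.mpr fun p _ =>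
        Subgroup.mem_centralizer_iff.mpr fun c hc => by obtain ⟨k, hk, -⟩ := hc; omega
      rw [e, D.card_Pc hR, pow_zero, one_mul]
    | succ i ih =>
      intro hi
      refine (ih (by omega)).trans ?_
      rw [pow_succ, mul_assoc]
      refine Nat.mul_le_mul_left _ ((D.card_half inf_le_left (D.bQ_mem (k := i) (by omega))).trans ?_)
      refine Nat.mul_le_mul_left _ (Subgroup.card_le_of_le fun p hp => ⟨hp.1.1, Subgroup.mem_centralizer_iff.mpr fun c hc => ?_⟩)
      obtain ⟨k, hk, rfl⟩ := hc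
      rcases Nat.lt_or_ge k i with h | h
      · exact Subgroup.mem_centralizer_iff.mp hp.1.2 _ ⟨k, h, rfl⟩
      · rw [show k = i by omega]
        exact (Subgroup.mem_centralizer_singleton_iff.mp hp.2).symm
  have h := key 6 le_rfl
  rw [show (2 : ℕ) ^ 17 = 2 ^ 6 * 2 ^ 11 by norm_num] at h
  exact Nat.le_of_mul_le_mul_left h (by norm_num)

omit hR in
theorem Ae_comm_Kc {a c : Cz z} (ha : a ∈ D.Ae) (hc : c ∈ D.Kc) : a * c = c * a := by
  obtain ⟨hcQ, hu⟩ := hc
  let W : Subgroup Q := (Subgroup.centralizer ({a} : Set (Cz z))).comap Q.subtype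
  have hW : ∀ u : Q, u ∈ W ↔ (u : Cz z) * a = a * u := fun u => Subgroup.mem_centralizer_singleton_iff
  have hb : ∀ k < 6, D.bQ k ∈ W := fun k hk => (hW _).mpr (Subgroup.mem_centralizer_iff.mp ha.2 _ ⟨k, hk, rfl⟩)
  have hz : D.zq ∈ W := (hW _).mpr (Subtype.ext (by
    rw [Subgroup.coe_mul, Subgroup.coe_mul, D.coe_zq]; exact (Subgroup.mem_centralizer_singleton_iff.mp a.2).symm))
  have span : ∀ (l : List ℕ), (∀ n ∈ l, ∃ k < 6, planeB.getD k 0 = n) → ∀ n ∈ spanV l, ∃ u ∈ W, D.pi u = vecN n := by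
    intro l
    induction l with
    | nil =>
      intro _ n hn
      rw [spanV, List.mem_singleton] at hn
      exact ⟨1, one_mem _, by rw [hn, D.toPre.pi_one, vecN_zero]⟩
    | cons b l ih =>
      intro hl n hn
      have ih' := ih fun m hm => hl m (List.mem_cons_of_mem _ hm)
      simp only [spanV, List.mem_append, List.mem_map] at hn
      rcases hn with hn | ⟨y, hy, rfl⟩
      · exact ih' n hn
      · obtain ⟨u, hu, e⟩ := ih' y hy
        obtain ⟨k, hk, hkb⟩ := hl b (List.mem_cons_self ..)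
        exact ⟨D.bQ k * u, mul_mem (hb k hk) hu, by rw [D.pi_mul, D.bQ_pi, e, hkb, vecN_add]⟩
  obtain ⟨m, hm, e⟩ := List.any_eq_true.mp (List.all_eq_true.mp span_ok.1 _ ((mem_of_maskOK plane_mask).mp hu))
  obtain ⟨u, hu', hpi⟩ := span planeB (fun n hn => by
    obtain ⟨k, hk, rfl⟩ := List.getElem_of_mem hn
    exact ⟨k, hk, List.getD_eq_getElem _ _ hk⟩) m hm
  rw [← Nat.eq_of_beq_eq_true e, vecN_cdV] at hpi
  have hcW : (⟨c, hcQ⟩ : Q) ∈ W := by
    rcases (D.toPre.pi_eq).mp hpi with e | e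
    · rw [e]; exact hu'
    · rw [e]; exact mul_mem hu' hz
  exact ((hW _).mp hcW).symm

omit hR in
theorem Ae_inf : D.Ae ⊓ Q = D.Kc := by
  refine le_antisymm ?_ fun c hc => ⟨⟨?_, ?_⟩, D.Kc_le hc⟩
  · intro a ha
    let A : Subgroup Q := D.Kc.comap Q.subtype
    have hz : D.zq ∈ A := D.mem_Kc.mpr (by rw [(D.pi_ker _).mpr (Or.inr rfl)]; exact Uset_zero)
    have h := D.ext2.card_mul_card_centralizer hz
    have hA : Nat.card A = 128 := by
      rw [← D.card_Kc]
      exact Nat.card_congr ⟨fun c => ⟨c.1.1, c.2⟩, fun c => ⟨⟨c.1, D.Kc_le c.2⟩, c.2⟩, fun _ => rfl, fun _ => rfl⟩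
    rw [hA, D.card_Q] at h
    have hle : A ≤ Subgroup.centralizer (A : Set Q) := fun x hx => Subgroup.mem_centralizer_iff.mpr fun y hy =>
      Subtype.ext (D.Kc_comm hy hx)
    have hCA : A = Subgroup.centralizer (A : Set Q) := Subgroup.eq_of_le_of_card_ge hle (by omega)
    have hm : (⟨a, ha.2⟩ : Q) ∈ Subgroup.centralizer (A : Set Q) := Subgroup.mem_centralizer_iff.mpr fun y hy =>
      Subtype.ext (D.Ae_comm_Kc ha.1 hy).symm
    rw [← hCA] at hm
    exact hm
  · show D.th c ∈ A0f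
    rw [(D.th_ker c).mpr (D.Kc_le hc)]
    exact one_mem _
  · refine Subgroup.mem_centralizer_iff.mpr fun d hd => ?_
    obtain ⟨k, hk, rfl⟩ := hd
    exact D.Kc_comm (D.mem_Kc.mpr (D.bQ_mem hk)) hc

theorem Ae_map : D.Ae.map D.th = A0f ∧ Nat.card D.Ae = 2 ^ 11 := by
  have hle : D.Ae.map D.th ≤ A0f := by
    rintro _ ⟨a, ha, rfl⟩
    exact ha.1
  have h := D.card_split D.Ae
  rw [D.Ae_inf, D.card_Kc] at h
  have h1 := D.card_Ae_ge hR
  have h16 := Subgroup.card_le_of_le hle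
  rw [card_A0f] at h16
  exact ⟨Subgroup.eq_of_le_of_card_ge hle (by rw [card_A0f]; omega), by omega⟩

omit hR in
theorem conj_Ae {c a : Cz z} (hA : ∀ p ∈ A0f, D.th c * p * (D.th c)⁻¹ ∈ A0f)
    (hU : ∀ v ∈ Uset, (D.th c)⁻¹ v ∈ Uset) (ha : a ∈ D.Ae) : c * a * c⁻¹ ∈ D.Ae := by
  refine ⟨?_, Subgroup.mem_centralizer_iff.mpr fun d hd => ?_⟩
  · show D.th (c * a * c⁻¹) ∈ A0f
    rw [map_mul, map_mul, map_inv]
    exact hA _ ha.1
  · obtain ⟨k, hk, rfl⟩ := hd
    have hm : c⁻¹ * (D.bQ k : Cz z) * c ∈ D.Kc := by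
      have e : conjQ c⁻¹ (D.bQ k) = ⟨_, hQn.conj_mem _ (D.bQ k).2 c⁻¹⟩ := rfl
      have h : ((conjQ c⁻¹ (D.bQ k) : Q) : Cz z) ∈ D.Kc :=
        D.mem_Kc.mpr (by rw [← D.th_pi, map_inv]; exact hU _ (D.bQ_mem hk))
      simpa [conjQ] using h
    have h := D.Ae_comm_Kc ha hm
    calc (D.bQ k : Cz z) * (c * a * c⁻¹) = c * ((c⁻¹ * (D.bQ k : Cz z) * c) * a) * c⁻¹ := by group
      _ = c * (a * (c⁻¹ * (D.bQ k : Cz z) * c)) * c⁻¹ := by rw [h]
      _ = c * a * c⁻¹ * (D.bQ k : Cz z) := by group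

omit hR in
theorem sq_congr {a b : Cz z} (ha : a ∈ D.Ae) (hb : b ∈ D.Ae) (h : D.th a = D.th b) : b * b = a * a := by
  have hk : a⁻¹ * b ∈ D.Kc := by
    rw [← D.Ae_inf]
    refine ⟨show a⁻¹ * b ∈ D.Ae from mul_mem (inv_mem ha) hb, (D.th_ker _).mp ?_⟩
    rw [map_mul, map_inv, h, inv_mul_cancel]
  have hc := D.Ae_comm_Kc ha hk
  calc b * b = a * ((a⁻¹ * b) * a) * (a⁻¹ * b) := by group
    _ = a * (a * (a⁻¹ * b)) * (a⁻¹ * b) := by rw [hc]
    _ = a * a * ((a⁻¹ * b) * (a⁻¹ * b)) := by group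
    _ = a * a := by rw [D.Kc_sq hk, mul_one]

omit hR in
theorem sq_cases {a : Cz z} (ha : a ∈ D.Ae) : a * a = 1 ∨ a * a = (D.zq : Cz z) := by
  have hx : ∀ v, D.th D.x v = K.w • v := D.x_act
  have hxi : ∀ v, (D.th D.x)⁻¹ v = K.v • v := fun v => by
    rw [Perm.inv_def, Equiv.symm_apply_eq, hx, smul_smul]
    exact (one_smul K v).symm
  have hconj : D.x * a * D.x⁻¹ ∈ D.Ae := D.conj_Ae (fun p hp => by
    have e : D.th D.x * p * (D.th D.x)⁻¹ = p := Equiv.ext fun v => by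
      rw [Perm.mul_apply, Perm.mul_apply, hxi, A0f_smul hp, hx, smul_smul]
      exact one_smul K _
    rwa [e]) (fun v hv => by rw [hxi]; exact Uset_smul _ hv) ha
  have heq : D.th a = D.th (D.x * a * D.x⁻¹) := by
    rw [map_mul, map_mul, map_inv]
    refine Equiv.ext fun v => ?_
    rw [Perm.mul_apply, Perm.mul_apply, hxi, A0f_smul ha.1, hx, smul_smul]
    exact (one_smul K _).symm
  have hsq := D.sq_congr ha hconj heq
  have hq : a * a ∈ D.Kc := by
    rw [← D.Ae_inf]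
    refine ⟨mul_mem ha ha, (D.th_ker _).mp ?_⟩
    rw [map_mul]
    rcases ha.1 with e | ⟨i, hi, e⟩
    · rw [e, one_mul]
    · rw [e, invP_sq hi]
  obtain ⟨hqQ, -⟩ := hq
  have hfix : conjQ D.x ⟨a * a, hqQ⟩ = ⟨a * a, hqQ⟩ := Subtype.ext (by
    show D.x * (a * a) * D.x⁻¹ = a * a
    conv_rhs => rw [← hsq]
    group)
  have h := D.th_pi D.x ⟨a * a, hqQ⟩
  rw [hfix, hx] at h
  have key : ∀ t : K, K.w * t = t → t = 0 := by decide
  have h0 : D.pi ⟨a * a, hqQ⟩ = 0 := funext fun i => key _ (congrFun h i)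
  rcases (D.pi_ker _).mp h0 with e | e
  · exact Or.inl (congrArg Subtype.val e)
  · exact Or.inr (congrArg Subtype.val e)

theorem Ae_sq {a : Cz z} (ha : a ∈ D.Ae) : a * a = 1 := by
  classical
  have hzc : ∀ g : Cz z, ((D.zq : Q) : Cz z) * g = g * D.zq := fun g => Subtype.ext (by
    rw [Subgroup.coe_mul, Subgroup.coe_mul, D.coe_zq]; exact (Subgroup.mem_centralizer_singleton_iff.mp g.2).symm)
  have hlift : ∀ i ∈ aList, ∃ b ∈ D.Ae, D.th b = invP i := fun i hi => by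
    have : invP i ∈ D.Ae.map D.th := (D.Ae_map hR).1.symm ▸ Or.inr ⟨i, hi, rfl⟩
    obtain ⟨b, hb, e⟩ := this
    exact ⟨b, hb, e⟩
  have hmem : ∀ k < 15, aList.getD k 0 ∈ aList := fun k hk => by
    rw [List.getD_eq_getElem _ _ (aList_ok.1.symm ▸ hk)]; exact List.getElem_mem _
  obtain ⟨b0, hb0, e0⟩ := hlift _ (hmem 0 (by norm_num))
  have hstep : ∀ j < 2, ∀ k < 15, ∀ b ∈ D.Ae, D.th b = invP (aList.getD k 0) →
      ∃ l < 15, (aConj.getD j []).getD k 15 = l ∧ ∃ b' ∈ D.Ae, D.th b' = invP (aList.getD l 0) ∧ b' * b' = b * b := by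
    intro j hj k hk b hb e
    obtain ⟨hKL, hU, hA⟩ := pgP_spec j hj
    obtain ⟨c, hc⟩ := (D.rng.le hKL : pgP j ∈ D.th.range)
    obtain ⟨l, hl, hle, hconj⟩ := hA k hk
    refine ⟨l, hl, hle, c * b * c⁻¹, D.conj_Ae ?_ ?_ hb, ?_, ?_⟩
    · rw [hc]
      intro p hp
      rcases hp with rfl | ⟨i, hi, rfl⟩
      · rw [mul_one, mul_inv_cancel]; exact one_mem _
      · obtain ⟨m, hm, rfl⟩ := List.getElem_of_mem hi
        obtain ⟨l', hl', -, h'⟩ := hA m (aList_ok.1 ▸ hm)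
        rw [List.getD_eq_getElem aList 0 hm] at h'
        exact Or.inr ⟨_, hmem l' hl', h'⟩
    · intro v hv
      rw [hc, ← hU, Perm.inv_def, Equiv.apply_symm_apply]
      exact hv
    · rw [map_mul, map_mul, map_inv, hc, e, hconj]
    · rw [show c * b * c⁻¹ * (c * b * c⁻¹) = c * (b * b) * c⁻¹ by group]
      rcases D.sq_cases hb with h | h <;> rw [h]
      · group
      · rw [← hzc, mul_inv_cancel_right]
  have htree : ∀ k < 15, ∃ l < 15, (aTree.getD k (0, 0, 0)).1 = l ∧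
      ∃ b ∈ D.Ae, D.th b = invP (aList.getD l 0) ∧ b * b = b0 * b0 := by
    intro k
    induction k using Nat.strong_induction_on with
    | _ k ih =>
      intro hk
      have h := List.all_eq_true.mp pGens_ok.2.2.2.2.2.1 k (List.mem_range.mpr hk)
      simp only [Bool.or_eq_true, Bool.and_eq_true, Nat.blt_eq] at h
      rcases h with ⟨-, h⟩ | ⟨⟨hp, hj⟩, h⟩
      · exact ⟨0, by norm_num, Nat.eq_of_beq_eq_true h, b0, hb0, e0, rfl⟩
      · obtain ⟨l, hl, hle, b, hb, e, hsq⟩ := ih _ hp (hp.trans hk)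
        obtain ⟨l', hl', hle', b', hb', e', hsq'⟩ := hstep _ hj l hl b hb e
        rw [hle, hle'] at h
        exact ⟨l', hl', (Nat.eq_of_beq_eq_true h).symm, b', hb', e', hsq'.trans hsq⟩
  have hall : ∀ b ∈ D.Ae, D.th b ≠ 1 → b * b = b0 * b0 := by
    intro b hb hne
    rcases hb.1 with e | ⟨i, hi, e⟩
    · exact absurd e hne
    obtain ⟨m, hm, rfl⟩ := List.getElem_of_mem hi
    obtain ⟨t, ht, he⟩ := List.any_eq_true.mp (List.all_eq_true.mp pGens_ok.2.2.2.2.2.2 m (List.mem_range.mpr (aList_ok.1 ▸ hm)))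
    obtain ⟨k, hk, rfl⟩ := List.getElem_of_mem ht
    obtain ⟨l, hl, hle, b', hb', e', hsq⟩ := htree k (pGens_ok.2.2.2.2.1 ▸ hk)
    rw [List.getD_eq_getElem _ _ hk, Nat.eq_of_beq_eq_true he] at hle
    rw [← hle, List.getD_eq_getElem aList 0 hm, ← e] at e'
    exact (D.sq_congr hb' hb e').trans hsq
  have hb1 : b0 * b0 = 1 := by
    refine (D.sq_cases hb0).resolve_right fun hz0 => ?_
    have h34 := special_ok.2.2
    simp only [Bool.and_eq_true, List.all_eq_true, List.any_eq_true] at h34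
    obtain ⟨hmem34, i, hi, ⟨hi3, hi4⟩, him⟩ := h34
    simp only [Bool.not_eq_true', ← Bool.not_eq_true, Nat.beq_eq] at hi3 hi4 him
    obtain ⟨m3, hm3, e3⟩ := hmem34 3 (by simp)
    obtain ⟨m4, hm4, e4⟩ := hmem34 4 (by simp)
    rw [← Nat.eq_of_beq_eq_true e3] at hm3
    rw [← Nat.eq_of_beq_eq_true e4] at hm4
    obtain ⟨a, ha, ea⟩ := hlift 3 hm3
    obtain ⟨b, hb, eb⟩ := hlift 4 hm4
    obtain ⟨c, hc, ec⟩ := hlift i hi
    set Z := ((D.zq : Q) : Cz z)
    have hz2 : Z * Z = 1 := congrArg Subtype.val D.ext2.zz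
    have hneZ : Z ≠ 1 := fun h => D.ext2.ne (Subtype.ext h)
    have hsq : ∀ d ∈ D.Ae, D.th d ≠ 1 → d * d = Z := fun d hd hne => (hall d hd hne).trans hz0
    have hanti : ∀ p q : Cz z, p * p = Z → q * q = Z → (p * q) * (p * q) = Z → q * p = p * q * Z := by
      intro p q hp hq hpq
      have hpi : p⁻¹ = p * Z := inv_eq_of_mul_eq_one_right (by rw [← mul_assoc, hp, hz2])
      have hqi : q⁻¹ = q * Z := inv_eq_of_mul_eq_one_right (by rw [← mul_assoc, hq, hz2])
      calc q * p = p⁻¹ * ((p * q) * (p * q)) * q⁻¹ := by group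
        _ = p * (Z * Z) * (q * Z) := by rw [hpq, hpi, hqi, mul_assoc p Z Z]
        _ = p * q * Z := by rw [hz2, mul_one, mul_assoc]
    have lp : ∀ {p q : ℕ}, p ∈ aList → q ∈ aList → p ≠ q → invP p * invP q ≠ 1 := fun {p q} hp hq hne h =>
      hne (invP_alist_inj hp hq (by rw [← inv_eq_of_mul_eq_one_right (invP_sq hp)]; exact inv_eq_of_mul_eq_one_right h))
    have ha2 := hsq a ha (by rw [ea]; exact invP_ne (aList_lt hm3).1)
    have hb2 := hsq b hb (by rw [eb]; exact invP_ne (aList_lt hm4).1)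
    have hc2 := hsq c hc (by rw [ec]; exact invP_ne (aList_lt hi).1)
    have hba := hanti a b ha2 hb2 (hsq _ (mul_mem ha hb) (by rw [map_mul, ea, eb]; exact lp hm3 hm4 (by norm_num)))
    have hca := hanti a c ha2 hc2 (hsq _ (mul_mem ha hc) (by rw [map_mul, ea, ec]; exact lp hm3 hi (Ne.symm hi3)))
    have hcb := hanti b c hb2 hc2 (hsq _ (mul_mem hb hc) (by rw [map_mul, eb, ec]; exact lp hm4 hi (Ne.symm hi4)))
    have habc := hsq _ (mul_mem (mul_mem ha hb) hc) (by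
      rw [map_mul, map_mul, ea, eb, ec, (aList_mul hm3 hm4 (by norm_num)).2.1]
      exact lp (aList_mul hm3 hm4 (by norm_num)).1 hi (Ne.symm him))
    have ext : ∀ {p q r : Cz z}, p * q = r → ∀ h, p * (q * h) = r * h := fun e h => by rw [← mul_assoc, e]
    have h1 : a * b * c * (a * b * c) = 1 := by
      calc a * b * c * (a * b * c) = a * b * (c * a) * b * c := by group
        _ = a * b * a * c * (Z * b) * c := by rw [hca]; group
        _ = a * (b * a) * (c * b) * (Z * c) := by rw [hzc b]; group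
        _ = a * (a * b * Z) * (b * c * Z) * (Z * c) := by rw [hba, hcb]
        _ = (a * a) * b * (Z * b) * c * (Z * Z) * c := by group
        _ = (a * a) * (b * b) * (Z * c) * c := by rw [hz2, mul_one, hzc b]; group
        _ = Z * Z * c * Z * c := by rw [ha2, hb2, hzc c]; group
        _ = c * (Z * c) := by rw [hz2, one_mul, mul_assoc]
        _ = (c * c) * Z := by rw [hzc c, mul_assoc]
        _ = 1 := by rw [hc2, hz2]
    exact hneZ (habc.symm.trans h1)
  by_cases h : D.th a = 1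
  · exact D.Kc_sq (D.Ae_inf ▸ ⟨ha, (D.th_ker a).mp h⟩)
  · exact (hall a ha h).trans hb1

omit hR in
theorem comm_of_sq {B : Subgroup (Cz z)} (h : ∀ b ∈ B, b * b = 1) {a b : Cz z} (ha : a ∈ B) (hb : b ∈ B) :
    a * b = b * a := by
  have h1 := h _ (mul_mem ha hb)
  calc a * b = a * (a * b * (a * b)) * b := by rw [h1, mul_one]
    _ = (a * a) * (b * a) * (b * b) := by group
    _ = b * a := by rw [h a ha, h b hb, one_mul, mul_one]

/-- Every elementary subgroup of the standard Sylow subgroup is small, or is the special one. -/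
theorem max_elementary {B : Subgroup (Cz z)} (hB : B ≤ T0.comap D.th) (h2 : ∀ b ∈ B, b * b = 1) :
    Nat.card B ≤ 2 ^ 11 ∧ (2 ^ 11 ≤ Nat.card B → B = D.Ae) := by
  haveI : Fact (Nat.Prime 2) := ⟨Nat.prime_two⟩
  set E := B.map D.th with hEdef
  have hsplit := D.card_split B
  rw [← hEdef] at hsplit
  have hEle : E ≤ T0 := by rintro _ ⟨b, hb, rfl⟩; exact hB hb
  have hE2 : ∀ p ∈ E, p * p = 1 := by
    rintro _ ⟨b, hb, rfl⟩
    rw [← map_mul, h2 b hb, map_one]
  have hEc : ∀ p ∈ E, ∀ q ∈ E, p * q = q * p := by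
    rintro _ ⟨a, ha, rfl⟩ _ ⟨b, hb, rfl⟩
    rw [← map_mul, ← map_mul, comm_of_sq h2 ha hb]
  obtain ⟨h64, hbig⟩ := elementary_cases hEle hEc hE2
  -- the part inside the core
  set S : Set V := {v | ∀ p ∈ E, p v = v}
  have hfix : ∀ q : Q, (q : Cz z) ∈ B → D.pi q ∈ S := by
    rintro q hq _ ⟨b, hb, rfl⟩
    rw [D.th_pi]
    congr 1
    exact Subtype.ext (show b * (q : Cz z) * b⁻¹ = q by rw [comm_of_sq h2 hb hq, mul_inv_cancel_right])
  let j : ↥(B ⊓ Q) → {a : Q // D.pi a ∈ S} := fun c => ⟨⟨c.1, c.2.2⟩, hfix _ c.2.1⟩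
  have hj : Function.Injective j := fun c d h => Subtype.ext (congrArg (fun a => ((a.1 : Q) : Cz z)) h)
  have hS : Nat.card ↥(B ⊓ Q) ≤ 2 * S.ncard := by
    rw [← D.card_pre]
    exact Nat.card_le_card_of_injective j hj
  have h7 : Nat.card ↥(B ⊓ Q) ≤ 2 ^ 7 := by
    have h := card_elementary_le D.ext2 (n := 6) (by rw [D.card_Q]; norm_num) (A := B.subgroupOf Q)
      ⟨⟨fun a b => Subtype.ext (Subtype.ext (comm_of_sq h2 a.2 b.2))⟩⟩
      (fun a ha => Subtype.ext (by rw [pow_two, Subgroup.coe_mul]; exact h2 _ ha))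
    rw [← Subgroup.subgroupOf_map_subtype, Subgroup.card_map_of_injective Q.subtype_injective]
    exact h.1
  obtain ⟨e, he⟩ := IsPGroup.iff_card.mp (fun p : E => ⟨1, Subtype.ext (by
    rw [pow_one, Subgroup.coe_pow, pow_two]; exact hE2 _ p.2)⟩ : IsPGroup 2 E)
  by_cases hsmall : Nat.card E ≤ 8
  · have := Nat.mul_le_mul hsmall h7
    rw [← hsplit]
    exact ⟨by omega, fun h => by omega⟩
  have h16 : 16 ≤ Nat.card E := by
    rw [he] at hsmall ⊢
    have h4 : 4 ≤ e := by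
      by_contra hlt
      exact hsmall ((Nat.pow_le_pow_right (by norm_num) (show e ≤ 3 by omega)).trans (by norm_num))
    exact le_trans (by norm_num) (Nat.pow_le_pow_right (by norm_num) h4)
  rcases hbig h16 with hA | hsmallS
  · have hEA : E = A0f := Subgroup.eq_of_le_of_card_ge hA (by rw [card_A0f]; omega)
    have hcE : Nat.card E = 16 := by rw [hEA, card_A0f]
    rw [hcE] at hsplit
    refine ⟨by omega, fun hge => ?_⟩
    have hSU : S ⊆ Uset := fun v hv => Uset_mem fun p hp => hv p (hEA ▸ hp)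
    have hSc := Set.ncard_le_ncard hSU (Set.toFinite _)
    rw [ncard_Uset] at hSc
    have hBQ : Nat.card ↥(B ⊓ Q) = 128 := by omega
    have hSU' : S = Uset := Set.eq_of_subset_of_ncard_le hSU (by rw [ncard_Uset]; omega) (Set.toFinite _)
    have hsur := hj.bijective_of_nat_card_le (by rw [D.card_pre, hSU', ncard_Uset, hBQ])
    have hKB : ∀ k < 6, (D.bQ k : Cz z) ∈ B := fun k hk => by
      obtain ⟨c, hc⟩ := hsur.2 ⟨D.bQ k, hSU' ▸ D.bQ_mem hk⟩
      have e : (c.1 : Cz z) = D.bQ k := congrArg (fun a => ((a.1 : Q) : Cz z)) hc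
      exact e ▸ c.2.1
    have hle : B ≤ D.Ae := fun b hb => ⟨show D.th b ∈ A0f from hEA ▸ Subgroup.mem_map_of_mem _ hb,
      Subgroup.mem_centralizer_iff.mpr fun d hd => by
        obtain ⟨k, hk, rfl⟩ := hd
        exact comm_of_sq h2 (hKB k hk) hb⟩
    exact Subgroup.eq_of_le_of_card_ge hle (by rw [(D.Ae_map hR).2]; exact hge)
  · have := Nat.mul_le_mul h64 (show Nat.card ↥(B ⊓ Q) ≤ 16 by omega)
    rw [← hsplit]
    exact ⟨by omega, fun h => by omega⟩

end Data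

end CfsgLib.Fi24Q
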