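/-
Groups of large Fischer type: the largest elementary abelian subgroup of a Sylow two-subgroup of the centralizer.
-/
import Cfsg.Agent.Lib.Fi24Q.Abelian

set_option autoImplicit false
set_option linter.unusedSectionVars false
set_option linter.style.haveILetI false

namespace CfsgLib.Fi24Q

open Matrix CfsgLib.G24 CfsgLib.SUSixSub Equiv

attribute [local irreducible] T0

variable {G : Type*} [Group G] [Finite G] {z : G} {Q : Subgroup (Cz z)} [hQn : Q.Normal]

theorem unique_max_elementary (hF : Cfsg.IsOfLargeFischerTypeAt z Q) (T : Sylow 2 ↥(Cz z)) :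
    ∃ A : Subgroup ↥(T : Subgroup (Cz z)), Cfsg.maxElementaryAbelianSubgroups 2 ↥(T : Subgroup (Cz z)) = {A} ∧
      Nat.card A = 2 ^ 11 ∧ Nat.card ↥(A.map (T : Subgroup (Cz z)).subtype ⊓ Q) = 2 ^ 7 ∧
      Nat.card ↥((A.map (T : Subgroup (Cz z)).subtype).map (QuotientGroup.mk' Q)) = 16 := by
  haveI : Fact (Nat.Prime 2) := ⟨Nat.prime_two⟩
  obtain ⟨D, -⟩ := exists_data hF
  have hR := (D.R_eq hF.1).1
  set P : Subgroup (Cz z) := T0.comap D.th with hP
  have hinf : ∀ H : Subgroup (Perm V), H.comap D.th ⊓ Q = Q := fun H => inf_eq_right.mpr fun q hq => by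
    rw [Subgroup.mem_comap, (D.th_ker q).mpr hq]; exact one_mem _
  have hcP : Nat.card P = 2 ^ 21 := by
    have h := D.card_split P
    rw [hP, Subgroup.map_comap_eq_self (D.T0_range hR), card_T0, hinf, D.card_Q] at h
    rw [hP, ← h]
    norm_num
  have hcC : Nat.card (Cz z) = 2 ^ 21 * 76545 := by
    have h := D.card_split ⊤
    rw [← MonoidHom.range_eq_map, D.rng.card, top_inf_eq, D.card_Q, Subgroup.card_top] at h
    rw [← h]
    norm_num
  have hf : 2 ^ (Nat.card (Cz z)).factorization 2 = 2 ^ 21 := by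
    rw [hcC, Nat.factorization_mul (by norm_num) (by norm_num), Finsupp.add_apply,
      Nat.Prime.factorization_pow Nat.prime_two, Finsupp.single_eq_same,
      Nat.factorization_eq_zero_of_not_dvd (by norm_num)]
  obtain ⟨c, hc⟩ := MulAction.exists_smul_eq (Cz z) T (Sylow.ofCard P (hcP.trans hf.symm))
  have hcT : (T : Subgroup (Cz z)).map (MulAut.conj c).toMonoidHom = P := by
    have h1 := congrArg (fun S : Sylow 2 (Cz z) => (S : Subgroup (Cz z))) hc
    simp only [Sylow.coe_subgroup_smul] at h1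
    exact h1
  set A' : Subgroup (Cz z) := D.Ae.map (MulAut.conj c⁻¹).toMonoidHom with hA'
  have hAeP : D.Ae ≤ P := fun a ha => show D.th a ∈ T0 from A0f_le ha.1
  have hA'T : A' ≤ (T : Subgroup (Cz z)) := by
    rintro _ ⟨a, ha, rfl⟩
    obtain ⟨t, ht, rfl⟩ : a ∈ (T : Subgroup (Cz z)).map (MulAut.conj c).toMonoidHom := hcT ▸ hAeP ha
    show (MulAut.conj c⁻¹) ((MulAut.conj c) t) ∈ _
    rw [← MulAut.mul_apply, ← map_mul, inv_mul_cancel, map_one]
    exact ht
  set A : Subgroup ↥(T : Subgroup (Cz z)) := A'.subgroupOf T with hA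
  have hAmap : A.map (T : Subgroup (Cz z)).subtype = A' := by
    rw [hA, Subgroup.subgroupOf_map_subtype, inf_eq_left.mpr hA'T]
  have hcard : Nat.card A = 2 ^ 11 := by
    rw [hA, Nat.card_congr (Subgroup.subgroupOfEquivOfLe hA'T).toEquiv, hA',
      Subgroup.card_map_of_injective (MulAut.conj c⁻¹).injective, (D.Ae_map hR).2]
  have hsq : ∀ a ∈ A, a ^ 2 = 1 := fun a ha => by
    obtain ⟨b, hb, e⟩ := (ha : (a : Cz z) ∈ A')
    refine Subtype.ext ?_
    have e' : (MulAut.conj c⁻¹) b = (a : Cz z) := e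
    rw [Subgroup.coe_pow, pow_two, ← e', ← map_mul, D.Ae_sq hR hb, map_one]
    rfl
  -- subgroups of exponent two
  have hmax : ∀ B : Subgroup ↥(T : Subgroup (Cz z)), Cfsg.IsElementaryAbelian 2 B →
      Nat.card B ≤ 2 ^ 11 ∧ (2 ^ 11 ≤ Nat.card B → B = A) := by
    intro B hB
    set B' : Subgroup (Cz z) := (B.map (T : Subgroup (Cz z)).subtype).map (MulAut.conj c).toMonoidHom with hB'
    have hB'P : B' ≤ P := by
      rw [← hcT]
      exact Subgroup.map_mono (Subgroup.map_subtype_le B)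
    have hB'sq : ∀ b ∈ B', b * b = 1 := by
      rintro _ ⟨_, ⟨b, hb, rfl⟩, rfl⟩
      rw [← map_mul, ← map_mul, ← pow_two b, hB.2 b hb, map_one, map_one]
    obtain ⟨h1, h2⟩ := D.max_elementary hR hB'P hB'sq
    rw [hB', Subgroup.card_map_of_injective (MulAut.conj c).injective,
      Subgroup.card_map_of_injective (T : Subgroup (Cz z)).subtype_injective] at h1 h2
    refine ⟨h1, fun h => Subgroup.map_injective (T : Subgroup (Cz z)).subtype_injective ?_⟩
    rw [hAmap, hA', ← h2 h, Subgroup.map_map, Subgroup.map_map]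
    congr 1
    exact MonoidHom.ext fun b => by simp [mul_assoc]
  have hAel : Cfsg.IsElementaryAbelian 2 A :=
    ⟨⟨⟨fun a b => Subtype.ext (Subtype.ext (Data.comm_of_sq (B := A') (fun u hu => by
      obtain ⟨v, hv, rfl⟩ := hu
      rw [← map_mul, D.Ae_sq hR hv, map_one]) a.2 b.2))⟩⟩, hsq⟩
  refine ⟨A, ?_, hcard, ?_, ?_⟩
  · ext B
    constructor
    · rintro ⟨hB, hBmax⟩
      exact (hmax B hB).2 (hcard ▸ hBmax A hAel)
    · rintro rfl
      exact ⟨hAel, fun B hB => hcard.symm ▸ (hmax B hB).1⟩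
  · rw [hAmap, hA']
    have hQc : Q = Q.map (MulAut.conj c⁻¹).toMonoidHom := by
      ext q
      constructor
      · intro hq
        exact ⟨c * q * c⁻¹, hQn.conj_mem q hq c, by simp [mul_assoc]⟩
      · rintro ⟨p, hp, rfl⟩
        simpa using hQn.conj_mem p hp c⁻¹
    have hi := Subgroup.map_inf D.Ae Q (MulAut.conj c⁻¹).toMonoidHom (MulAut.conj c⁻¹).injective
    rw [← hQc] at hi
    rw [← hi,
      Subgroup.card_map_of_injective (MulAut.conj c⁻¹).injective, D.Ae_inf, D.card_Kc]
    norm_num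
  · rw [hAmap, hA']
    let ψ : Cz z ⧸ Q →* Perm V := QuotientGroup.lift Q D.th fun q hq => (D.th_ker q).mpr hq
    have hψ : Function.Injective ψ := (injective_iff_map_eq_one ψ).mpr fun x hx => by
      obtain ⟨d, rfl⟩ := QuotientGroup.mk_surjective x
      exact (QuotientGroup.eq_one_iff d).mpr ((D.th_ker d).mp hx)
    rw [← Subgroup.card_map_of_injective hψ, Subgroup.map_map,
      show ψ.comp (QuotientGroup.mk' Q) = D.th from MonoidHom.ext fun _ => rfl, Subgroup.map_map,
      show D.th.comp (MulAut.conj c⁻¹).toMonoidHom = (MulAut.conj (D.th c)⁻¹).toMonoidHom.comp D.th from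
        MonoidHom.ext fun d => by simp [map_mul, map_inv],
      ← Subgroup.map_map, Subgroup.card_map_of_injective (MulAut.conj (D.th c)⁻¹).injective, (D.Ae_map hR).1, card_A0f]

end CfsgLib.Fi24Q
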